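import Cfsg.Agent.LThreeFi22.Inst
import Cfsg.Agent.R01.Strong
set_option linter.all false

/-!
# `Fi22`: involutions commuting with an element of prime order `≥ 7` (helper836)

`Inv K T` : `Ctx K T` together with the involutions (`x`, `x y`, `x y w` with commuting transpositions), the hexads and
the fact that a transposition is not a square.
* `inv_of_iso` : `e : K ≃* Spor.Fi22` gives `Inv K (TK e)`;
* `Inv.comm_tri` : a transposition commuting with a product of three commuting transpositions commutes with them;
* `Inv.comm_pair`, `Inv.comm_three` : an element `y` with `y ^ r = 1`, `r ≥ 7` prime, commuting with `a b` or `a b c` commutes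
  with `a`, `b`, (`c`).
-/

set_option autoImplicit false

namespace Cfsg.Agent.H836

open Cfsg Subgroup Cfsg.Agent.R01.FiFusion Cfsg.Agent.R01.FiFacts Cfsg.Agent.LThreeFi22
open Cfsg.Agent.KFacts.FiTT (TK)

universe v

/-- The facts on `Fi22`: `Ctx` and the involutions. -/
structure Inv (K : Type v) [Group K] (T : Set K) : Prop where
  ctx : Ctx K T
  facts : TFacts T
  /-- the involutions -/
  inv : ∀ f : K, f * f = 1 → f = 1 ∨ f ∈ T ∨
    (∃ a ∈ T, ∃ b ∈ T, a ≠ b ∧ a * b = b * a ∧ f = a * b) ∨ ∃ a b c : K, Tri T a b c ∧ f = a * b * c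
  /-- a transposition is not a square -/
  nsq : ∀ a ∈ T, ∀ x : K, x * x ≠ a

/-- **`Fi22` satisfies `Inv`** -/
theorem inv_of_iso {K : Type v} [Group K] (e : K ≃* Spor.Fi22) : Inv K (TK e) := by
  have C := Cfsg.Agent.LThreeFi22.Inst.ctx e
  have hfin : Finite K := C.finite
  have F : TFacts (TK e) := Cfsg.Agent.R01.FiLocal.tFacts_of_loc
    (Cfsg.Agent.R01.Fi22Facts.isThree_map e.symm Cfsg.Agent.R01.Fi22Facts.isThreeTranspositionClass_T)
    (Cfsg.Agent.R01.Fi22Facts.loc_map e.symm Cfsg.Agent.R01.Fi22Facts.loc)
  refine { ctx := C, facts := F, inv := ?_, nsq := ?_ }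
  · intro f hf
    apply F.inv f hf
    have h1 : e f * e f = 1 := by rw [← map_mul, hf, map_one]
    obtain ⟨t, ht, h2⟩ := Cfsg.Agent.R01.Strong.exists_commute h1
    refine ⟨e.symm t, ⟨t, ht, rfl⟩, ?_⟩
    apply e.injective
    rw [map_mul, map_mul, e.apply_symm_apply, h2]
  · intro a ha x hx
    obtain ⟨π, lift, B⟩ := Cfsg.Agent.LThreeFi22.Inst.base_at e ha
    have hxa : x * a = a * x := by rw [← hx]; group
    refine Cfsg.Agent.R01.InvForm.z_not_square B.lab
      ⟨x, Subgroup.mem_centralizer_singleton_iff.2 hxa⟩ (Subtype.ext ?_)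
    exact hx

variable {K : Type v} [Group K] {T : Set K}

namespace Inv

section basic

variable (I : Inv K T)
include I

/-- An element of `T` commuting with a product of two commuting members commutes with both. -/
theorem comm_of_pair {a b c : K} (ha : a ∈ T) (hb : b ∈ T) (hc : c ∈ T) (hab : a ≠ b)
    (cab : a * b = b * a) (h : c * (a * b) = a * b * c) : c * a = a * c ∧ c * b = b * c := by
  rcases I.ctx.cz a ha b hb hab cab c h with h1 | ⟨h1, -⟩
  · exact h1
  · exfalso
    have hcc := I.ctx.sq c hc
    have haa := I.ctx.sq a ha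
    have hci : c⁻¹ = c := inv_eq_of_mul_eq_one_left hcc
    rw [hci] at h1
    have hca : c * a = a * c := by
      rcases I.ctx.three c hc a ha with h2 | h2
      · exact h2
      · -- `b = c a c = a c a` commutes with `a`
        rw [h2] at h1
        rw [← h1] at cab
        have h3 : c * a = a * c := by
          calc c * a = a * (a * c * a) := by rw [← mul_assoc, ← mul_assoc, haa, one_mul]
            _ = a * c * a * a := cab
            _ = a * c := by rw [mul_assoc, haa, mul_one]
        exact h3
    apply hab
    rw [← h1, hca, mul_assoc, hcc, mul_one]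

/-- A transposition commuting with a product of three commuting transpositions commutes with them. -/
theorem comm_tri {x y w t : K} (ht : Tri T x y w) (htT : t ∈ T)
    (h : t * (x * y * w) = x * y * w * t) : t * x = x * t ∧ t * y = y * t ∧ t * w = w * t := by
  have xx := I.ctx.sq x ht.mx
  have yy := I.ctx.sq y ht.my
  have ww := I.ctx.sq w ht.mw
  have tt := I.ctx.sq t htT
  have xy := ht.cxy
  have xw := ht.cxw
  have yw := ht.cyw
  -- if `t` commutes with one then with all
  have one : ∀ a b c : K, a ∈ T → b ∈ T → c ∈ T → b ≠ c → a * a = 1 → b * c = c * b →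
      t * (a * (b * c)) = a * (b * c) * t → t * a = a * t → t * b = b * t ∧ t * c = c * t := by
    intro a b c ha hb hc hbc haa cbc h1 h2
    refine I.comm_of_pair hb hc htT hbc cbc ?_
    have h3 : a * (t * (b * c)) = a * (b * c * t) := by
      calc a * (t * (b * c)) = (a * t) * (b * c) := by group
        _ = (t * a) * (b * c) := by rw [h2]
        _ = t * (a * (b * c)) := by group
        _ = a * (b * c * t) := by rw [h1]; group
    exact mul_left_cancel h3
  by_cases hx : t * x = x * t
  · have e : x * (y * w) = x * y * w := (mul_assoc x y w).symm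
    obtain ⟨h1, h2⟩ := one x y w ht.mx ht.my ht.mw ht.yw xx yw (by rw [e, h]) hx
    exact ⟨hx, h1, h2⟩
  by_cases hy : t * y = y * t
  · have e : y * (x * w) = x * y * w := by rw [← mul_assoc, ← xy]
    obtain ⟨h1, h2⟩ := one y x w ht.my ht.mx ht.mw ht.xw yy xw (by rw [e, h]) hy
    exact ⟨h1, hy, h2⟩
  by_cases hw : t * w = w * t
  · have e : w * (x * y) = x * y * w := by
      calc w * (x * y) = (w * x) * y := by group
        _ = x * (w * y) := by rw [← xw]; group
        _ = x * y * w := by rw [← yw]; group
    obtain ⟨h1, h2⟩ := one w x y ht.mw ht.mx ht.my ht.xy ww xy (by rw [e, h]) hw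
    exact ⟨h1, h2, hw⟩
  exfalso
  have bx : x * t * x = t * x * t := (I.ctx.three x ht.mx t htT).resolve_left fun e => hx e.symm
  have by' : y * t * y = t * y * t := (I.ctx.three y ht.my t htT).resolve_left fun e => hy e.symm
  have bw : w * t * w = t * w * t := (I.ctx.three w ht.mw t htT).resolve_left fun e => hw e.symm
  -- `w t w = y x t x y`
  have k1 : w * t * w = y * (x * t * x) * y := by
    have e1 : t = (x * y * w) * t * (w * y * x) := by
      calc t = t * (x * y * w) * (w * y * x) := by
            rw [show t * (x * y * w) * (w * y * x) = t * (x * (y * (w * w) * y) * x) by group, ww,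
              mul_one, yy, mul_one, xx, mul_one]
        _ = _ := by rw [h]
    calc w * t * w = w * ((x * y * w) * t * (w * y * x)) * w := by rw [← e1]
      _ = (w * (x * y) * w) * t * (w * (y * x) * w) := by group
      _ = (x * y) * t * (y * x) := by
          have e2 : w * (x * y) * w = x * y := by
            calc w * (x * y) * w = (w * x) * (y * w) := by group
              _ = (x * w) * (w * y) := by rw [← xw, yw]
              _ = x * (w * w) * y := by group
              _ = x * y := by rw [ww, mul_one]
          have e3 : w * (y * x) * w = y * x := by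
            calc w * (y * x) * w = (w * y) * (x * w) := by group
              _ = (y * w) * (w * x) := by rw [← yw, xw]
              _ = y * (w * w) * x := by group
              _ = y * x := by rw [ww, mul_one]
          rw [e2, e3]
      _ = (y * x) * t * (x * y) := by rw [xy]
      _ = y * (x * t * x) * y := by group
  have k2 : w = w * t * w := by
    calc w = t * (t * w * t) * t := by
          rw [show t * (t * w * t) * t = (t * t) * w * (t * t) by group, tt, one_mul, mul_one]
      _ = t * (y * (t * x * t) * y) * t := by rw [← bw, k1, bx]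
      _ = (t * y * t) * x * (t * y * t) := by group
      _ = (y * t * y) * x * (y * t * y) := by rw [← by']
      _ = y * t * (y * x * y) * t * y := by group
      _ = y * t * x * t * y := by
          rw [← xy, show x * y * y = x * (y * y) by group, yy, mul_one]
      _ = y * (t * x * t) * y := by group
      _ = w * t * w := by rw [← bx, k1]
  apply hw
  have k3 : t * w = 1 := by
    apply mul_left_cancel (a := w)
    rw [mul_one]
    calc w * (t * w) = w * t * w := by group
      _ = w := k2.symm
  have k4 : w = t := by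
    calc w = t * t * w := by rw [tt, one_mul]
      _ = t * (t * w) := by group
      _ = t := by rw [k3, mul_one]
  rw [k4]

/-- Unique factorisation of a product of two commuting transpositions. -/
theorem uniq_pair {a b c d : K} (ha : a ∈ T) (hb : b ∈ T) (hc : c ∈ T) (hd : d ∈ T) (hab : a ≠ b)
    (cab : a * b = b * a) (ccd : c * d = d * c) (h : a * b = c * d) : c = a ∨ c = b := by
  by_contra hn
  rw [not_or] at hn
  obtain ⟨hca, hcb⟩ := hn
  have hcc := I.ctx.sq c hc
  have h1 : c * (a * b) = a * b * c := by rw [h, mul_assoc, ← ccd]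
  obtain ⟨ca, cb⟩ := I.comm_of_pair ha hb hc hab cab h1
  have hd1 : a * b * c = d := by rw [h, ccd, mul_assoc, hcc, mul_one]
  refine I.facts.prod a b c
    ⟨ha, hb, hc, hab, fun e => hca e.symm, fun e => hcb e.symm, cab, ca.symm, cb.symm⟩ ?_
  rw [hd1]
  exact hd

/-- **At most six transpositions occur in the factorisations of a product of three commuting transpositions.** -/
theorem mem_hex {a b c a' b' c' t u w : K} (H : Hex T a b c a' b' c') (h : Tri T t u w)
    (hz : t * u * w = a * b * c) : t = a ∨ t = b ∨ t = c ∨ t = a' ∨ t = b' ∨ t = c' := by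
  have sq := I.ctx.sq
  have h0 := H.t
  -- `t`, `u`, `w` commute with `z`
  have tz : t * (a * b * c) = a * b * c * t := by
    rw [← hz]
    calc t * (t * u * w) = t * (t * u) * w := by group
      _ = t * (u * t) * w := by rw [h.cxy]
      _ = t * u * (t * w) := by group
      _ = t * u * (w * t) := by rw [h.cxw]
      _ = t * u * w * t := by group
  have uz : u * (a * b * c) = a * b * c * u := by
    rw [← hz]
    calc u * (t * u * w) = (u * t) * (u * w) := by group
      _ = (t * u) * (w * u) := by rw [← h.cxy, h.cyw]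
      _ = t * u * w * u := by group
  have wz : w * (a * b * c) = a * b * c * w := by
    rw [← hz]
    calc w * (t * u * w) = (w * t) * u * w := by group
      _ = (t * w) * u * w := by rw [h.cxw]
      _ = t * (w * u) * w := by group
      _ = t * (u * w) * w := by rw [h.cyw]
      _ = t * u * w * w := by group
  obtain ⟨ta, tb, tc⟩ := I.comm_tri h0 h.mx tz
  obtain ⟨ua, ub, uc⟩ := I.comm_tri h0 h.my uz
  obtain ⟨wa, wb, wc⟩ := I.comm_tri h0 h.mw wz
  by_contra hn
  simp only [not_or] at hn
  obtain ⟨n1, n2, n3, n4, n5, n6⟩ := hn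
  -- a common member gives a pair
  have key : ∀ x y z' : K, x ∈ T → y ∈ T → z' ∈ T → y ≠ z' → y * z' = z' * y → x * (y * z') = a * b * c →
      t * x = x * t → ∀ v : K, v ∈ T → t * v = v * t → x * (t * v) = a * b * c → t = y ∨ t = z' := by
    intro x y z' hx hy hz' hyz cyz e1 ctx v hv ctv e2
    exact I.uniq_pair hy hz' h.mx hv hyz cyz ctv (mul_left_cancel (e1.trans e2.symm))
  have kx : ∀ v : K, v ∈ T → t * v = v * t → ∀ x : K, x * (t * v) = a * b * c → t * x = x * t →
      x ≠ a ∧ x ≠ b ∧ x ≠ c := by
    intro v hv ctv x e ctx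
    refine ⟨?_, ?_, ?_⟩
    · rintro rfl
      rcases key x b c h0.mx h0.my h0.mw h0.yw h0.cyw (by group) ta v hv ctv e with h1 | h1
      · exact n2 h1
      · exact n3 h1
    · rintro rfl
      have e1 : x * (a * c) = a * x * c := by rw [h0.cxy, mul_assoc]
      rcases key x a c h0.my h0.mx h0.mw h0.xw h0.cxw e1 tb v hv ctv e with h1 | h1
      · exact n1 h1
      · exact n3 h1
    · rintro rfl
      have e1 : x * (a * b) = a * b * x := by
        calc x * (a * b) = (x * a) * b := by group
          _ = a * (x * b) := by rw [← h0.cxw]; group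
          _ = a * b * x := by rw [← h0.cyw]; group
      rcases key x a b h0.mw h0.mx h0.my h0.xy h0.cxy e1 tc v hv ctv e with h1 | h1
      · exact n1 h1
      · exact n2 h1
  have eu : u * (t * w) = a * b * c := by rw [← hz, ← mul_assoc, ← h.cxy]
  have ew : w * (t * u) = a * b * c := by
    rw [← hz]
    calc w * (t * u) = (w * t) * u := by group
      _ = t * (w * u) := by rw [← h.cxw]; group
      _ = t * u * w := by rw [← h.cyw]; group
  obtain ⟨u1, u2, u3⟩ := kx w h.mw h.cxw u eu h.cxy
  obtain ⟨w1, w2, w3⟩ := kx u h.my h.cxy w ew h.cxw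
  have H' : Hex T a b c t u w :=
    { t := h0, t' := h
      aa := fun e => n1 e.symm, ab := fun e => u1 e.symm, ac := fun e => w1 e.symm
      ba := fun e => n2 e.symm, bb := fun e => u2 e.symm, bc := fun e => w2 e.symm
      ca := fun e => n3 e.symm, cb := fun e => u3 e.symm, cc := fun e => w3 e.symm
      caa := ta.symm, cab := ua.symm, cac := wa.symm
      cba := tb.symm, cbb := ub.symm, cbc := wb.symm
      cca := tc.symm, ccb := uc.symm, ccc := wc.symm
      prod := by
        rw [hz]
        have haa := sq a h0.mx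
        have hbb := sq b h0.my
        have hcc := sq c h0.mw
        calc a * b * c * (a * b * c) = a * b * (c * a) * b * c := by group
          _ = a * b * (a * c) * b * c := by rw [← h0.cxw]
          _ = a * (b * a) * c * b * c := by group
          _ = a * (a * b) * c * b * c := by rw [← h0.cxy]
          _ = (a * a) * b * (c * b) * c := by group
          _ = (a * a) * b * (b * c) * c := by rw [← h0.cyw]
          _ = (a * a) * (b * b) * (c * c) := by group
          _ = 1 := by rw [haa, hbb, hcc, one_mul, one_mul] }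
  rcases (I.facts.uniq a b c a' b' c' t u w H H').1 with e | e | e
  · exact n4 e
  · exact n5 e
  · exact n6 e

/-- an element with `y ^ r = 1`, `r ≥ 7` prime, fixes the members of an invariant set of at most 6 elements -/
theorem fix_small {r : ℕ} (hr : r.Prime) (h7 : 7 ≤ r) {y : K} (hy : y ^ r = 1) {S : Set K}
    (hS : ∀ s ∈ S, y * s * y⁻¹ ∈ S) (h6 : S.ncard ≤ 6) : ∀ s ∈ S, y * s = s * y := by
  have hfin : Finite K := I.ctx.finite
  have h1 := fix_modEq hr hy hS
  have h2 : {s | s ∈ S ∧ y * s = s * y}.ncard ≤ S.ncard := Set.ncard_le_ncard fun s hs => hs.1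
  have h3 : S.ncard = {s | s ∈ S ∧ y * s = s * y}.ncard := by
    have := Nat.ModEq.eq_of_lt_of_lt h1 (by omega) (by omega)
    exact this
  have h4 : {s | s ∈ S ∧ y * s = s * y} = S :=
    Set.eq_of_subset_of_ncard_le (fun s hs => hs.1) h3.le
  intro s hs
  rw [← h4] at hs
  exact hs.2

/-- an element of order `≥ 7` commuting with a product of two commuting transpositions commutes with both -/
theorem comm_pair {r : ℕ} (hr : r.Prime) (h7 : 7 ≤ r) {y : K} (hy : y ^ r = 1) {a b : K} (ha : a ∈ T)
    (hb : b ∈ T) (hab : a ≠ b) (cab : a * b = b * a) (h : y * (a * b) = a * b * y) :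
    y * a = a * y ∧ y * b = b * y := by
  rcases I.ctx.cz a ha b hb hab cab y h with h1 | ⟨h1, h2⟩
  · exact h1
  · have hS : ∀ s ∈ ({a, b} : Set K), y * s * y⁻¹ ∈ ({a, b} : Set K) := by
      rintro s (rfl | rfl)
      · rw [h1]; exact Or.inr rfl
      · rw [h2]; exact Or.inl rfl
    have h3 := I.fix_small hr h7 hy hS (by rw [Set.ncard_pair hab]; norm_num)
    exact ⟨h3 a (Or.inl rfl), h3 b (Or.inr rfl)⟩

/-- an element of order `≥ 7` commuting with a product of three commuting transpositions commutes with all of them -/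
theorem comm_three {r : ℕ} (hr : r.Prime) (h7 : 7 ≤ r) {y : K} (hy : y ^ r = 1) {a b c : K}
    (ht : Tri T a b c) (h : y * (a * b * c) = a * b * c * y) : y * a = a * y ∧ y * b = b * y ∧ y * c = c * y := by
  have hfin : Finite K := I.ctx.finite
  obtain ⟨a', b', c', H⟩ := I.facts.hex a b c ht
  let S : Set K := {t | ∃ u w, Tri T t u w ∧ t * u * w = a * b * c}
  have hS : ∀ s ∈ S, y * s * y⁻¹ ∈ S := by
    rintro t ⟨u, w, h1, h2⟩
    refine ⟨y * u * y⁻¹, y * w * y⁻¹, ⟨I.ctx.conj t h1.mx y, I.ctx.conj u h1.my y, I.ctx.conj w h1.mw y, ?_, ?_, ?_,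
      (conj_comm_iff y t u).2 h1.cxy, (conj_comm_iff y t w).2 h1.cxw, (conj_comm_iff y u w).2 h1.cyw⟩, ?_⟩
    · exact fun e => h1.xy (mul_left_cancel (mul_right_cancel e))
    · exact fun e => h1.xw (mul_left_cancel (mul_right_cancel e))
    · exact fun e => h1.yw (mul_left_cancel (mul_right_cancel e))
    · calc y * t * y⁻¹ * (y * u * y⁻¹) * (y * w * y⁻¹) = y * (t * u * w) * y⁻¹ := by group
        _ = a * b * c * y * y⁻¹ := by rw [h2, h]
        _ = a * b * c := by group
  have h6 : S.ncard ≤ 6 := by
    classical
    let F : Finset K := {a, b, c, a', b', c'}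
    have hsub : S ⊆ (F : Set K) := by
      rintro t ⟨u, w, h1, h2⟩
      have := I.mem_hex H h1 h2
      simpa [F] using this
    calc S.ncard ≤ (F : Set K).ncard := Set.ncard_le_ncard hsub
      _ = F.card := Set.ncard_coe_finset F
      _ ≤ 6 := Finset.card_le_six
  have h3 := I.fix_small hr h7 hy hS h6
  refine ⟨h3 a ⟨b, c, ht, rfl⟩, h3 b ⟨a, c, ⟨ht.my, ht.mx, ht.mw, ht.xy.symm, ht.yw, ht.xw, ht.cxy.symm, ht.cyw, ht.cxw⟩, ?_⟩,
    h3 c ⟨a, b, ⟨ht.mw, ht.mx, ht.my, ht.xw.symm, ht.yw.symm, ht.xy, ht.cxw.symm, ht.cyw.symm, ht.cxy⟩, ?_⟩⟩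
  · rw [ht.cxy]
  · calc c * a * b = (a * c) * b := by rw [ht.cxw]
      _ = a * (b * c) := by rw [mul_assoc, ← ht.cyw]
      _ = a * b * c := by group

end basic

end Inv

end Cfsg.Agent.H836
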