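import Mathlib
import Cfsg.Agent.Lib.MatDec
import Cfsg.Agent.Omega.Quasithin.Row.MTwelve
import Cfsg.Agent.H226.Tall.Defs
import Cfsg.Agent.Lib.Cores
import Cfsg.Agent.S2508
import Cfsg.Agent.H798.PSLDih
import Cfsg.Agent.SmallSimple.PSLTwoPart
import Cfsg.Agent.OddHalf.D8.JTwo.Sheet
import Cfsg.Agent.KFacts.LargeO2
import Cfsg.Agent.KFacts.AutLarge
import Cfsg.Agent.Involutions.NormalFour
import Cfsg.Agent.H229.Asym
import Cfsg.Agent.H282.LT.Perm
import Cfsg.Prelude.Def_Local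
import Cfsg.Agent.H731.SK.Rows
import Cfsg.Agent.S0252
import Cfsg.Agent.S0253
import Cfsg.Agent.S0254
import Cfsg.Agent.S0255
import Cfsg.Agent.S0256
import Cfsg.Agent.S2119
import Cfsg.Agent.H180.KM11Cube
import Cfsg.Agent.MTwelveType.SylowModel
import Cfsg.Agent.H419.Spor.M12
import Cfsg.Agent.H228.RedSylow
import Cfsg.Agent.H239.CharPLocal
import Cfsg.Agent.Lib.ThompsonPQ
import Cfsg.Agent.H246.RgdFixUTwo_mg
import Cfsg.Agent.KFacts.RgdVJ
import Cfsg.Agent.KFacts.RgdLieCharP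
import Cfsg.Agent.OddHalf.Small.U33
import Cfsg.Prelude.Def_EvenType
import Cfsg.Agent.H246.SzInner
import Cfsg.Agent.H246.TitsInner
import Cfsg.Agent.EvenType.ChevTwo
import Cfsg.Agent.H824.ProdLem
import Cfsg.Agent.Lib.SylowNormalInf
import Cfsg.Agent.KFacts.ChevTwoSysInst
import Cfsg.Agent.KFacts.ChevTwoInstE
import Cfsg.Agent.KFacts.RgdCent
import Cfsg.Agent.KFacts.RgdSyl
import Cfsg.Agent.OddHalf.D4.LineGTwoInst
import Cfsg.Agent.ChevFast.E6
import Cfsg.Agent.ChevFast.E7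
import Cfsg.Agent.ChevFast.E8
import Cfsg.Agent.ChevFast.F4
import Cfsg.Agent.S0205
import Cfsg.Agent.FastGrp
import Cfsg.Agent.Prune
set_option linter.all false

section
prune_inst 0x7fbcbcf9afb83ddfffff7e7ffedddffff9fcdfffefdffbcbffece1ffafdf6b06f9e56b8d9fe050ff0ed6e2b630b87b53f9ffeeffee6bdc7ffffd5ff45ffbee1fe5ffbda8519688340ffc4ffffbf07f8e7f3fffffffffffffffffffffffffffbeffffffffffff

-- part: H836/T3SL
section
set_option linter.all false
open scoped Cfsg.Agent.FastGrp

/-!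
# The quaternion subgroup of `SL₂(3)`
-/

set_option autoImplicit false

namespace Cfsg.Agent.H836.T3SL

/-- `SL₂(3)` -/
abbrev SL : Type := Matrix.SpecialLinearGroup (Fin 2) (ZMod 3)

theorem mul4 : ∀ a b : SL, a ^ 4 = 1 → b ^ 4 = 1 → (a * b) ^ 4 = 1 := by (set_option synthInstance.maxSize 20000 in open scoped Cfsg.Agent.Lib.MatDec in decide +kernel)

/-- the quaternion group -/
def Q8 : Subgroup SL where
  carrier := {a | a ^ 4 = 1}
  mul_mem' := fun {a b} ha hb => mul4 a b ha hb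
  one_mem' := one_pow 4
  inv_mem' := fun {a} ha => by
    change a⁻¹ ^ 4 = 1
    have h : a ^ 4 = 1 := ha
    rw [inv_pow, h, inv_one]

theorem mem_Q8 {a : SL} : a ∈ Q8 ↔ a ^ 4 = 1 := Iff.rfl

instance q8_normal : Q8.Normal := ⟨fun a ha g => by
  rw [mem_Q8] at ha ⊢
  rw [conj_pow, ha, mul_one, mul_inv_cancel]⟩

end Cfsg.Agent.H836.T3SL
end

-- part: H395/TallRow/MTwModel
section
prune_inst 0x404306004482200000018001220000040120001020043000111e00502004e906129032601f8e00f1211108c74200a8060011000190210000020008200411c01a0042072c69348b10023000040f807180c00000000000000000000000000041000000000000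
set_option linter.all false
open scoped Cfsg.Agent.FastGrp

/-!
# `M₁₂`: normal elementary abelian subgroups of `C(z)`, `z` 2-central (helper395)
-/

set_option autoImplicit false

namespace Cfsg.Agent.H395.TallRow.Md

open Equiv Cfsg Cfsg.Agent.CoThreeStd.M12 Subgroup Cfsg.Agent.Omega.Quasithin.M12

/-- `z` is the only 2-central involution up to conjugation -/
theorem conj_z {t : G12} (ht : t * t = 1) (ht1 : t ≠ 1) (hP : ∃ P : Sylow 2 G12, ∀ x ∈ P, x * t = t * x) :
    ∃ g : G12, g * t * g⁻¹ = z := by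
  obtain ⟨P, hP⟩ := hP
  obtain ⟨S, hS⟩ := exists_sylow
  obtain ⟨g, hg⟩ := MulAction.exists_smul_eq G12 P S
  refine ⟨g, ?_⟩
  -- `Q ≤ S`
  have hSz : (S : Subgroup G12) ≤ centralizer ({z} : Set G12) := fun x hx => (mem_centralizer_iff' x).2 (hS x hx)
  have hQS : Q ≤ (S : Subgroup G12) := by
    have h1 : IsPGroup 2 ↥(Q ⊔ (S : Subgroup G12)) := by
      refine IsPGroup.to_sup_of_normal_left' isPGroup_Q S.2 ?_
      intro s hs
      rw [mem_normalizer_iff]
      intro x
      have hs' := hS s hs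
      constructor
      · intro hx
        exact conj_mem_Q s hs' x hx
      · intro hx
        have h2 : s⁻¹ * z = z * s⁻¹ := by
          rw [inv_mul_eq_iff_eq_mul, ← mul_assoc, hs', mul_assoc, mul_inv_cancel, mul_one]
        have := conj_mem_Q s⁻¹ h2 _ hx
        have e : s⁻¹ * (s * x * s⁻¹) * s⁻¹⁻¹ = x := by group
        rwa [e] at this
    have h2 := S.is_maximal' h1 le_sup_right
    rw [← h2]
    exact le_sup_left
  -- the conjugate of `t` centralises `S`
  have hc : ∀ x ∈ (S : Subgroup G12), x * (g * t * g⁻¹) = g * t * g⁻¹ * x := by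
    intro x hx
    rw [← hg, Sylow.coe_subgroup_smul] at hx
    obtain ⟨y, hy, rfl⟩ := hx
    change g * y * g⁻¹ * (g * t * g⁻¹) = g * t * g⁻¹ * (g * y * g⁻¹)
    calc g * y * g⁻¹ * (g * t * g⁻¹) = g * (y * t) * g⁻¹ := by group
      _ = g * (t * y) * g⁻¹ := by rw [hP y hy]
      _ = _ := by group
  have h1 : g * t * g⁻¹ * (g * t * g⁻¹) = 1 := by
    calc g * t * g⁻¹ * (g * t * g⁻¹) = g * (t * t) * g⁻¹ := by group
      _ = 1 := by rw [ht]; group
  have h2 : g * t * g⁻¹ ≠ 1 := by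
    intro h
    rw [mul_inv_eq_one] at h
    exact ht1 (mul_eq_left.1 h)
  have hzQ : z ∈ Q := mem_Q_of_fix fun i hi => (fix_iff i).2 hi
  have h3 : g * t * g⁻¹ ∈ Q := self_Q _ (hc z (hQS hzQ)).symm fun x hx => (hc x (hQS hx)).symm
  exact eq_z_of_comm h3 h1 h2 fun x hx => hc x (hQS hx)

/-- `C(z)` induces the symmetric group on `F` -/
theorem psi_surj : Function.Surjective psi := by
  intro σ
  have m0 : (0 : Fin 12) ∈ F := by decide
  have m6 : (6 : Fin 12) ∈ F := by decide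
  have m1 : (1 : Fin 12) ∈ F := by decide
  have m2 : (2 : Fin 12) ∈ F := by decide
  have hne : ∀ (a b : Fin 12) (ha : a ∈ F) (hb : b ∈ F), a ≠ b → ((σ ⟨a, ha⟩ : X) : Fin 12) ≠ σ ⟨b, hb⟩ := by
    intro a b ha hb hab h
    exact hab (congrArg (fun u : X => (u : Fin 12)) (σ.injective (Subtype.ext h)))
  obtain ⟨x, h0, h6, h1, h2⟩ := trans_four (σ ⟨0, m0⟩ : X) (σ ⟨6, m6⟩ : X) (σ ⟨1, m1⟩ : X) (σ ⟨2, m2⟩ : X)
    (hne _ _ _ _ (by decide)) (hne _ _ _ _ (by decide)) (hne _ _ _ _ (by decide)) (hne _ _ _ _ (by decide))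
    (hne _ _ _ _ (by decide)) (hne _ _ _ _ (by decide))
  have key : ∀ i (hi : i ∈ F), (x : P12) i = (σ ⟨i, hi⟩ : X) := by
    intro i hi
    have hi' : i = 0 ∨ i = 6 ∨ i = 1 ∨ i = 2 := by
      simpa [F] using hi
    rcases hi' with rfl | rfl | rfl | rfl
    · exact h0
    · exact h6
    · exact h1
    · exact h2
  have hz : x * z = z * x := comm_z fun i hi => by rw [key i hi]; exact (σ ⟨i, hi⟩).2
  refine ⟨⟨x, (mem_centralizer_iff' x).2 hz⟩, Equiv.ext fun i => Subtype.ext ?_⟩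
  rw [psi_apply]
  exact key i.1 i.2

theorem perm_good : ∀ σ : Perm X, σ * σ = 1 → σ ≠ 1 → (∀ τ : Perm X, τ * σ * τ⁻¹ * σ = σ * (τ * σ * τ⁻¹)) →
    ∀ i, σ i ≠ i ∧ σ (σ i) = i := by decide +kernel

theorem perm_trans' : ∀ σ τ : Perm X, ¬ (∀ i, σ i ≠ i ∧ σ (σ i) = i) ∨ ¬ (∀ i, τ i ≠ i ∧ τ (τ i) = i) ∨
    ∃ ρ : Perm X, ρ * σ * ρ⁻¹ = τ := by decide +kernel

theorem perm_trans (σ τ : Perm X) (h : ∀ i, σ i ≠ i ∧ σ (σ i) = i) (h' : ∀ i, τ i ≠ i ∧ τ (τ i) = i) :
    ∃ ρ : Perm X, ρ * σ * ρ⁻¹ = τ := by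
  rcases perm_trans' σ τ with h1 | h1 | h1
  · exact absurd h h1
  · exact absurd h' h1
  · exact h1

theorem good_comm : ∀ σ τ : Perm X, Good σ → Good τ → σ * τ = τ * σ := by decide +kernel

theorem card_good : ∃ l : List (Perm X), l.Nodup ∧ l.length = 3 ∧ ∀ σ ∈ l, ∀ i, σ i ≠ i ∧ σ (σ i) = i := by
  refine ⟨(Finset.univ.filter fun σ : Perm X => ∀ i, σ i ≠ i ∧ σ (σ i) = i).toList, Finset.nodup_toList _, ?_, ?_⟩
  · rw [Finset.length_toList]
    decide +kernel
  · intro σ hσ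
    rw [Finset.mem_toList, Finset.mem_filter] at hσ
    exact hσ.2

/-- a normal elementary abelian subgroup of `C(z)` containing `z` properly -/
structure NE (E : Subgroup G12) : Prop where
  sq : ∀ w ∈ E, w * w = 1
  z_mem : z ∈ E
  norm : ∀ g : G12, g * z = z * g → ∀ w ∈ E, g * w * g⁻¹ ∈ E
  ex : ∃ w ∈ E, w ≠ 1 ∧ w ≠ z

theorem comm_of_sq {E : Subgroup G12} (h : ∀ w ∈ E, w * w = 1) {a b : G12} (ha : a ∈ E) (hb : b ∈ E) :
    a * b = b * a := by
  have h1 := h _ (mul_mem ha hb)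
  have h2 : a⁻¹ = a := inv_eq_of_mul_eq_one_left (h a ha)
  have h3 : b⁻¹ = b := inv_eq_of_mul_eq_one_left (h b hb)
  have h4 : a * b = (a * b)⁻¹ := (inv_eq_of_mul_eq_one_left h1).symm
  rw [h4, mul_inv_rev, h2, h3]

/-- the action of an element commuting with `z` -/
def ps (w : G12) (h : w * z = z * w) : Perm X := psi ⟨w, (mem_centralizer_iff' w).2 h⟩

theorem ps_mul {a b : G12} (ha : a * z = z * a) (hb : b * z = z * b) (hab : a * b * z = z * (a * b)) :
    ps (a * b) hab = ps a ha * ps b hb := by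
  unfold ps
  rw [← map_mul]
  rfl

theorem ps_conj {g a : G12} (hg : g * z = z * g) (ha : a * z = z * a) (h : g * a * g⁻¹ * z = z * (g * a * g⁻¹)) :
    ps (g * a * g⁻¹) h = ps g hg * ps a ha * (ps g hg)⁻¹ := by
  unfold ps
  rw [← map_inv, ← map_mul, ← map_mul]
  rfl

/-- involutions acting trivially on `F` -/
theorem eq_of_ps_one {w : G12} (h : w * z = z * w) (hw : w * w = 1) (h1 : ps w h = 1) : w = 1 ∨ w = z := by
  by_cases hw1 : w = 1
  · exact Or.inl hw1
  · right
    refine eq_z (fun i hi => ?_) hw hw1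
    have := congrArg (fun σ : Perm X => ((σ ⟨i, hi⟩ : X) : Fin 12)) h1
    exact this

section

variable {E : Subgroup G12} (h : NE E)

include h

theorem NE.cz {w : G12} (hw : w ∈ E) : w * z = z * w := comm_of_sq h.sq hw h.z_mem

theorem NE.fpf {w : G12} (hw : w ∈ E) (h1 : w ≠ 1) (hz : w ≠ z) :
    ∀ i, ps w (h.cz hw) i ≠ i ∧ ps w (h.cz hw) (ps w (h.cz hw) i) = i := by
  apply perm_good
  · rw [← ps_mul (h.cz hw) (h.cz hw) (by rw [h.sq w hw]; simp)]
    have e : ∀ (u : G12) (hu : u * z = z * u), u = 1 → ps u hu = 1 := by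
      rintro u hu rfl
      exact map_one psi
    exact e _ _ (h.sq w hw)
  · intro h2
    rcases eq_of_ps_one _ (h.sq w hw) h2 with h3 | h3
    · exact h1 h3
    · exact hz h3
  · intro τ
    obtain ⟨⟨g, hg⟩, rfl⟩ := psi_surj τ
    have hg' := (mem_centralizer_iff' g).1 hg
    have hw' := h.norm g hg' w hw
    have e1 := ps_conj hg' (h.cz hw) (h.cz hw')
    have e2 := ps_mul (h.cz hw') (h.cz hw) (h.cz (mul_mem hw' hw))
    have e3 := ps_mul (h.cz hw) (h.cz hw') (h.cz (mul_mem hw hw'))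
    have e4 : ∀ (u v : G12) (hu : u * z = z * u) (hv : v * z = z * v), u = v → ps u hu = ps v hv := by
      rintro u v hu hv rfl
      rfl
    have e5 := e4 _ _ (h.cz (mul_mem hw' hw)) (h.cz (mul_mem hw hw')) (comm_of_sq h.sq hw' hw)
    rw [e2, e3, e1] at e5
    exact e5

theorem NE.good {w : G12} (hw : w ∈ E) : Good (ps w (h.cz hw)) := by
  by_cases h1 : w = 1
  · subst h1
    exact Or.inl (map_one psi)
  · by_cases hz : w = z
    · subst hz
      left
      refine Equiv.ext fun i => Subtype.ext ?_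
      exact (fix_iff i.1).2 i.2
    · exact Or.inr (h.fpf hw h1 hz)

theorem NE.mem_Q {w : G12} (hw : w ∈ E) : w ∈ Q :=
  Cfsg.Agent.Omega.Quasithin.M12.mem_Q.2 ⟨h.cz hw, h.good hw⟩

/-- elements of `E` with the same action differ by `z` -/
theorem NE.eq_or {w w' : G12} (hw : w ∈ E) (hw' : w' ∈ E) (he : ps w (h.cz hw) = ps w' (h.cz hw')) :
    w = w' ∨ w = w' * z := by
  have hm := mul_mem hw' hw
  have h1 : ps (w' * w) (h.cz hm) = 1 := by
    rw [ps_mul (h.cz hw') (h.cz hw) (h.cz hm), he]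
    exact good_sq (h.good hw')
  rcases eq_of_ps_one _ (h.sq _ hm) h1 with h2 | h2
  · left
    have h3 : w' * (w' * w) = w' := by rw [h2, mul_one]
    rwa [← mul_assoc, h.sq w' hw', one_mul] at h3
  · right
    have h3 : w' * (w' * w) = w' * z := by rw [h2]
    rwa [← mul_assoc, h.sq w' hw', one_mul] at h3

/-- **`C(z)` is transitive on `E ∖ ⟨z⟩`** -/
theorem NE.trans {w w' : G12} (hw : w ∈ E) (h1 : w ≠ 1) (hz : w ≠ z) (hw' : w' ∈ E) (h1' : w' ≠ 1) (hz' : w' ≠ z) :
    ∃ g : G12, g * z = z * g ∧ g * w * g⁻¹ = w' := by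
  obtain ⟨ρ, hρ⟩ := perm_trans _ _ (h.fpf hw h1 hz) (h.fpf hw' h1' hz')
  obtain ⟨⟨g, hg⟩, rfl⟩ := psi_surj ρ
  have hg' := (mem_centralizer_iff' g).1 hg
  have hgw := h.norm g hg' w hw
  have e1 : ps (g * w * g⁻¹) (h.cz hgw) = ps w' (h.cz hw') := by
    rw [ps_conj hg' (h.cz hw) (h.cz hgw)]
    exact hρ
  rcases h.eq_or hgw hw' e1 with h2 | h2
  · exact ⟨g, hg', h2⟩
  · -- an element of `Q` not commuting with `w'`
    obtain ⟨q, hq, hqw⟩ : ∃ q ∈ Q, q * w' ≠ w' * q := by
      by_contra hcon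
      push Not at hcon
      exact hz' (eq_z_of_comm (h.mem_Q hw') (h.sq w' hw') h1' hcon)
    obtain ⟨hqz, hqg⟩ := Cfsg.Agent.Omega.Quasithin.M12.mem_Q.1 hq
    have hqw' := h.norm q hqz w' hw'
    have e2 : ps (q * w' * q⁻¹) (h.cz hqw') = ps w' (h.cz hw') := by
      rw [ps_conj hqz (h.cz hw') (h.cz hqw')]
      rw [good_comm (ps q hqz) (ps w' (h.cz hw')) hqg (h.good hw')]
      group
    rcases h.eq_or hqw' hw' e2 with h3 | h3
    · exact absurd (mul_inv_eq_iff_eq_mul.1 h3) hqw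
    · have hqi : q⁻¹ * z = z * q⁻¹ := by
        rw [inv_mul_eq_iff_eq_mul, ← mul_assoc, hqz, mul_assoc, mul_inv_cancel, mul_one]
      refine ⟨q⁻¹ * g, ?_, ?_⟩
      · rw [mul_assoc, hg', ← mul_assoc, hqi, mul_assoc]
      · have h4 : g * w * g⁻¹ = q * w' * q⁻¹ := by rw [h2, h3]
        calc q⁻¹ * g * w * (q⁻¹ * g)⁻¹ = q⁻¹ * (g * w * g⁻¹) * q := by group
          _ = q⁻¹ * (q * w' * q⁻¹) * q := by rw [h4]
          _ = w' := by group

/-- every good permutation is induced by an element of `E` -/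
theorem NE.exists_of_good {σ : Perm X} (hσ : Good σ) : ∃ w, ∃ hw : w ∈ E, ps w (h.cz hw) = σ := by
  rcases hσ with rfl | hσ
  · exact ⟨1, one_mem _, map_one psi⟩
  · obtain ⟨w, hw, h1, hz⟩ := h.ex
    obtain ⟨ρ, hρ⟩ := perm_trans _ _ (h.fpf hw h1 hz) hσ
    obtain ⟨⟨g, hg⟩, rfl⟩ := psi_surj ρ
    have hg' := (mem_centralizer_iff' g).1 hg
    have hgw := h.norm g hg' w hw
    exact ⟨_, hgw, (ps_conj hg' (h.cz hw) (h.cz hgw)).trans hρ⟩

/-- **`E` is a maximal elementary abelian subgroup** -/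
theorem NE.max {E' : Subgroup G12} (hle : E ≤ E') (hsq : ∀ w ∈ E', w * w = 1) : E' ≤ E := by
  intro w hw
  have hz : w * z = z * w := comm_of_sq hsq hw (hle h.z_mem)
  have hgood : Good (ps w hz) := by
    obtain ⟨l, hl, hl3, hlg⟩ := card_good
    match l, hl, hl3, hlg with
    | [a, b, c], hl, _, hlg =>
      have hab : a ≠ b := by
        rintro rfl
        simp at hl
      obtain ⟨wa, hwa, ea⟩ := h.exists_of_good (Or.inr (hlg a (by simp)))
      obtain ⟨wb, hwb, eb⟩ := h.exists_of_good (Or.inr (hlg b (by simp)))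
      have comm : ∀ (u : G12) (hu : u ∈ E), ps w hz * ps u (h.cz hu) = ps u (h.cz hu) * ps w hz := by
        intro u hu
        have huw : w * u * z = z * (w * u) := by rw [mul_assoc, h.cz hu, ← mul_assoc, hz, mul_assoc]
        have huw' : u * w * z = z * (u * w) := by rw [mul_assoc, hz, ← mul_assoc, h.cz hu, mul_assoc]
        have e4 : ∀ (u v : G12) (hu : u * z = z * u) (hv : v * z = z * v), u = v → ps u hu = ps v hv := by
          rintro u v hu hv rfl
          rfl
        have e5 := e4 _ _ huw huw' (comm_of_sq hsq hw (hle hu))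
        rwa [ps_mul hz (h.cz hu), ps_mul (h.cz hu) hz] at e5
      refine good_of_comm a (hlg a (by simp)) b (hlg b (by simp)) hab _ ?_ ?_
      · rw [← ea]
        exact comm wa hwa
      · rw [← eb]
        exact comm wb hwb
  obtain ⟨w', hw', he⟩ := h.exists_of_good hgood
  have h3 : w * w' * z = z * (w * w') := by rw [mul_assoc, h.cz hw', ← mul_assoc, hz, mul_assoc]
  have h1 : ps (w * w') h3 = 1 := by
    rw [ps_mul hz (h.cz hw'), he]
    exact good_sq hgood
  rcases eq_of_ps_one _ (hsq _ (mul_mem hw (hle hw'))) h1 with h4 | h4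
  · rw [show w = w'⁻¹ from eq_inv_of_mul_eq_one_left h4]
    exact inv_mem hw'
  · rw [show w = z * w'⁻¹ from eq_mul_inv_of_mul_eq h4]
    exact mul_mem h.z_mem (inv_mem hw')

/-- `|E| = 8` -/
theorem NE.card : Nat.card E = 8 := by
  classical
  have hfin : Finite G12 := inferInstance
  let f : E →* Perm X :=
    { toFun := fun w => ps w (h.cz w.2)
      map_one' := map_one psi
      map_mul' := fun a b => ps_mul (h.cz a.2) (h.cz b.2) _ }
  have hr : Nat.card f.range = 4 := by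
    have h1 : f.range = V := by
      ext σ
      constructor
      · rintro ⟨w, rfl⟩
        exact h.good w.2
      · intro hσ
        obtain ⟨w, hw, he⟩ := h.exists_of_good hσ
        exact ⟨⟨w, hw⟩, he⟩
    rw [h1]
    have h2 : (V : Set (Perm X)) = {σ | Good σ} := rfl
    rw [← SetLike.coe_sort_coe, h2]
    change Nat.card {σ : Perm X // Good σ} = 4
    rw [Nat.card_eq_fintype_card, Fintype.card_subtype]
    decide +kernel
  have hk : Nat.card f.ker = 2 := by
    have h1 : (f.ker : Set E) = {1, ⟨z, h.z_mem⟩} := by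
      ext w
      constructor
      · intro hw
        rcases eq_of_ps_one (h.cz w.2) (h.sq w w.2) hw with h2 | h2
        · exact Or.inl (Subtype.ext h2)
        · exact Or.inr (Subtype.ext h2)
      · rintro (rfl | rfl)
        · exact one_mem _
        · show ps z rfl = 1
          refine Equiv.ext fun i => Subtype.ext ?_
          exact (fix_iff i.1).2 i.2
    rw [← SetLike.coe_sort_coe, h1, Nat.card_coe_set_eq, Set.ncard_pair]
    intro h2
    exact z_ne (congrArg Subtype.val h2).symm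
  have h1 := Subgroup.card_mul_index f.ker
  rw [Subgroup.index_ker, hr, hk] at h1
  omega

end

end Cfsg.Agent.H395.TallRow.Md

private theorem dce_fb62c091f4ed : _root_.True := by
  try have : _root_.True := by simp only [_root_.Cfsg.Agent.H395.TallRow.Md.ps.congr_simp]
  exact _root_.True.intro
end

-- part: H226/Tall/Gen
section
set_option linter.all false
open scoped Cfsg.Agent.FastGrp

/-!
# S2927: general lemmas in `K` (helper226)

* `both_of_notCP`; `RowOne.congr`, `RowTwo.congr`, `Both.congr`, `NotCP.congr`;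
* `rowOne_of_od`, `rowTwo_of_odd`;
* `Fib.exists_fix`, `no2_of_rowTwo`.
-/

set_option autoImplicit false
set_option linter.unusedSectionVars false

namespace Cfsg.Agent.H226.Tall

open Subgroup Cfsg
open Cfsg.Agent.H239.CharPLocal (CP)
open Cfsg.Agent.Lib.Cores

universe u v

section

variable {K : Type u} [Group K] {K' : Type v} [Group K']

/-- a `p`-group is of characteristic `p` -/
theorem cp_of_isPGroup {H : Type*} [Group H] (h : IsPGroup 2 H) : CP 2 H := by
  have h1 : pCore 2 H = ⊤ := by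
    rw [eq_top_iff]
    exact le_pCore inferInstance (h.of_equiv topEquiv.symm)
  unfold CP
  rw [h1]
  exact le_top

theorem both_of_notCP (h : NotCP K) : Both K :=
  ⟨fun z hz hcp => absurd hcp (h z hz), fun z hz hp => h z hz (cp_of_isPGroup hp)⟩

theorem map_centralizer (e : K ≃* K') (z : K) :
    (centralizer ({z} : Set K)).map e.toMonoidHom = centralizer ({e z} : Set K') := by
  ext y
  rw [Subgroup.mem_map]
  constructor
  · rintro ⟨w, hw, rfl⟩
    rw [mem_centralizer_singleton_iff] at hw ⊢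
    have := congrArg e hw
    simpa using this
  · intro hy
    refine ⟨e.symm y, ?_, by simp⟩
    rw [mem_centralizer_singleton_iff] at hy ⊢
    apply e.injective
    simpa using hy

/-- `C_K(z) ≅ C_{K'}(e z)` -/
noncomputable def centEquiv (e : K ≃* K') (z : K) :
    ↥(centralizer ({z} : Set K)) ≃* ↥(centralizer ({e z} : Set K')) :=
  ((centralizer ({z} : Set K)).equivMapOfInjective e.toMonoidHom e.injective).trans
    (MulEquiv.subgroupCongr (map_centralizer e z))

theorem TwoC.map [Finite K] {z : K} (hz : TwoC z) (e : K ≃* K') : TwoC (e z) := by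
  obtain ⟨h1, P, hP⟩ := hz
  have hf : Finite K' := Finite.of_equiv _ e.toEquiv
  have hp2 : Fact (Nat.Prime 2) := ⟨Nat.prime_two⟩
  refine ⟨by rw [← h1]; exact MulEquiv.orderOf_eq e z, ?_⟩
  have hp : IsPGroup 2 ((P : Subgroup K).map e.toMonoidHom) := P.isPGroup'.map _
  have hi : ¬ 2 ∣ ((P : Subgroup K).map e.toMonoidHom).index := by
    rw [index_map_of_bijective e.bijective]
    exact P.not_dvd_index
  refine ⟨hp.toSylow hi, ?_⟩
  show (P : Subgroup K).map e.toMonoidHom ≤ _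
  rw [← map_centralizer e z]
  exact map_mono hP

theorem cp_cent_iff (e : K ≃* K') (z : K) :
    CP 2 ↥(centralizer ({z} : Set K)) ↔ CP 2 ↥(centralizer ({e z} : Set K')) :=
  ⟨fun h => h.of_equiv (centEquiv e z), fun h => h.of_equiv (centEquiv e z).symm⟩

theorem NotCP.congr [Finite K] (h : NotCP K) (e : K ≃* K') : NotCP K' := by
  intro z hz hcp
  have hf : Finite K' := Finite.of_equiv _ e.toEquiv
  refine h (e.symm z) (hz.map e.symm) ?_
  rw [cp_cent_iff e, MulEquiv.apply_symm_apply]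
  exact hcp

theorem RowTwo.congr [Finite K] (h : RowTwo K) (e : K ≃* K') : RowTwo K' := by
  intro z hz hp
  have hf : Finite K' := Finite.of_equiv _ e.toEquiv
  refine h (e.symm z) (hz.map e.symm) ?_
  have h1 := centEquiv e (e.symm z)
  rw [MulEquiv.apply_symm_apply] at h1
  exact hp.of_equiv h1.symm

theorem RowOne.congr [Finite K] (h : RowOne K) (e : K ≃* K') : RowOne K' := by
  intro z hz hcp W hW hzW hCW w hw hα
  have hf : Finite K' := Finite.of_equiv _ e.toEquiv
  obtain ⟨α, hα⟩ := hα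
  have hzz : e (e.symm z) = z := e.apply_symm_apply z
  have h1 := h (e.symm z) (hz.map e.symm) (by rw [cp_cent_iff e, hzz]; exact hcp) (W.comap e.toMonoidHom)
    (by
      intro x hx
      apply e.injective
      rw [map_mul, map_one]
      exact hW _ hx)
    (by
      show e (e.symm z) ∈ W
      rw [hzz]
      exact hzW)
    (by
      intro g hg
      have h2 : e g ∈ centralizer ({z} : Set K') := by
        rw [mem_centralizer_singleton_iff] at hg ⊢
        have := congrArg e hg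
        rwa [map_mul, map_mul, hzz] at this
      have h3 := hCW h2
      rw [mem_normalizer_iff] at h3 ⊢
      intro y
      have h4 := h3 (e y)
      show e y ∈ W ↔ e (g * y * g⁻¹) ∈ W
      rw [map_mul, map_mul, map_inv]
      exact h4)
    (e.symm w) (by
      show e (e.symm w) ∈ W
      rw [e.apply_symm_apply]
      exact hw)
    ⟨(e.trans α).trans e.symm, by
      show e.symm (α (e (e.symm z))) = e.symm w
      rw [hzz, hα]⟩
  exact e.symm.injective h1

theorem Both.congr [Finite K] (h : Both K) (e : K ≃* K') : Both K' := ⟨h.1.congr e, h.2.congr e⟩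

/-- an element of odd order commuting with every 2-central involution -/
theorem rowTwo_of_odd (h : ∀ z : K, TwoC z → ∃ d : K, d * z = z * d ∧ d ≠ 1 ∧ Odd (orderOf d)) : RowTwo K := by
  intro z hz hp
  obtain ⟨d, h1, h2, h3⟩ := h z hz
  obtain ⟨k, hk⟩ := hp ⟨d, mem_centralizer_singleton_iff.2 h1⟩
  have h4 : d ^ 2 ^ k = 1 := congrArg Subtype.val hk
  have h5 : orderOf d ∣ 2 ^ k := orderOf_dvd_of_pow_eq_one h4
  have h6 : orderOf d = 1 := by
    have h7 : Nat.Coprime (orderOf d) (2 ^ k) := (Nat.Coprime.pow_right k h3.coprime_two_right)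
    exact Nat.Coprime.eq_one_of_dvd h7 h5
  exact h2 (orderOf_eq_one_iff.1 h6)

end

section Fib

variable {K : Type u} [Group K] [Finite K] {S₁ : Sylow 2 K} {P V : Subgroup (MulAut K)}

/-- a `P`-invariant involution of `S₁` -/
theorem Loc.exists_fix (h : Loc S₁ P V) : ∃ a ∈ (S₁ : Subgroup K), orderOf a = 2 ∧ ∀ α ∈ P, α a = a := by
  classical
  have hp2 : Fact (Nat.Prime 2) := ⟨Nat.prime_two⟩
  let _ : MulAction P (S₁ : Subgroup K) :=
    { smul := fun α s => ⟨(α : MulAut K) s, h.P_norm α α.2 s s.2⟩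
      one_smul := fun s => rfl
      mul_smul := fun α β s => rfl }
  have hfin : Finite (MulAut K) := inferInstance
  have h1 : 2 ∣ Nat.card (S₁ : Subgroup K) := by
    obtain ⟨R, hR1, hR2, -⟩ := h.loc
    have h2 : IsPGroup 2 (S₁ : Subgroup K) := S₁.isPGroup'
    obtain ⟨n, hn⟩ := IsPGroup.iff_card.1 h2
    rw [hn]
    rcases n with _ | n
    · exfalso
      rw [pow_zero] at hn
      have h3 : (S₁ : Subgroup K) = ⊥ := Subgroup.card_eq_one.1 hn
      rw [h3, le_bot_iff] at hR2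
      exact hR1 hR2
    · exact dvd_pow_self 2 (Nat.succ_ne_zero n)
  have h2 : (Nat.card (MulAction.fixedPoints P (S₁ : Subgroup K))) ≡ Nat.card (S₁ : Subgroup K) [MOD 2] :=
    (h.P_two.card_modEq_card_fixedPoints (S₁ : Subgroup K)).symm
  have h3 : 2 ∣ Nat.card (MulAction.fixedPoints P (S₁ : Subgroup K)) :=
    (Nat.modEq_zero_iff_dvd.1 (h2.trans (Nat.modEq_zero_iff_dvd.2 h1)))
  have hone : (1 : (S₁ : Subgroup K)) ∈ MulAction.fixedPoints P (S₁ : Subgroup K) := by
    intro α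
    apply Subtype.ext
    show (α : MulAut K) 1 = 1
    exact map_one _
  have h4 : 1 < Nat.card (MulAction.fixedPoints P (S₁ : Subgroup K)) := by
    have h5 : 0 < Nat.card (MulAction.fixedPoints P (S₁ : Subgroup K)) :=
      Nat.card_pos_iff.2 ⟨⟨⟨1, hone⟩⟩, inferInstance⟩
    exact lt_of_lt_of_le one_lt_two (Nat.le_of_dvd h5 h3)
  obtain ⟨⟨b, hb⟩, hb1⟩ : ∃ b : MulAction.fixedPoints P (S₁ : Subgroup K), b ≠ ⟨1, hone⟩ := by
    have : Nontrivial (MulAction.fixedPoints P (S₁ : Subgroup K)) := Finite.one_lt_card_iff_nontrivial.1 h4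
    exact exists_ne _
  have hbne : (b : K) ≠ 1 := fun h5 => hb1 (Subtype.ext (Subtype.ext h5))
  have hbfix : ∀ α ∈ P, α (b : K) = b := fun α hα => congrArg Subtype.val (hb ⟨α, hα⟩)
  obtain ⟨k, hk⟩ := S₁.isPGroup' b
  have hk' : (b : K) ^ 2 ^ k = 1 := congrArg Subtype.val hk
  obtain ⟨m, hm1, hm2⟩ := (Nat.dvd_prime_pow Nat.prime_two).1 (orderOf_dvd_of_pow_eq_one hk')
  rcases m with _ | m
  · exfalso
    rw [pow_zero, orderOf_eq_one_iff] at hm2
    exact hbne hm2
  · refine ⟨(b : K) ^ 2 ^ m, pow_mem b.2 _, ?_, fun α hα => by rw [map_pow, hbfix α hα]⟩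
    rw [orderOf_pow' _ (by positivity), hm2, Nat.gcd_eq_right (pow_dvd_pow 2 (Nat.le_succ m)), pow_succ,
      Nat.mul_div_cancel_left _ (by positivity)]

theorem Loc.fix_comm (h : Loc S₁ P V) {a : K} (ha : ∀ α ∈ P, α a = a) :
    (S₁ : Subgroup K) ≤ centralizer ({a} : Set K) := by
  intro s hs
  rw [mem_centralizer_singleton_iff]
  have h1 := ha _ (h.conj_mem s hs)
  rw [MulAut.conj_apply] at h1
  exact mul_inv_eq_iff_eq_mul.1 h1

/-- **`RowTwo` excludes `K` as a component.** -/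
theorem Fib.false_of_rowTwo (h : Fib S₁ P V) (hK : RowTwo K) : False := by
  obtain ⟨a, ha1, ha2, ha3⟩ := h.toLoc.exists_fix
  exact hK a ⟨ha2, S₁, h.toLoc.fix_comm ha3⟩ (h.fix a ha1 ha2 ha3)

end Fib

theorem no2_of_rowTwo : No2.{u} (fun K _ => RowTwo K) := fun h hK => h.false_of_rowTwo hK

end Cfsg.Agent.H226.Tall
end

-- part: H348/Tall/Gen
section
set_option linter.all false
open scoped Cfsg.Agent.FastGrp

/-!
# S2927 (team TALL, helper348): `Both K` from an explicit Sylow 2-subgroup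
-/

set_option autoImplicit false

namespace Cfsg.Agent.H348.Tall

open Subgroup Cfsg Cfsg.Agent.H226.Tall

variable {K : Type*} [Group K]

/-- a 2-subgroup normalised by a Sylow 2-subgroup lies in it -/
theorem le_sylow [Finite K] {P : Sylow 2 K} {W : Subgroup K} (hW : IsPGroup 2 W)
    (hn : (P : Subgroup K) ≤ normalizer (W : Set K)) : W ≤ (P : Subgroup K) := by
  have h1 : IsPGroup 2 ↥(W ⊔ (P : Subgroup K)) := hW.to_sup_of_normal_left' P.isPGroup' hn
  rw [← P.is_maximal' h1 le_sup_right]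
  exact le_sup_left

/-- an involution centralised by a Sylow 2-subgroup is conjugate to `z₀` -/
theorem TwoC.isConj [Finite K] (P : Sylow 2 K) {z₀ : K}
    (h0 : ∀ x ∈ (P : Subgroup K), x * x = 1 → x ≠ 1 → (∀ y ∈ (P : Subgroup K), x * y = y * x) → x = z₀)
    {z : K} (hz : TwoC z) : ∃ g : K, g * z * g⁻¹ = z₀ := by
  obtain ⟨ho, Q, hQ⟩ := hz
  obtain ⟨g, hg⟩ := MulAction.exists_smul_eq K Q P
  have hzz : z * z = 1 := by rw [← pow_two, ← ho]; exact pow_orderOf_eq_one z
  have hz1 : z ≠ 1 := by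
    rintro rfl
    rw [orderOf_one] at ho
    omega
  have hsub : ∀ q ∈ (Q : Subgroup K), q * z = z * q := fun q hq => mem_centralizer_singleton_iff.1 (hQ hq)
  have hzQ : z ∈ (Q : Subgroup K) := by
    have h1 : IsPGroup 2 ↥(zpowers z) := IsPGroup.of_card (n := 1) (by rw [Nat.card_zpowers, ho, pow_one])
    refine le_sylow h1 ?_ (mem_zpowers z)
    intro q hq
    rw [mem_normalizer_iff]
    intro x
    have hc : ∀ y ∈ zpowers z, q * y * q⁻¹ = y := by
      intro y hy
      obtain ⟨k, rfl⟩ := mem_zpowers_iff.1 hy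
      have : Commute q z := hsub q hq
      rw [(this.zpow_right k).eq, mul_inv_cancel_right]
    constructor
    · intro hx
      rw [hc x hx]; exact hx
    · intro hx
      have h2 := hc _ hx
      have h3 : q * x * q⁻¹ = x := by
        have h4 : q * (q * x * q⁻¹) * q⁻¹ = q * x * q⁻¹ := h2
        have h5 : q * x * q⁻¹ = x := by
          have := mul_left_cancel (mul_right_cancel h4)
          exact this
        exact h5
      rw [h3] at hx; exact hx
  have hmem : ∀ q : K, q ∈ (Q : Subgroup K) ↔ g * q * g⁻¹ ∈ (P : Subgroup K) := by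
    intro q
    rw [← hg, Sylow.coe_subgroup_smul]
    constructor
    · intro hq
      exact ⟨q, hq, rfl⟩
    · rintro ⟨q', hq', h⟩
      have h' : g * q' * g⁻¹ = g * q * g⁻¹ := h
      rw [← mul_left_cancel (mul_right_cancel h')]
      exact hq'
  refine ⟨g, h0 _ ((hmem z).1 hzQ) ?_ ?_ ?_⟩
  · rw [show g * z * g⁻¹ * (g * z * g⁻¹) = g * (z * z) * g⁻¹ by group, hzz, mul_one, mul_inv_cancel]
  · intro h
    apply hz1
    rw [mul_inv_eq_one] at h
    exact mul_eq_left.1 h
  · intro y hy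
    have h1 : g⁻¹ * y * g ∈ (Q : Subgroup K) := by
      rw [hmem]
      have : g * (g⁻¹ * y * g) * g⁻¹ = y := by group
      rwa [this]
    have h2 := hsub _ h1
    calc g * z * g⁻¹ * y = g * (z * (g⁻¹ * y * g)) * g⁻¹ := by group
      _ = g * (g⁻¹ * y * g * z) * g⁻¹ := by rw [h2]
      _ = y * (g * z * g⁻¹) := by group

/-- `RowOne` without the hypothesis on the characteristic -/
def RowS (K : Type*) [Group K] : Prop :=
  ∀ z : K, TwoC z → ∀ W : Subgroup K, (∀ w ∈ W, w * w = 1) → z ∈ W →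
    centralizer ({z} : Set K) ≤ normalizer (W : Set K) → ∀ w ∈ W, (∃ α : MulAut K, α z = w) → w = z

/-- both -/
def BothS (K : Type*) [Group K] : Prop := RowS K ∧ RowTwo K

/-- **`Both K` from a Sylow 2-subgroup** -/
theorem both_of_sylow [Finite K] (P : Sylow 2 K) (z₀ : K) (hc : (P : Subgroup K) ≤ centralizer {z₀})
    (h0 : ∀ x ∈ (P : Subgroup K), x * x = 1 → x ≠ 1 → (∀ y ∈ (P : Subgroup K), x * y = y * x) → x = z₀)
    (hw : ∀ w ∈ (P : Subgroup K), w * w = 1 → w ≠ 1 → w ≠ z₀ → ∃ c : K, c * z₀ = z₀ * c ∧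
      w * (c * w * c⁻¹) ≠ c * w * c⁻¹ * w)
    (y : K) (hy : y * z₀ = z₀ * y) (hy3 : y ^ 3 = 1) (hy1 : y ≠ 1) : BothS K := by
  constructor
  · intro z hz W hW hzW hn w hwW hα
    obtain ⟨g, hg⟩ := TwoC.isConj P h0 hz
    by_contra hne
    have hw1 : w ≠ 1 := by
      rintro rfl
      obtain ⟨α, hα⟩ := hα
      have : z = 1 := α.injective (by rw [hα, map_one])
      rw [this] at hz
      have := hz.1
      rw [orderOf_one] at this
      omega
    -- the conjugate of `W`
    have hcomm : ∀ a ∈ W, ∀ b ∈ W, a * b = b * a := by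
      intro a ha b hb
      have h1 := hW _ (mul_mem ha hb)
      have h2 := hW a ha
      have h3 := hW b hb
      have e1 : (a * b)⁻¹ = a * b := inv_eq_of_mul_eq_one_left h1
      have e2 : a⁻¹ = a := inv_eq_of_mul_eq_one_left h2
      have e3 : b⁻¹ = b := inv_eq_of_mul_eq_one_left h3
      rw [← e1, mul_inv_rev, e2, e3]
    have hsq : ∀ a ∈ W, g * a * g⁻¹ * (g * a * g⁻¹) = 1 := by
      intro a ha
      rw [show g * a * g⁻¹ * (g * a * g⁻¹) = g * (a * a) * g⁻¹ by group, hW a ha, mul_one, mul_inv_cancel]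
    have hn' : ∀ c : K, c * z₀ = z₀ * c → ∀ a : K, a ∈ W.map (MulAut.conj g).toMonoidHom →
        c * a * c⁻¹ ∈ W.map (MulAut.conj g).toMonoidHom := by
      rintro c hcz _ ⟨a, ha, rfl⟩
      have h1 : g⁻¹ * c * g ∈ centralizer ({z} : Set K) := by
        rw [mem_centralizer_singleton_iff]
        have hz' : z = g⁻¹ * z₀ * g := by rw [← hg]; group
        rw [hz']
        calc g⁻¹ * c * g * (g⁻¹ * z₀ * g) = g⁻¹ * (c * z₀) * g := by group
          _ = g⁻¹ * (z₀ * c) * g := by rw [hcz]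
          _ = g⁻¹ * z₀ * g * (g⁻¹ * c * g) := by group
      have h2 := (mem_normalizer_iff.1 (hn h1) a).1 ha
      refine ⟨_, h2, ?_⟩
      show g * (g⁻¹ * c * g * a * (g⁻¹ * c * g)⁻¹) * g⁻¹ = c * (g * a * g⁻¹) * c⁻¹
      group
    have hWp : IsPGroup 2 ↥(W.map (MulAut.conj g).toMonoidHom) := by
      rintro ⟨_, a, ha, rfl⟩
      refine ⟨1, Subtype.ext ?_⟩
      show (g * a * g⁻¹) ^ 2 ^ 1 = 1
      rw [pow_one, pow_two]
      exact hsq a ha
    have hle : W.map (MulAut.conj g).toMonoidHom ≤ (P : Subgroup K) := by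
      refine le_sylow hWp ?_
      intro q hq
      have hqz : q * z₀ = z₀ * q := mem_centralizer_singleton_iff.1 (hc hq)
      rw [mem_normalizer_iff]
      intro x
      refine ⟨hn' q hqz x, fun hx => ?_⟩
      have hqz' : q⁻¹ * z₀ = z₀ * q⁻¹ := by
        have : Commute q z₀ := hqz
        exact this.inv_left.eq
      have := hn' q⁻¹ hqz' _ hx
      have e : q⁻¹ * (q * x * q⁻¹) * q⁻¹⁻¹ = x := by group
      rwa [e] at this
    have hgw : g * w * g⁻¹ ∈ W.map (MulAut.conj g).toMonoidHom := ⟨w, hwW, rfl⟩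
    obtain ⟨c, hcz, hcc⟩ := hw (g * w * g⁻¹) (hle hgw) (hsq w hwW) (by
      intro h
      apply hw1
      rw [mul_inv_eq_one] at h
      exact mul_eq_left.1 h) (by
      intro h
      rw [← hg] at h
      exact hne (mul_left_cancel (mul_right_cancel h)))
    apply hcc
    obtain ⟨b, hb, hb'⟩ := hn' c hcz _ hgw
    have hb'' : g * b * g⁻¹ = c * (g * w * g⁻¹) * c⁻¹ := hb'
    rw [← hb'']
    calc g * w * g⁻¹ * (g * b * g⁻¹) = g * (w * b) * g⁻¹ := by group
      _ = g * (b * w) * g⁻¹ := by rw [hcomm w hwW b hb]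
      _ = g * b * g⁻¹ * (g * w * g⁻¹) := by group
  · intro z hz hp
    obtain ⟨g, hg⟩ := TwoC.isConj P h0 hz
    have h1 : g⁻¹ * y * g ∈ centralizer ({z} : Set K) := by
      rw [mem_centralizer_singleton_iff]
      have hz' : z = g⁻¹ * z₀ * g := by rw [← hg]; group
      rw [hz']
      calc g⁻¹ * y * g * (g⁻¹ * z₀ * g) = g⁻¹ * (y * z₀) * g := by group
        _ = g⁻¹ * (z₀ * y) * g := by rw [hy]
        _ = g⁻¹ * z₀ * g * (g⁻¹ * y * g) := by group
    obtain ⟨k, hk⟩ := hp ⟨_, h1⟩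
    have hk' : (g⁻¹ * y * g) ^ 2 ^ k = 1 := congrArg Subtype.val hk
    have h2 : y ^ 2 ^ k = 1 := by
      have h3 : (g⁻¹ * y * g) ^ 2 ^ k = g⁻¹ * y ^ 2 ^ k * g := by
        have := conj_pow (a := g⁻¹) (b := y) (i := 2 ^ k)
        rwa [inv_inv] at this
      rw [h3] at hk'
      have : y ^ 2 ^ k = g * (g⁻¹ * y ^ 2 ^ k * g) * g⁻¹ := by group
      rw [this, hk']; group
    have h3 : orderOf y ∣ 2 ^ k := orderOf_dvd_of_pow_eq_one h2
    have h4 : orderOf y = 3 := by
      haveI : Fact (Nat.Prime 3) := ⟨Nat.prime_three⟩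
      exact orderOf_eq_prime hy3 hy1
    rw [h4] at h3
    have h5 : 3 ∣ 2 := Nat.Prime.dvd_of_dvd_pow Nat.prime_three h3
    omega

theorem TwoC.map [Finite K] {K' : Type*} [Group K'] (e : K ≃* K') {z : K} (hz : TwoC z) : TwoC (e z) := by
  obtain ⟨h1, P, hP⟩ := hz
  have hs : Function.Surjective (e : K →* K') := e.surjective
  refine ⟨by rw [e.orderOf_eq, h1], P.mapSurjective hs, ?_⟩
  rw [Sylow.coe_mapSurjective]
  rintro _ ⟨q, hq, rfl⟩
  rw [mem_centralizer_singleton_iff]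
  have := mem_centralizer_singleton_iff.1 (hP hq)
  show e q * e z = e z * e q
  rw [← map_mul, this, map_mul]

theorem cent_map {K' : Type*} [Group K'] (e : K ≃* K') {z : K} {c : K'} :
    c ∈ centralizer ({e z} : Set K') ↔ e.symm c ∈ centralizer ({z} : Set K) := by
  rw [mem_centralizer_singleton_iff, mem_centralizer_singleton_iff]
  constructor
  · intro h
    apply e.injective
    rw [map_mul, map_mul, e.apply_symm_apply]; exact h
  · intro h
    have := congrArg e h
    rwa [map_mul, map_mul, e.apply_symm_apply] at this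

theorem RowS.congr [Finite K] {K' : Type*} [Group K'] (h : RowS K') (e : K ≃* K') : RowS K := by
  intro z hz W hW hzW hn w hw hα
  apply e.injective
  refine h (e z) (TwoC.map e hz) (W.map e.toMonoidHom) ?_ ⟨z, hzW, rfl⟩ ?_ (e w) ⟨w, hw, rfl⟩ ?_
  · rintro _ ⟨a, ha, rfl⟩
    show e a * e a = 1
    rw [← map_mul, hW a ha, map_one]
  · intro c hc
    have h1 := hn ((cent_map e).1 hc)
    have key : ∀ d : K, d ∈ normalizer (W : Set K) → ∀ x : K', x ∈ W.map e.toMonoidHom →
        e d * x * (e d)⁻¹ ∈ W.map e.toMonoidHom := by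
      rintro d hd _ ⟨a, ha, rfl⟩
      refine ⟨d * a * d⁻¹, (mem_normalizer_iff.1 hd a).1 ha, ?_⟩
      show e (d * a * d⁻¹) = e d * e a * (e d)⁻¹
      rw [map_mul, map_mul, map_inv]
    rw [mem_normalizer_iff]
    intro x
    constructor
    · intro hx
      have := key _ h1 x hx
      rwa [e.apply_symm_apply] at this
    · intro hx
      have := key _ (inv_mem h1) _ hx
      rw [map_inv, e.apply_symm_apply] at this
      have e' : c⁻¹ * (c * x * c⁻¹) * c⁻¹⁻¹ = x := by group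
      rwa [e'] at this
  · obtain ⟨α, hα⟩ := hα
    refine ⟨(e.symm.trans α).trans e, ?_⟩
    show e (α (e.symm (e z))) = e w
    rw [e.symm_apply_apply, hα]

theorem RowTwo.congr' [Finite K] {K' : Type*} [Group K'] (h : RowTwo K') (e : K ≃* K') : RowTwo K := by
  intro z hz hp
  refine h (e z) (TwoC.map e hz) ?_
  rintro ⟨c, hc⟩
  obtain ⟨k, hk⟩ := hp ⟨_, (cent_map e).1 hc⟩
  have hk' : (e.symm c) ^ 2 ^ k = 1 := congrArg Subtype.val hk
  refine ⟨k, Subtype.ext ?_⟩
  show c ^ 2 ^ k = 1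
  rw [← e.apply_symm_apply c, ← map_pow, hk', map_one]

theorem BothS.congr [Finite K] {K' : Type*} [Group K'] (h : BothS K') (e : K ≃* K') : BothS K :=
  ⟨h.1.congr e, RowTwo.congr' h.2 e⟩

theorem BothS.both (h : BothS K) : Both K :=
  ⟨fun z hz _ W hW hzW hn w hw hα => h.1 z hz W hW hzW hn w hw hα, h.2⟩

end Cfsg.Agent.H348.Tall
end

-- part: H585/TL/Psl2
section
prune_inst 0x4300065041c2200000000001000000000220001000000000010a005020802900000020000b8900c02100000844008002001000010420000000a000000011801a000005004821ca900020000000004000000000000000000000000000000041000000000000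
set_option linter.all false
open scoped Cfsg.Agent.FastGrp

/-!
# S2927: the row `PSL₂(q)`, `q ≥ 11` odd
-/

set_option autoImplicit false
set_option linter.style.haveILetI false

namespace Cfsg.Agent.H585.TL

open Subgroup Cfsg Cfsg.Agent.H226.Tall
open Cfsg.Agent.H239.CharPLocal (CP)

universe u v

/-! ### Characteristic 2 and an abelian subgroup of index two -/

theorem twoGroup_of_cp {H : Type u} [Group H] [Finite H] (A : Subgroup H) [A.Normal]
    (hA : ∀ a ∈ A, ∀ b ∈ A, a * b = b * a) (hs : ∀ x : H, x * x ∈ A) (h : CP 2 H) : IsPGroup 2 H := by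
  haveI : Fact (Nat.Prime 2) := ⟨Nat.prime_two⟩
  have key : ∀ p : ℕ, p.Prime → p ∣ Nat.card H → p = 2 := by
    intro p hp hd
    by_contra hne
    haveI := Fact.mk hp
    obtain ⟨x, hx⟩ := exists_prime_orderOf_dvd_card' (G := H) p hd
    have hodd : Odd p := hp.odd_of_ne_two hne
    have hxp : x ^ p = 1 := hx ▸ pow_orderOf_eq_one x
    have hxA : x ∈ A := by
      obtain ⟨k, hk⟩ := hodd
      have h1 : (x * x) ^ (k + 1) = x := by
        rw [← pow_two, ← pow_mul, show 2 * (k + 1) = p + 1 by omega, pow_succ, hxp, one_mul]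
      rw [← h1]
      exact A.pow_mem (hs x) _
    have hP : IsPGroup 2 ↥(pCore 2 H) := Cfsg.Agent.Lib.Cores.pCore_isPGroup 2
    have hcomm : ∀ t ∈ pCore 2 H, t * x = x * t := by
      intro t ht
      have e1 : (x * (t * x⁻¹ * t⁻¹)) ^ p = 1 := by
        have h1 : t * x⁻¹ * t⁻¹ ∈ A := (inferInstance : A.Normal).conj_mem _ (A.inv_mem hxA) t
        have h2 : Commute x (t * x⁻¹ * t⁻¹) := hA _ hxA _ h1
        rw [h2.mul_pow, hxp, one_mul, conj_pow, inv_pow, hxp, inv_one, mul_one, mul_inv_cancel]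
      have e2 : x * (t * x⁻¹ * t⁻¹) ∈ pCore 2 H := by
        have h1 : x * (t * x⁻¹ * t⁻¹) = (x * t * x⁻¹) * t⁻¹ := by group
        rw [h1]
        exact mul_mem ((inferInstance : (pCore 2 H).Normal).conj_mem _ ht x) (inv_mem ht)
      obtain ⟨k, hk⟩ := hP ⟨_, e2⟩
      have e3 : (x * (t * x⁻¹ * t⁻¹)) ^ 2 ^ k = 1 := congrArg Subtype.val hk
      have e4 : orderOf (x * (t * x⁻¹ * t⁻¹)) ∣ Nat.gcd p (2 ^ k) :=
        Nat.dvd_gcd (orderOf_dvd_of_pow_eq_one e1) (orderOf_dvd_of_pow_eq_one e3)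
      have e5 : Nat.gcd p (2 ^ k) = 1 :=
        Nat.Coprime.pow_right k (Nat.coprime_two_right.2 hodd)
      rw [e5, Nat.dvd_one, orderOf_eq_one_iff] at e4
      have e6 : x * t = t * x := by
        calc x * t = (x * (t * x⁻¹ * t⁻¹)) * t * x := by group
          _ = t * x := by rw [e4, one_mul]
      exact e6.symm
    have h1 : x ∈ pCore 2 H := h (mem_centralizer_iff.2 hcomm)
    obtain ⟨k, hk⟩ := hP ⟨_, h1⟩
    have h2 : x ^ 2 ^ k = 1 := congrArg Subtype.val hk
    have h3 : p ∣ 2 ^ k := hx ▸ orderOf_dvd_of_pow_eq_one h2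
    exact hne ((Nat.prime_dvd_prime_iff_eq hp Nat.prime_two).1 (hp.dvd_of_dvd_pow h3))
  have h0 : Nat.card H ≠ 0 := Nat.card_pos.ne'
  exact IsPGroup.of_card (Nat.eq_prime_pow_of_unique_prime_dvd h0 fun hp hd => key _ hp hd)

/-! ### Matrices commuting with a matrix -/

section mat

variable {F : Type v} [Field F]

open Matrix

theorem comm_two {A B C : Matrix (Fin 2) (Fin 2) F} (hA : ¬ (A 0 1 = 0 ∧ A 1 0 = 0 ∧ A 0 0 = A 1 1))
    (hB : A * B = B * A) (hC : A * C = C * A) : B * C = C * B := by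
  have hb := fun i j => congrFun (congrFun hB i) j
  have hc := fun i j => congrFun (congrFun hC i) j
  have b00 := hb 0 0
  have b01 := hb 0 1
  have b10 := hb 1 0
  have c00 := hc 0 0
  have c01 := hc 0 1
  have c10 := hc 1 0
  simp only [Matrix.mul_apply, Fin.sum_univ_two] at b00 b01 b10 c00 c01 c10
  have key : (A 0 1 ≠ 0 ∨ A 1 0 ≠ 0 ∨ A 0 0 - A 1 1 ≠ 0) := by
    by_contra hcon
    push Not at hcon
    exact hA ⟨hcon.1, hcon.2.1, sub_eq_zero.1 hcon.2.2⟩
  have e1 : B 0 1 * C 1 0 = C 0 1 * B 1 0 := by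
    rcases key with h | h | h
    · apply mul_left_cancel₀ h
      linear_combination B 0 1 * c00 - C 0 1 * b00
    · apply mul_left_cancel₀ h
      linear_combination B 1 0 * c00 - C 1 0 * b00
    · apply mul_left_cancel₀ h
      apply mul_left_cancel₀ h
      linear_combination (A 0 0 - A 1 1) * C 1 0 * b01 - A 0 1 * (B 0 0 - B 1 1) * c10 -
        (A 0 0 - A 1 1) * B 1 0 * c01 + A 0 1 * (C 0 0 - C 1 1) * b10
  have e2 : (B 0 0 - B 1 1) * C 0 1 = (C 0 0 - C 1 1) * B 0 1 := by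
    rcases key with h | h | h
    · apply mul_left_cancel₀ h
      linear_combination B 0 1 * c01 - C 0 1 * b01
    · apply mul_left_cancel₀ h
      linear_combination C 0 1 * b10 - B 0 1 * c10 - (A 0 0 - A 1 1) * e1
    · apply mul_left_cancel₀ h
      linear_combination (B 0 0 - B 1 1) * c01 - (C 0 0 - C 1 1) * b01
  have e3 : (B 0 0 - B 1 1) * C 1 0 = (C 0 0 - C 1 1) * B 1 0 := by
    rcases key with h | h | h
    · apply mul_left_cancel₀ h
      linear_combination B 1 0 * c01 - C 1 0 * b01 + (A 0 0 - A 1 1) * e1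
    · apply mul_left_cancel₀ h
      linear_combination C 1 0 * b10 - B 1 0 * c10
    · apply mul_left_cancel₀ h
      linear_combination (C 0 0 - C 1 1) * b10 - (B 0 0 - B 1 1) * c10
  ext i j
  fin_cases i <;> fin_cases j <;>
    simp only [Matrix.mul_apply, Fin.sum_univ_two, Fin.zero_eta, Fin.mk_one]
  · linear_combination e1
  · linear_combination e2
  · linear_combination -e3
  · linear_combination -e1

end mat

/-! ### Centralizers of involutions -/

section psl

open Matrix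

variable {F : Type v} [Field F]

local notation "SL2" => Matrix.SpecialLinearGroup (Fin 2) F
local notation "PL" => Matrix.ProjectiveSpecialLinearGroup (Fin 2) F

theorem comm_sl {A B C : SL2} (hA : A ∉ center SL2) (hB : B * A = A * B) (hC : C * A = A * C) : B * C = C * B := by
  have hB' : (A : Matrix (Fin 2) (Fin 2) F) * B = B * A := (congrArg Subtype.val hB).symm
  have hC' : (A : Matrix (Fin 2) (Fin 2) F) * C = C * A := (congrArg Subtype.val hC).symm
  refine Subtype.ext (comm_two (A := (A : Matrix (Fin 2) (Fin 2) F)) ?_ hB' hC')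
  rintro ⟨h1, h2, h3⟩
  apply hA
  rw [mem_center_iff]
  intro g
  apply Subtype.ext
  change (g : Matrix (Fin 2) (Fin 2) F) * (A : Matrix (Fin 2) (Fin 2) F) =
    (A : Matrix (Fin 2) (Fin 2) F) * (g : Matrix (Fin 2) (Fin 2) F)
  ext i j
  fin_cases i <;> fin_cases j <;>
    simp [Matrix.mul_apply, Fin.sum_univ_two, h1, h2, h3, mul_comm]

theorem center_sq {A : SL2} (hA : A ∈ center SL2) : A * A = 1 := by
  obtain ⟨r, hr, h⟩ := Matrix.SpecialLinearGroup.mem_center_iff.1 hA
  apply Subtype.ext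
  change (A : Matrix (Fin 2) (Fin 2) F) * (A : Matrix (Fin 2) (Fin 2) F) = 1
  rw [← h, ← map_mul]
  rw [Fintype.card_fin, pow_two] at hr
  rw [hr, map_one]

/-- The centralizer of an involution of `PSL₂(F)` has an abelian subgroup of index at most two. -/
theorem exists_abelian {z : PL} (hz : z ≠ 1) : ∃ A : Subgroup ↥(centralizer ({z} : Set PL)), A.Normal ∧
    (∀ a ∈ A, ∀ b ∈ A, a * b = b * a) ∧ ∀ x, x * x ∈ A := by
  obtain ⟨Z, rfl⟩ := QuotientGroup.mk_surjective z
  have hZ : Z ∉ center SL2 := fun h => hz ((QuotientGroup.eq_one_iff Z).2 h)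
  -- commuting in the quotient
  have hcom : ∀ B : SL2, (QuotientGroup.mk B : PL) ∈ centralizer ({(QuotientGroup.mk Z : PL)} : Set PL) ↔
      ∃ c ∈ center SL2, B * Z = c * (Z * B) := by
    intro B
    rw [mem_centralizer_singleton_iff]
    constructor
    · intro h
      rw [← QuotientGroup.mk_mul, ← QuotientGroup.mk_mul, eq_comm, QuotientGroup.eq] at h
      refine ⟨(Z * B)⁻¹ * (B * Z), h, ?_⟩
      rw [← mem_center_iff.1 h (Z * B)]
      group
    · rintro ⟨c, hc, h⟩
      rw [← QuotientGroup.mk_mul, h, QuotientGroup.mk_mul, (QuotientGroup.eq_one_iff c).2 hc, one_mul,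
        QuotientGroup.mk_mul]
  let A : Subgroup ↥(centralizer ({(QuotientGroup.mk Z : PL)} : Set PL)) :=
    ((centralizer ({Z} : Set SL2)).map (QuotientGroup.mk' (center SL2))).subgroupOf _
  have hA : ∀ x : ↥(centralizer ({(QuotientGroup.mk Z : PL)} : Set PL)), x ∈ A ↔
      ∃ B : SL2, B * Z = Z * B ∧ (QuotientGroup.mk B : PL) = x := by
    intro x
    constructor
    · rintro ⟨B, hB, h⟩
      exact ⟨B, mem_centralizer_singleton_iff.1 hB, h⟩
    · rintro ⟨B, hB, h⟩
      exact ⟨B, mem_centralizer_singleton_iff.2 hB, h⟩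
  refine ⟨A, ⟨fun a ha g => ?_⟩, fun a ha b hb => ?_, fun x => ?_⟩
  · obtain ⟨B, hB, h⟩ := (hA a).1 ha
    obtain ⟨D, hD⟩ := QuotientGroup.mk_surjective (g : PL)
    obtain ⟨c, hc, hcD⟩ := (hcom D).1 (by rw [hD]; exact g.2)
    refine (hA _).2 ⟨D * B * D⁻¹, ?_, ?_⟩
    · have hcc : ∀ y : SL2, y * c = c * y := fun y => mem_center_iff.1 hc y
      have e1 : D⁻¹ * Z = c * (Z * D⁻¹) := by
        have hcD' : Z * D = c * (D * Z) := by
          rw [hcD, ← mul_assoc, center_sq hc, one_mul]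
        calc D⁻¹ * Z = D⁻¹ * (Z * D) * D⁻¹ := by group
          _ = D⁻¹ * (c * (D * Z)) * D⁻¹ := by rw [hcD']
          _ = D⁻¹ * c * (D * Z) * D⁻¹ := by group
          _ = c * (Z * D⁻¹) := by rw [hcc D⁻¹]; group
      calc D * B * D⁻¹ * Z = D * B * (D⁻¹ * Z) := by group
        _ = D * B * (c * (Z * D⁻¹)) := by rw [e1]
        _ = D * B * c * (Z * D⁻¹) := by group
        _ = c * (D * (B * Z) * D⁻¹) := by rw [hcc (D * B)]; group
        _ = c * ((D * Z) * B * D⁻¹) := by rw [hB]; group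
        _ = c * c * (Z * (D * B * D⁻¹)) := by rw [hcD]; group
        _ = Z * (D * B * D⁻¹) := by rw [center_sq hc, one_mul]
    · rw [QuotientGroup.mk_mul, QuotientGroup.mk_mul, QuotientGroup.mk_inv, h, hD]
      rfl
  · obtain ⟨B, hB, h⟩ := (hA a).1 ha
    obtain ⟨C, hC, h'⟩ := (hA b).1 hb
    apply Subtype.ext
    rw [Subgroup.coe_mul, Subgroup.coe_mul, ← h, ← h', ← QuotientGroup.mk_mul, ← QuotientGroup.mk_mul,
      comm_sl hZ hB hC]
  · obtain ⟨D, hD⟩ := QuotientGroup.mk_surjective (x : PL)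
    obtain ⟨c, hc, hcD⟩ := (hcom D).1 (by rw [hD]; exact x.2)
    refine (hA _).2 ⟨D * D, ?_, ?_⟩
    · have hcc : ∀ y : SL2, y * c = c * y := fun y => mem_center_iff.1 hc y
      calc D * D * Z = D * (D * Z) := by group
        _ = D * (c * (Z * D)) := by rw [hcD]
        _ = D * c * Z * D := by group
        _ = c * (D * Z) * D := by rw [hcc D]; group
        _ = c * c * (Z * (D * D)) := by rw [hcD]; group
        _ = Z * (D * D) := by rw [center_sq hc, one_mul]
    · rw [QuotientGroup.mk_mul, hD]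
      rfl

theorem twoGroup_centralizer [Finite F] {z : PL} (hz : z ≠ 1) (h : CP 2 ↥(centralizer ({z} : Set PL))) :
    IsPGroup 2 ↥(centralizer ({z} : Set PL)) := by
  haveI : Finite SL2 := Subtype.finite
  obtain ⟨A, hA, h1, h2⟩ := exists_abelian hz
  exact twoGroup_of_cp A h1 h2 h

theorem card_cent [Fintype F] (ho : Odd (Fintype.card F)) (h11 : 11 ≤ Fintype.card F) {z : PL} (P : Sylow 2 PL)
    (hP : (P : Subgroup PL) ≤ centralizer ({z} : Set PL)) (h2 : IsPGroup 2 ↥(centralizer ({z} : Set PL))) :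
    16 ≤ Nat.card ↥(centralizer ({z} : Set PL)) ∧ 16 ∣ Fintype.card F ^ 2 - 1 := by
  classical
  haveI : Fact (Nat.Prime 2) := ⟨Nat.prime_two⟩
  haveI : Finite SL2 := Subtype.finite
  haveI : Finite PL := inferInstanceAs (Finite (_ ⧸ _))
  have hidx : ¬ 2 ∣ (centralizer ({z} : Set PL)).index := fun h =>
    P.not_dvd_index (h.trans (index_dvd_of_le hP))
  obtain ⟨m, hm⟩ := IsPGroup.iff_card.1 h2
  have hcard := Cfsg.Agent.SmallSimple.PSLTwoPart.card_psl_two_odd (F := F) ho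
  rw [← card_mul_index (centralizer ({z} : Set PL))] at hcard
  obtain ⟨r1, r3⟩ := Cfsg.Agent.S2508.result (F := F) (by
    rw [← even_iff_two_dvd, Nat.not_even_iff_odd]; exact ho) (by omega)
  have hmem : (centralizer ({z} : Set PL)).index ∈
      Set.range (fun g : PL => (centralizer ({g} : Set PL)).index) := ⟨z, rfl⟩
  obtain ⟨t, ht⟩ := ho
  generalize Fintype.card F = q at *
  generalize (centralizer ({z} : Set PL)).index = I at *
  generalize Nat.card ↥(centralizer ({z} : Set PL)) = N at *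
  subst ht
  subst hm
  have hsq : (2 * t + 1) ^ 2 - 1 = 4 * (t * (t + 1)) := by
    have : (2 * t + 1) ^ 2 = 4 * (t * (t + 1)) + 1 := by ring
    omega
  rw [hsq] at hcard r1 r3 ⊢
  have hcard' : 2 ^ m * I = 2 * ((2 * t + 1) * (t * (t + 1))) := by
    have : 2 * (2 ^ m * I) = 2 * (2 * ((2 * t + 1) * (t * (t + 1)))) := by rw [hcard]; ring
    omega
  -- the index is not one
  have hI1 : I ≠ 1 := by
    rintro rfl
    have h1 : (2 * t + 1) ∣ 2 ^ m := ⟨2 * (t * (t + 1)), by rw [← mul_one (2 ^ m), hcard']; ring⟩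
    have h2 : Nat.Coprime (2 * t + 1) (2 ^ m) :=
      Nat.Coprime.pow_right m (Nat.coprime_two_right.2 ⟨t, rfl⟩)
    have := Nat.eq_one_of_dvd_coprimes h2 dvd_rfl h1
    omega
  have key : ∀ s : ℕ, 0 < s → 10 ≤ 2 * s → 2 * s ∣ 4 * (t * (t + 1)) → 2 ^ m * I = 2 * s * I →
      16 ≤ 2 ^ m ∧ 16 ∣ 4 * (t * (t + 1)) := by
    intro s hs h10 hd hI
    have hIpos : 0 < I := by
      rcases Nat.eq_zero_or_pos I with h | h
      · exact absurd (h ▸ dvd_zero 2) hidx
      · exact h
    have h2m : 2 ^ m = 2 * s := Nat.eq_of_mul_eq_mul_right hIpos hI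
    have hm4 : 4 ≤ m := by
      by_contra hcon
      have : 2 ^ m ≤ 2 ^ 3 := Nat.pow_le_pow_right (by norm_num) (by omega)
      omega
    have h16 : 16 ∣ 2 ^ m := by
      have := Nat.pow_dvd_pow 2 hm4
      simpa using this
    refine ⟨?_, ?_⟩
    · exact Nat.le_of_dvd (by positivity) h16
    · rw [h2m] at h16
      exact h16.trans hd
  have hmod : (2 * t + 1) % 4 = 1 ∨ (2 * t + 1) % 4 = 3 := by omega
  rcases hmod with hmod | hmod
  · have h := (r1 hmod) ▸ hmem
    simp only [Set.mem_insert_iff, Set.mem_singleton_iff] at h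
    rcases h with h | h | h | h | h
    · exact absurd h hI1
    · exfalso
      apply hidx
      rw [h]
      exact ⟨t * (t + 1), by omega⟩
    · refine key t (by omega) (by omega) ⟨2 * (t + 1), by ring⟩ ?_
      have e1 : (2 * t + 1) * (2 * t + 1 + 1) / 2 = (2 * t + 1) * (t + 1) := by
        rw [show (2 * t + 1) * (2 * t + 1 + 1) = 2 * ((2 * t + 1) * (t + 1)) by ring]
        exact Nat.mul_div_cancel_left _ (by norm_num)
      rw [hcard', h, e1]
      ring
    · exfalso
      apply hidx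
      rw [h]
      exact ⟨(2 * t + 1) * t, by rw [Nat.add_sub_cancel]; ring⟩
    · exfalso
      apply hidx
      rw [h]
      exact ⟨(2 * t + 1) * (t + 1), by ring⟩
  · have h := (r3 hmod) ▸ hmem
    simp only [Set.mem_insert_iff, Set.mem_singleton_iff] at h
    rcases h with h | h | h | h | h
    · exact absurd h hI1
    · exfalso
      apply hidx
      rw [h]
      exact ⟨t * (t + 1), by omega⟩
    · refine key (t + 1) (by omega) (by omega) ⟨2 * t, by ring⟩ ?_
      have e1 : (2 * t + 1) * (2 * t + 1 - 1) / 2 = (2 * t + 1) * t := by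
        rw [Nat.add_sub_cancel, show (2 * t + 1) * (2 * t) = 2 * ((2 * t + 1) * t) by ring]
        exact Nat.mul_div_cancel_left _ (by norm_num)
      rw [hcard', h, e1]
      ring
    · exfalso
      apply hidx
      rw [h]
      exact ⟨(2 * t + 1) * (t + 1), by ring⟩
    · exfalso
      apply hidx
      rw [h]
      exact ⟨(2 * t + 1) * t, by rw [Nat.add_sub_cancel]; ring⟩

/-- The Sylow subgroup is dihedral of order at least 16 -/
theorem dihedral_psl [Fintype F] (ho : Odd (Fintype.card F)) (h11 : 11 ≤ Fintype.card F) {z : PL} (P : Sylow 2 PL)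
    (hP : (P : Subgroup PL) ≤ centralizer ({z} : Set PL)) (h2 : IsPGroup 2 ↥(centralizer ({z} : Set PL))) :
    ∃ k : ℕ, 3 ≤ k ∧ Nonempty (↥(P : Subgroup PL) ≃* DihedralGroup (2 ^ k)) := by
  haveI : Finite SL2 := Subtype.finite
  haveI : Finite PL := inferInstanceAs (Finite (_ ⧸ _))
  obtain ⟨h1, h3⟩ := card_cent ho h11 P hP h2
  obtain ⟨k, hk, ⟨e⟩⟩ := Cfsg.Agent.H798.psl_two_dihedral (F := F) (Nat.odd_iff.1 ho) h3 P
  refine ⟨k, ?_, ⟨e⟩⟩
  have hPe : centralizer ({z} : Set PL) = (P : Subgroup PL) := P.3 h2 hP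
  rw [hPe, Nat.card_congr e.toEquiv, DihedralGroup.nat_card] at h1
  by_contra hcon
  have : 2 ^ k ≤ 2 ^ 2 := Nat.pow_le_pow_right (by norm_num) (by omega)
  omega

end psl

/-! ### Dihedral groups -/

section dih

theorem dih_no_sr {k : ℕ} (hk : 3 ≤ k) (W : Subgroup (DihedralGroup (2 ^ k))) [W.Normal] (h : ∀ w ∈ W, w * w = 1)
    (i : ZMod (2 ^ k)) : DihedralGroup.sr i ∉ W := by
  intro hi
  have h1 : DihedralGroup.r 1 * DihedralGroup.sr i * (DihedralGroup.r 1)⁻¹ ∈ W :=
    (inferInstance : W.Normal).conj_mem _ hi _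
  have h2 := W.mul_mem h1 hi
  have h3 := h _ h2
  rw [DihedralGroup.r_mul_sr, DihedralGroup.inv_r, DihedralGroup.sr_mul_r, DihedralGroup.sr_mul_sr,
    DihedralGroup.r_mul_r, DihedralGroup.one_def, DihedralGroup.r.injEq] at h3
  have h4 : ((4 : ℕ) : ZMod (2 ^ k)) = 0 := by
    push_cast
    linear_combination h3
  rw [ZMod.natCast_eq_zero_iff] at h4
  have h5 := Nat.le_of_dvd (by norm_num) h4
  have h6 : 2 ^ 3 ≤ 2 ^ k := Nat.pow_le_pow_right (by norm_num) hk
  omega

theorem zmod_half {k : ℕ} (hk : 1 ≤ k) {i : ZMod (2 ^ k)} (h : i + i = 0) : i = 0 ∨ i = ((2 ^ (k - 1) : ℕ) : ZMod (2 ^ k)) := by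
  haveI : NeZero (2 ^ k) := ⟨by positivity⟩
  obtain ⟨j, hj, rfl⟩ : ∃ j : ℕ, j < 2 ^ k ∧ ((j : ℕ) : ZMod (2 ^ k)) = i :=
    ⟨i.val, i.val_lt, ZMod.natCast_zmod_val i⟩
  rw [← Nat.cast_add, ZMod.natCast_eq_zero_iff] at h
  have h2 : 2 ^ k = 2 * 2 ^ (k - 1) := by
    rw [← pow_succ']
    congr 1
    omega
  rw [h2] at h hj
  rw [← two_mul] at h
  have h3 : 2 ^ (k - 1) ∣ j := Nat.dvd_of_mul_dvd_mul_left (by norm_num) h
  obtain ⟨c, rfl⟩ := h3
  have hc : c < 2 := by
    by_contra hcon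
    have : 2 ^ (k - 1) * 2 ≤ 2 ^ (k - 1) * c := Nat.mul_le_mul_left _ (by omega)
    omega
  interval_cases c
  · left; simp
  · right; rw [mul_one]

/-- the central involution of the dihedral group -/
theorem dih_normal {k : ℕ} (hk : 3 ≤ k) (W : Subgroup (DihedralGroup (2 ^ k))) [W.Normal] (h : ∀ w ∈ W, w * w = 1)
    {w : DihedralGroup (2 ^ k)} (hw : w ∈ W) : w = 1 ∨ w = DihedralGroup.r ((2 ^ (k - 1) : ℕ) : ZMod (2 ^ k)) := by
  cases w with
  | r i =>
    have h1 := h _ hw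
    rw [DihedralGroup.r_mul_r, DihedralGroup.one_def, DihedralGroup.r.injEq] at h1
    rcases zmod_half (by omega) h1 with h2 | h2
    · left; rw [h2, DihedralGroup.one_def]
    · right; rw [h2]
  | sr i => exact absurd hw (dih_no_sr hk W h i)

theorem dih_four {k : ℕ} (hk : 3 ≤ k) {w : DihedralGroup (2 ^ k)} (h1 : w * w ≠ 1) (h2 : (w * w) * (w * w) = 1) :
    w * w = DihedralGroup.r ((2 ^ (k - 1) : ℕ) : ZMod (2 ^ k)) := by
  cases w with
  | r i =>
    rw [DihedralGroup.r_mul_r] at h1 h2 ⊢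
    rw [DihedralGroup.r_mul_r, DihedralGroup.one_def, DihedralGroup.r.injEq] at h2
    rcases zmod_half (by omega) h2 with h3 | h3
    · exact absurd (by rw [h3, DihedralGroup.one_def]) h1
    · rw [h3]
  | sr i => exact absurd (by rw [DihedralGroup.sr_mul_self]) h1

end dih

/-! ### Groups with a dihedral Sylow subgroup -/

section sylow

variable {K : Type u} [Group K] {P : Subgroup K} {k : ℕ}

theorem map_half (hk : 3 ≤ k) (e : ↥P ≃* DihedralGroup (2 ^ k)) {W : Subgroup K} (hWP : W ≤ P)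
    (hn : ∀ s ∈ P, ∀ w ∈ W, s * w * s⁻¹ ∈ W) (h : ∀ w ∈ W, w * w = 1) {w : K} (hw : w ∈ W) (h1 : w ≠ 1) :
    e ⟨w, hWP hw⟩ = DihedralGroup.r ((2 ^ (k - 1) : ℕ) : ZMod (2 ^ k)) := by
  haveI hN : (W.subgroupOf P).Normal := by
    refine ⟨fun a ha s => ?_⟩
    rw [mem_subgroupOf] at ha ⊢
    exact hn s s.2 a ha
  haveI hN' : ((W.subgroupOf P).map e.toMonoidHom).Normal := hN.map _ e.surjective
  have h2 : ∀ v ∈ (W.subgroupOf P).map e.toMonoidHom, v * v = 1 := by
    rintro v ⟨a, ha, rfl⟩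
    rw [← map_mul]
    have : a * a = 1 := Subtype.ext (h _ (mem_subgroupOf.1 ha))
    rw [this, map_one]
  rcases dih_normal hk _ h2 (mem_map_of_mem e.toMonoidHom (mem_subgroupOf.2 hw : (⟨w, hWP hw⟩ : ↥P) ∈ _)) with h3 | h3
  · exfalso
    apply h1
    have h4 : (⟨w, hWP hw⟩ : ↥P) = 1 := (MulEquiv.map_eq_one_iff e).1 h3
    exact congrArg Subtype.val h4
  · exact h3

theorem eq_of_half (hk : 3 ≤ k) (e : ↥P ≃* DihedralGroup (2 ^ k)) {W : Subgroup K} (hWP : W ≤ P)
    (hn : ∀ s ∈ P, ∀ w ∈ W, s * w * s⁻¹ ∈ W) (h : ∀ w ∈ W, w * w = 1) {w w' : K} (hw : w ∈ W) (hw' : w' ∈ W)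
    (h1 : w ≠ 1) (h1' : w' ≠ 1) : w = w' := by
  have := (map_half hk e hWP hn h hw h1).trans (map_half hk e hWP hn h hw' h1').symm
  exact congrArg Subtype.val (e.injective this)

/-- the normalizer of a normal subgroup of `P` centralises the central involution of `P` -/
theorem normalizer_le (hk : 3 ≤ k) (e : ↥P ≃* DihedralGroup (2 ^ k)) {z : K} (hz : z ∈ P) (hz1 : z ≠ 1)
    (hz2 : z * z = 1) (hzc : ∀ s ∈ P, s * z = z * s) {R : Subgroup K} (hR : R ≤ P) (hR1 : R ≠ ⊥)
    (hn : ∀ s ∈ P, ∀ w ∈ R, s * w * s⁻¹ ∈ R) :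
    normalizer (R : Set K) ≤ centralizer ({z} : Set K) := by
  -- the image of `z`
  have ez : e ⟨z, hz⟩ = DihedralGroup.r ((2 ^ (k - 1) : ℕ) : ZMod (2 ^ k)) := by
    have hzm : ∀ w ∈ zpowers z, w * w = 1 := by
      rintro w ⟨j, rfl⟩
      change z ^ j * z ^ j = 1
      rw [← (Commute.refl z).mul_zpow, hz2, one_zpow]
    refine map_half hk e (W := zpowers z) (by rw [zpowers_le]; exact hz) ?_ hzm (mem_zpowers z) hz1
    rintro s hs w ⟨j, rfl⟩
    refine ⟨j, ?_⟩
    change z ^ j = s * z ^ j * s⁻¹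
    rw [← conj_zpow, hzc s hs, mul_inv_cancel_right]
  intro g hg
  rw [mem_centralizer_singleton_iff]
  have hg' : ∀ w ∈ R, g * w * g⁻¹ ∈ R := fun w hw => (mem_normalizer_iff.1 hg w).1 hw
  suffices h : g * z * g⁻¹ = z by
    calc g * z = (g * z * g⁻¹) * g := by group
      _ = z * g := by rw [h]
  by_cases hall : ∀ r ∈ R, r * r = 1
  · obtain ⟨r, hr, hr1⟩ := (ne_bot_iff_exists_ne_one.1 hR1 |> fun ⟨r, hr⟩ => ⟨r.1, r.2, fun h => hr (Subtype.ext h)⟩ :
      ∃ r ∈ R, r ≠ 1)
    have h1 := map_half hk e hR hn hall hr hr1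
    have h2 : r = z := congrArg Subtype.val (e.injective (h1.trans ez.symm))
    subst h2
    refine eq_of_half hk e hR hn hall (hg' _ hr) hr ?_ hr1
    intro h3
    apply hr1
    have h4 : r = g⁻¹ * (g * r * g⁻¹) * g := by group
    rw [h4, h3]; group
  · push Not at hall
    obtain ⟨x, hx, hxx⟩ := hall
    -- an element of order four in `R`
    obtain ⟨y, hy, hy1, hy2⟩ : ∃ y ∈ R, y * y ≠ 1 ∧ (y * y) * (y * y) = 1 := by
      haveI : Fact (Nat.Prime 2) := ⟨Nat.prime_two⟩
      have hP2 : IsPGroup 2 (DihedralGroup (2 ^ k)) := by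
        apply IsPGroup.of_card (n := k + 1)
        rw [DihedralGroup.nat_card, pow_succ']
      have hP2' : IsPGroup 2 ↥P := hP2.of_equiv e.symm
      obtain ⟨j, hj⟩ := hP2' ⟨x, hR hx⟩
      have hj' : x ^ 2 ^ j = 1 := congrArg Subtype.val hj
      have hex : ∃ j, x ^ 2 ^ j = 1 := ⟨j, hj'⟩
      classical
      have h1 := Nat.find_spec hex
      have h2 : ∀ i < Nat.find hex, x ^ 2 ^ i ≠ 1 := fun i hi => Nat.find_min hex hi
      have h3 : 2 ≤ Nat.find hex := by
        by_contra hcon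
        push Not at hcon
        have h4 : Nat.find hex = 0 ∨ Nat.find hex = 1 := by omega
        rcases h4 with h4 | h4
        · rw [h4, pow_zero, pow_one] at h1
          exact hxx (by rw [h1, mul_one])
        · rw [h4, pow_one, pow_two] at h1
          exact hxx h1
      obtain ⟨n, hn⟩ : ∃ n, Nat.find hex = n + 2 := ⟨Nat.find hex - 2, by omega⟩
      refine ⟨x ^ 2 ^ n, R.pow_mem hx _, ?_, ?_⟩
      · have := h2 (n + 1) (by omega)
        rwa [pow_succ, pow_mul, pow_two] at this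
      · have h5 : x ^ 2 ^ (n + 2) = x ^ 2 ^ n * x ^ 2 ^ n * (x ^ 2 ^ n * x ^ 2 ^ n) := by
          rw [← pow_add, ← pow_add]
          congr 1
          ring
        rw [← h5, ← hn]
        exact h1
    have key : ∀ v, ∀ hv : v ∈ R, v * v ≠ 1 → (v * v) * (v * v) = 1 → v * v = z := by
      intro v hv hv1 hv2
      have h1 : e ⟨v, hR hv⟩ * e ⟨v, hR hv⟩ = DihedralGroup.r ((2 ^ (k - 1) : ℕ) : ZMod (2 ^ k)) := by
        apply dih_four hk
        · rw [← map_mul]
          intro h3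
          exact hv1 (congrArg Subtype.val ((MulEquiv.map_eq_one_iff e).1 h3))
        · rw [← map_mul, ← map_mul]
          have : (⟨v, hR hv⟩ * ⟨v, hR hv⟩ * (⟨v, hR hv⟩ * ⟨v, hR hv⟩) : ↥P) = 1 := Subtype.ext hv2
          rw [this, map_one]
      rw [← map_mul, ← ez] at h1
      exact congrArg Subtype.val (e.injective h1)
    have h1 := key y hy hy1 hy2
    have h2 : (g * y * g⁻¹) * (g * y * g⁻¹) = g * (y * y) * g⁻¹ := by group
    have h3 := key (g * y * g⁻¹) (hg' y hy) (by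
      rw [h2]
      intro h4
      apply hy1
      have h5 : y * y = g⁻¹ * (g * (y * y) * g⁻¹) * g := by group
      rw [h5, h4]; group) (by
      rw [h2, show g * (y * y) * g⁻¹ * (g * (y * y) * g⁻¹) = g * ((y * y) * (y * y)) * g⁻¹ by group, hy2]
      group)
    rw [h2, h1] at h3
    exact h3

end sylow

/-! ### The row -/

theorem cent_eq {K : Type u} [Group K] {z : K} (P : Sylow 2 K) (hP : (P : Subgroup K) ≤ centralizer ({z} : Set K))
    (h2 : IsPGroup 2 ↥(centralizer ({z} : Set K))) : centralizer ({z} : Set K) = (P : Subgroup K) :=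
  P.3 h2 hP

theorem rowOne_psl2 {F : Type v} [Field F] [Fintype F] (ho : Odd (Fintype.card F)) (h11 : 11 ≤ Fintype.card F) :
    RowOne (Matrix.ProjectiveSpecialLinearGroup (Fin 2) F) := by
  rintro z ⟨hz, P, hP⟩ hcp W hW hzW hnW w hw ⟨α, hα⟩
  have hz1 : z ≠ 1 := by
    rintro rfl
    rw [orderOf_one] at hz
    omega
  have h2 := twoGroup_centralizer hz1 hcp
  have hPe := cent_eq P hP h2
  obtain ⟨k, hk, ⟨e⟩⟩ := dihedral_psl ho h11 P hP h2
  have hWP : W ≤ (P : Subgroup (Matrix.ProjectiveSpecialLinearGroup (Fin 2) F)) := by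
    rw [← hPe]
    intro v hv
    rw [mem_centralizer_singleton_iff]
    have e1 := hW _ (W.mul_mem hv hzW)
    have e2 := hW _ hv
    have e3 := hW _ hzW
    calc v * z = v * (v * z * (v * z)) * z := by rw [e1]; group
      _ = (v * v) * z * v * (z * z) := by group
      _ = z * v := by rw [e2, e3]; group
  refine eq_of_half hk e hWP ?_ hW hw hzW ?_ hz1
  · intro s hs v hv
    rw [← hPe] at hs
    exact (mem_normalizer_iff.1 (hnW hs) v).1 hv
  · intro h
    rw [h, MulEquiv.map_eq_one_iff] at hα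
    exact hz1 hα

theorem dihedral_equiv {K : Type u} [Group K] [Finite K] {F : Type v} [Field F] [Fintype F] (ho : Odd (Fintype.card F))
    (h11 : 11 ≤ Fintype.card F) (e : K ≃* Matrix.ProjectiveSpecialLinearGroup (Fin 2) F) {z : K} (P : Sylow 2 K)
    (hP : (P : Subgroup K) ≤ centralizer ({z} : Set K)) (h2 : IsPGroup 2 ↥(centralizer ({z} : Set K))) :
    ∃ k : ℕ, 3 ≤ k ∧ Nonempty (↥(P : Subgroup K) ≃* DihedralGroup (2 ^ k)) := by
  haveI : Fact (Nat.Prime 2) := ⟨Nat.prime_two⟩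
  have hcen : (centralizer ({z} : Set K)).map e.toMonoidHom =
      centralizer ({e z} : Set (Matrix.ProjectiveSpecialLinearGroup (Fin 2) F)) := by
    ext y
    constructor
    · rintro ⟨x, hx, rfl⟩
      rw [mem_centralizer_singleton_iff]
      change e x * e z = e z * e x
      rw [← map_mul, ← map_mul, mem_centralizer_singleton_iff.1 hx]
    · intro hy
      refine ⟨e.symm y, ?_, e.apply_symm_apply y⟩
      refine mem_centralizer_singleton_iff.2 (e.injective ?_)
      rw [map_mul, map_mul, e.apply_symm_apply]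
      exact mem_centralizer_singleton_iff.1 hy
  have hPm : ((P.mapSurjective (f := e.toMonoidHom) e.surjective :
      Sylow 2 (Matrix.ProjectiveSpecialLinearGroup (Fin 2) F)) : Subgroup _) =
      (P : Subgroup K).map e.toMonoidHom := rfl
  obtain ⟨k, hk, ⟨f⟩⟩ := dihedral_psl (z := e z) ho h11 (P.mapSurjective (f := e.toMonoidHom) e.surjective) (by
    rw [hPm, ← hcen]
    exact Subgroup.map_mono hP) (by
    rw [← hcen]
    exact h2.map _)
  exact ⟨k, hk, ⟨(e.subgroupMap (P : Subgroup K)).trans f⟩⟩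

end Cfsg.Agent.H585.TL
end

-- part: H832/Tall/Split
section
set_option linter.all false
open scoped Cfsg.Agent.FastGrp

/-!
# S2927, task 5476: `Both K` from a large extraspecial subgroup or from a sheet (helper832)

* `both_of` : reduction to one involution `z`;
* `both_of_irr` : `Large Q z`, `Irr Q z`, `|K : C(z)|` odd;
* `both_of_sheetX` : a sheet `OddHalf.D8.JTwo.Sheet.SheetX z P R` (and so `SheetE z P R`).
-/

set_option autoImplicit false

namespace Cfsg.Agent.H832.Tall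

open Subgroup Cfsg Cfsg.Agent.H226.Tall Cfsg.Agent.Co2Type.Quad Cfsg.Agent.KFacts.LargeO2
open Cfsg.Agent.H239.CharPLocal (CP)
open Cfsg.Agent.OddHalf.D8.JTwo.Sheet
open Cfsg.Agent.OddHalf.D8.Sheet (map_P)
open scoped commutatorElement

universe u

section

variable {K : Type*} [Group K]

/-- conjugation of the centralizer -/
theorem cent_conj {g a b : K} (h : g * a * g⁻¹ = b) (u : K) : u * b = b * u ↔ (g⁻¹ * u * g) * a = a * (g⁻¹ * u * g) := by
  subst h
  constructor
  · intro h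
    calc g⁻¹ * u * g * a = g⁻¹ * (u * (g * a * g⁻¹)) * g := by group
      _ = a * (g⁻¹ * u * g) := by rw [h]; group
  · intro h
    calc u * (g * a * g⁻¹) = g * (g⁻¹ * u * g * a) * g⁻¹ := by group
      _ = g * a * g⁻¹ * u := by rw [h]; group

/-- **Reduction to one involution**: all 2-central involutions are conjugate to `z`, the only nontrivial elements
of a `C(z)`-invariant elementary abelian subgroup `W ∋ z` are `z`, and `C(z)` is not a 2-group. -/
theorem both_of {z : K} (hcj : ∀ z₀ : K, TwoC z₀ → ∃ g : K, g * z₀ * g⁻¹ = z)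
    (hW : ∀ W : Subgroup K, (∀ w ∈ W, w * w = 1) → z ∈ W → (∀ u : K, u * z = z * u → ∀ w ∈ W, u * w * u⁻¹ ∈ W) →
      ∀ w ∈ W, w = 1 ∨ w = z) (h2 : ¬ IsPGroup 2 ↥(centralizer ({z} : Set K))) : Both K := by
  constructor
  · intro z₀ hz₀ _ W hsq hzW hn w hw hα
    obtain ⟨α, hα⟩ := hα
    obtain ⟨g, hg⟩ := hcj z₀ hz₀
    have hmem : ∀ x, x ∈ W.map (MulAut.conj g).toMonoidHom ↔ g⁻¹ * x * g ∈ W := by
      intro x
      constructor
      · rintro ⟨y, hy, rfl⟩
        show g⁻¹ * (g * y * g⁻¹) * g ∈ W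
        have : g⁻¹ * (g * y * g⁻¹) * g = y := by group
        rwa [this]
      · intro hx
        refine ⟨_, hx, ?_⟩
        show g * (g⁻¹ * x * g) * g⁻¹ = x
        group
    have h1 := hW (W.map (MulAut.conj g).toMonoidHom) (by
      rintro _ ⟨y, hy, rfl⟩
      rw [← map_mul, hsq y hy, map_one]) ((hmem z).2 (by
        rw [← hg]
        have : g⁻¹ * (g * z₀ * g⁻¹) * g = z₀ := by group
        rwa [this])) (by
      intro u hu y hy
      rw [hmem] at hy ⊢
      have h3 : g⁻¹ * u * g ∈ centralizer ({z₀} : Set K) :=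
        mem_centralizer_singleton_iff.2 ((cent_conj hg u).1 hu)
      have h4 := (mem_normalizer_iff.1 (hn h3) (g⁻¹ * y * g)).1 hy
      have h5 : g⁻¹ * (u * y * u⁻¹) * g = g⁻¹ * u * g * (g⁻¹ * y * g) * (g⁻¹ * u * g)⁻¹ := by group
      rw [h5]
      exact h4) (g * w * g⁻¹) ⟨w, hw, rfl⟩
    have hw1 : w ≠ 1 := by
      rintro rfl
      have h5 : z₀ = 1 := α.injective (by rw [hα, map_one])
      have h6 := hz₀.1
      rw [h5, orderOf_one] at h6
      omega
    rcases h1 with h1 | h1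
    · exfalso
      apply hw1
      calc w = g⁻¹ * (g * w * g⁻¹) * g := by group
        _ = 1 := by rw [h1]; group
    · calc w = g⁻¹ * (g * w * g⁻¹) * g := by group
        _ = g⁻¹ * (g * z₀ * g⁻¹) * g := by rw [h1, hg]
        _ = z₀ := by group
  · intro z₀ hz₀ h3
    obtain ⟨g, hg⟩ := hcj z₀ hz₀
    apply h2
    rintro ⟨x, hx⟩
    rw [mem_centralizer_singleton_iff] at hx
    obtain ⟨k, hk⟩ := h3 ⟨g⁻¹ * x * g, mem_centralizer_singleton_iff.2 ((cent_conj hg x).1 hx)⟩
    refine ⟨k, Subtype.ext ?_⟩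
    have h4 : (g⁻¹ * x * g) ^ 2 ^ k = 1 := congrArg Subtype.val hk
    show x ^ 2 ^ k = 1
    have h5 : g⁻¹ * x ^ 2 ^ k * g = 1 := by
      rw [← h4]
      have h6 : ∀ n : ℕ, (g⁻¹ * x * g) ^ n = g⁻¹ * x ^ n * g := by
        intro n
        induction n with
        | zero => simp
        | succ n ih => rw [pow_succ, ih, pow_succ]; group
      rw [h6]
    calc x ^ 2 ^ k = g * (g⁻¹ * x ^ 2 ^ k * g) * g⁻¹ := by group
      _ = 1 := by rw [h5]; group

/-- conjugacy of the 2-central involutions, if `1, z` are the only 2-elements centralising some Sylow 2-subgroup -/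
theorem conj_of_syl [Finite K] {z : K} {S : Sylow 2 K} (hS : ∀ y : K, (∃ n : ℕ, y ^ 2 ^ n = 1) → (∀ x ∈ S, x * y = y * x) → y = 1 ∨ y = z)
    {z₀ : K} (hz₀ : TwoC z₀) : ∃ g : K, g * z₀ * g⁻¹ = z := by
  obtain ⟨ho, P, hP⟩ := hz₀
  obtain ⟨g, hg⟩ := MulAction.exists_smul_eq K P S
  refine ⟨g, ?_⟩
  have h1 : (g * z₀ * g⁻¹) ^ 2 ^ 1 = 1 := by
    have h0 : z₀ * z₀ = 1 := by rw [← pow_two, ← ho, pow_orderOf_eq_one]
    rw [pow_one, pow_two]
    calc g * z₀ * g⁻¹ * (g * z₀ * g⁻¹) = g * (z₀ * z₀) * g⁻¹ := by group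
      _ = 1 := by rw [h0]; group
  rcases hS (g * z₀ * g⁻¹) ⟨1, h1⟩ (by
    intro x hx
    rw [← hg] at hx
    have hx' : g⁻¹ * x * g ∈ P := by
      obtain ⟨y, hy, rfl⟩ : ∃ y ∈ P, g * y * g⁻¹ = x := hx
      have h4 : g⁻¹ * (g * y * g⁻¹) * g = y := by group
      rwa [h4]
    have h3 := mem_centralizer_singleton_iff.1 (hP hx')
    exact (cent_conj rfl x).2 h3) with h2 | h2
  · exfalso
    have h3 : z₀ = 1 := by
      calc z₀ = g⁻¹ * (g * z₀ * g⁻¹) * g := by group
        _ = 1 := by rw [h2]; group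
    rw [h3, orderOf_one] at ho
    omega
  · exact h2

end

/-- elements of an elementary abelian subgroup commute -/
theorem comm_of_sq {K : Type*} [Group K] {W : Subgroup K} (hsq : ∀ w ∈ W, w * w = 1) {a b : K} (ha : a ∈ W) (hb : b ∈ W) :
    a * b = b * a := by
  have h1 : ∀ w ∈ W, w⁻¹ = w := fun w hw => inv_eq_of_mul_eq_one_right (hsq w hw)
  have h2 := h1 (a * b) (W.mul_mem ha hb)
  rw [mul_inv_rev, h1 a ha, h1 b hb] at h2
  exact h2.symm

theorem isPGroup_of_sq {K : Type*} [Group K] {W : Subgroup K} (hsq : ∀ w ∈ W, w * w = 1) : IsPGroup 2 W := by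
  rintro ⟨x, hx⟩
  refine ⟨1, Subtype.ext ?_⟩
  show x ^ 2 ^ 1 = 1
  rw [pow_one, pow_two, hsq x hx]

/-- a 2-element normalising (centralising) a Sylow 2-subgroup is in it -/
theorem mem_sylow_of_cent {K : Type*} [Group K] [Finite K] (S : Sylow 2 K) {y : K} (hy : ∃ n : ℕ, y ^ 2 ^ n = 1)
    (hc : ∀ x ∈ S, x * y = y * x) : y ∈ S := by
  have hp : IsPGroup 2 (zpowers y) := by
    obtain ⟨n, hn⟩ := hy
    rintro ⟨x, k, rfl⟩
    refine ⟨n, Subtype.ext ?_⟩
    show (y ^ k) ^ 2 ^ n = 1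
    rw [← zpow_natCast, ← zpow_mul, mul_comm, zpow_mul, zpow_natCast, hn, one_zpow]
  have h1 := hp.inf_normalizer_sylow S
  have h2 : y ∈ zpowers y ⊓ normalizer (S : Set K) := by
    refine ⟨mem_zpowers y, mem_normalizer_iff.2 fun x => ?_⟩
    constructor
    · intro hx
      have h3 : y * x * y⁻¹ = x := by rw [← hc x hx, mul_inv_cancel_right]
      rw [h3]
      exact hx
    · intro hx
      have h3 := hc _ hx
      have h4 : x = y * x * y⁻¹ := by
        have h5 : y⁻¹ * (y * x * y⁻¹ * y) = y⁻¹ * (y * (y * x * y⁻¹)) := by rw [h3]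
        simpa [mul_assoc] using h5
      rw [h4]
      exact hx
  rw [h1] at h2
  exact h2.2

/-- **From the sheet** -/
theorem both_of_sheetX {K : Type*} [Group K] [Finite K] {z : K} {P R : Subgroup K} (h : SheetX z P R) : Both K := by
  obtain ⟨S, hzS, hcS, hcen⟩ := h.syl
  have hPle : P ≤ centralizer ({z} : Set K) := fun x hx => mem_centralizer_singleton_iff.2 (h.cen x hx)
  refine both_of (z := z) (fun z₀ hz₀ => conj_of_syl (S := S) ?_ hz₀) ?_ ?_
  · intro y hy hc
    exact hcen y (mem_sylow_of_cent S hy hc) hc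
  · -- `P` is normal in `C(z)`
    have hPn : ∀ u : K, u * z = z * u → ∀ x ∈ P, u * x * u⁻¹ ∈ P := by
      intro u hu x hx
      have hcz : MulAut.conj u z = z := by
        rw [MulAut.conj_apply, hu, mul_inv_cancel_right]
      exact map_P h.perf h.cen h.der (MulAut.conj u) hcz hx
    intro W hsq hzW hn w hw
    have hWz : ∀ w ∈ W, w * z = z * w := fun w hw => comm_of_sq hsq hw hzW
    have hWP : ∀ w ∈ W ⊓ P, w = 1 ∨ w = z := by
      have hinv : ∀ x ∈ P, ∀ b ∈ W ⊓ P, x * b * x⁻¹ ∈ W ⊓ P := fun x hx b hb =>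
        ⟨hn x (h.cen x hx) b hb.1, P.mul_mem (P.mul_mem hx hb.2) (P.inv_mem hx)⟩
      have h1 : W ⊓ P ≤ R := h.Rmax _ inf_le_right (isPGroup_of_sq fun w hw => hsq w hw.1) hinv
      rcases h.Rmin _ h1 hinv with h2 | h2
      · exact h2
      · exfalso
        obtain ⟨a, ha, b, hb, hab⟩ := h.Rna
        rw [← h2] at ha hb
        exact hab (comm_of_sq hsq ha.1 hb.1)
    have hwz := hWz w hw
    -- `w` centralises `P`
    have hwx : ∀ x ∈ P, w * x * w⁻¹ = x ∨ w * x * w⁻¹ = z * x := by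
      intro x hx
      have h1 : w * x * w⁻¹ * x⁻¹ ∈ W ⊓ P := by
        refine ⟨?_, P.mul_mem (hPn w hwz x hx) (P.inv_mem hx)⟩
        have h2 := W.mul_mem hw (hn x (h.cen x hx) _ (W.inv_mem hw))
        have h3 : w * x * w⁻¹ * x⁻¹ = w * (x * w⁻¹ * x⁻¹) := by group
        rw [h3]
        exact h2
      rcases hWP _ h1 with h2 | h2
      · exact Or.inl (mul_inv_eq_one.1 h2)
      · exact Or.inr (mul_inv_eq_iff_eq_mul.1 h2)
    have hcomm : ∀ x ∈ P, w * x * w⁻¹ = x := by
      have h1 : ⁅P, P⁆ ≤ centralizer ({w} : Set K) := by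
        rw [commutator_le]
        intro a ha b hb
        rw [mem_centralizer_singleton_iff]
        have haz := h.cen a ha
        have hbz := h.cen b hb
        have hzi : z⁻¹ = z := inv_eq_of_mul_eq_one_right h.zz
        have key : w * ⁅a, b⁆ * w⁻¹ = ⁅a, b⁆ := by
          have h2 : w * ⁅a, b⁆ * w⁻¹ = ⁅w * a * w⁻¹, w * b * w⁻¹⁆ := by
            rw [commutatorElement_def, commutatorElement_def]; group
          rw [h2]
          have hca : Commute z a := haz.symm
          have hcb : Commute z b := hbz.symm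
          have e1 : ∀ c d : K, Commute z c → Commute z d → ⁅z * c, d⁆ = ⁅c, d⁆ := by
            intro c d hc hd
            rw [commutatorElement_def, commutatorElement_def, mul_inv_rev]
            calc z * c * d * (c⁻¹ * z⁻¹) * d⁻¹ = z * (c * d * c⁻¹) * z⁻¹ * d⁻¹ := by group
              _ = (c * d * c⁻¹) * d⁻¹ := by
                have h5 : Commute z (c * d * c⁻¹) := (hc.mul_right hd).mul_right hc.inv_right
                rw [h5.eq, mul_inv_cancel_right]
          have e2 : ∀ c d : K, Commute z c → Commute z d → ⁅c, z * d⁆ = ⁅c, d⁆ := by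
            intro c d hc hd
            rw [commutatorElement_def, commutatorElement_def, mul_inv_rev]
            calc c * (z * d) * c⁻¹ * (d⁻¹ * z⁻¹) = (c * z) * (d * c⁻¹ * d⁻¹) * z⁻¹ := by group
              _ = z * (c * (d * c⁻¹ * d⁻¹)) * z⁻¹ := by rw [← hc.eq, mul_assoc z c]
              _ = c * (d * c⁻¹ * d⁻¹) := by
                have h5 : Commute z (c * (d * c⁻¹ * d⁻¹)) :=
                  hc.mul_right ((hd.mul_right hc.inv_right).mul_right hd.inv_right)
                rw [h5.eq, mul_inv_cancel_right]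
              _ = c * d * c⁻¹ * d⁻¹ := by group
          rcases hwx a ha with h3 | h3 <;> rcases hwx b hb with h4 | h4 <;> rw [h3, h4]
          · exact e2 a b hca hcb
          · exact e1 a b hca hcb
          · rw [e1 a (z * b) hca ((Commute.refl z).mul_right hcb), e2 a b hca hcb]
        calc ⁅a, b⁆ * w = (w * ⁅a, b⁆ * w⁻¹) * w := by rw [key]
          _ = w * ⁅a, b⁆ := by group
      intro x hx
      rw [← h.perf] at hx
      have h2 := mem_centralizer_singleton_iff.1 (h1 hx)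
      rw [← h2, mul_inv_cancel_right]
    -- `w` acts as an element of `R`
    obtain ⟨r, hr, hwr⟩ := h.aut (MulAut.conj w) (by
      rintro ⟨x, k, rfl⟩
      refine ⟨1, Subtype.ext ?_⟩
      show (MulAut.conj w ^ k) ^ 2 ^ 1 = 1
      rw [pow_one, ← zpow_natCast, ← zpow_mul, mul_comm, zpow_mul, zpow_natCast, pow_two, ← map_mul, hsq w hw, map_one,
        one_zpow]) (by rw [MulAut.conj_apply, hwz, mul_inv_cancel_right]) (by
      intro x hx
      rw [MulAut.conj_apply, hcomm x hx, inv_mul_cancel]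
      exact R.one_mem)
    have hwr' : ∀ x : K, w * x * w⁻¹ = r * x * r⁻¹ := fun x => DFunLike.congr_fun hwr x
    set c : K := r⁻¹ * w with hc
    have hcc : ∀ x : K, x * c = c * x := by
      intro x
      have h1 := hwr' x
      have h2 : c * x * c⁻¹ = x := by
        rw [hc]
        calc r⁻¹ * w * x * (r⁻¹ * w)⁻¹ = r⁻¹ * (w * x * w⁻¹) * r := by group
          _ = x := by rw [h1]; group
      rw [← mul_inv_eq_iff_eq_mul.1 h2]
    have hwc : w = r * c := by rw [hc]; group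
    have hcR : c ∈ R := by
      have h2 : ∃ n : ℕ, c ^ 2 ^ n = 1 := by
        obtain ⟨n, hn'⟩ := h.R2 ⟨r, hr⟩
        have h3 : r ^ 2 ^ n = 1 := congrArg Subtype.val hn'
        refine ⟨n + 1, ?_⟩
        have h4 : Commute r⁻¹ w := by
          have h5 := hcc r
          rw [hc] at h5
          show r⁻¹ * w = w * r⁻¹
          have h6 : w = r⁻¹ * w * r := by rw [← h5]; group
          calc r⁻¹ * w = (r⁻¹ * w * r) * r⁻¹ := by group
            _ = w * r⁻¹ := by rw [← h6]
        rw [hc, h4.mul_pow, inv_pow, pow_succ, pow_mul, h3, one_pow, inv_one, one_mul, mul_comm, pow_mul, pow_two,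
          hsq w hw, one_pow]
      rcases hcen c (mem_sylow_of_cent S h2 fun x _ => hcc x) (fun x _ => hcc x) with h3 | h3
      · rw [h3]; exact R.one_mem
      · rw [h3]; exact h.zR
    refine hWP w ⟨hw, ?_⟩
    rw [hwc]
    exact h.RP (R.mul_mem hr hcR)
  · intro hp
    have hP2 : IsPGroup 2 P := hp.to_le hPle
    have hnt : Nontrivial P := ⟨⟨⟨z, h.RP h.zR⟩, 1, fun e => h.z1 (congrArg Subtype.val e)⟩⟩
    have hsol : Group.IsSolvable P := by
      have := hP2.isNilpotent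
      infer_instance
    have h1 : commutator P < ⊤ := Group.IsSolvable.commutator_lt_top_of_nontrivial P
    apply h1.ne
    have h2 := map_subtype_commutator P
    rw [h.perf] at h2
    apply Subgroup.map_injective P.subtype_injective
    rw [h2, ← MonoidHom.range_eq_map, P.range_subtype]

end Cfsg.Agent.H832.Tall
end

-- part: H395/TallRow/Base
section
set_option linter.all false
open scoped Cfsg.Agent.FastGrp

/-!
# S2927: tools for special rows (helper395)
-/

set_option autoImplicit false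

namespace Cfsg.Agent.H395.TallRow

open Subgroup Cfsg Cfsg.Agent.H226.Tall
open Cfsg.Agent.H239.CharPLocal (CP cp_centralizer_conj)

open scoped Pointwise

universe u

variable {G : Type u} [Group G] [Finite G] {S : Sylow 2 G} {Q M Y : Subgroup G} {x : G} {K : Subgroup G}

/-- a central involution of `S` in the normal subgroup `K` of even order -/
theorem exists_inv (S : Sylow 2 G) (hK : K.Normal) (h2 : 2 ∣ Nat.card K) :
    ∃ z ∈ (S : Subgroup G), z ∈ K ∧ z ≠ 1 ∧ z * z = 1 ∧ ∀ s ∈ (S : Subgroup G), s * z = z * s := by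
  obtain ⟨t, ht⟩ := exists_prime_orderOf_dvd_card' (G := K) 2 h2
  have ht' : orderOf (t : G) = 2 := by rw [Subgroup.orderOf_coe]; exact ht
  have hP : IsPGroup 2 (zpowers (t : G)) := IsPGroup.of_card (n := 1) (by rw [Nat.card_zpowers, ht', pow_one])
  obtain ⟨P, hP'⟩ := hP.exists_le_sylow
  obtain ⟨g, hg⟩ := MulAction.exists_smul_eq G P S
  have h3 : g * t * g⁻¹ ∈ (S : Subgroup G) := by
    rw [← hg, Sylow.coe_subgroup_smul]
    exact smul_mem_pointwise_smul (t : G) (MulAut.conj g) _ (hP' (mem_zpowers (t : G)))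
  have h4 : g * t * g⁻¹ ∈ K := hK.conj_mem _ t.2 g
  have hne : (K.subgroupOf (S : Subgroup G)) ≠ ⊥ := by
    intro h
    have h5 : (⟨g * t * g⁻¹, h3⟩ : (S : Subgroup G)) ∈ K.subgroupOf (S : Subgroup G) := mem_subgroupOf.2 h4
    rw [h, mem_bot] at h5
    have h6 : g * t * g⁻¹ = 1 := congrArg Subtype.val h5
    rw [mul_inv_eq_one] at h6
    have h7 : (t : G) = 1 := mul_eq_left.1 h6
    rw [h7, orderOf_one] at ht'
    omega
  have hn : (K.subgroupOf (S : Subgroup G)).Normal := inferInstance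
  obtain ⟨z, hz, hzc, hzo⟩ := Involutions.NormalFour.exists_mem_center_of_normal S.2 _ hne
  refine ⟨z, z.2, mem_subgroupOf.1 hz, ?_, ?_, ?_⟩
  · intro h
    have : z = 1 := Subtype.ext h
    rw [this, orderOf_one] at hzo
    omega
  · have h5 := pow_orderOf_eq_one z
    rw [hzo, pow_two] at h5
    exact congrArg Subtype.val h5
  · intro s hs
    exact (congrArg Subtype.val (mem_center_iff.1 hzc ⟨s, hs⟩))

theorem one_le_wc (Q Y : Subgroup G) : Y ≤ Wc Q Y := fun y hy =>
  subset_closure ⟨1, one_mem _, y, hy, by group⟩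

/-- `N(Q)` normalises `W` -/
theorem wc_norm {Q Y : Subgroup G} {n : G} (hn : n ∈ normalizer (Q : Set G)) {w : G} (hw : w ∈ Wc Q Y) :
    n * w * n⁻¹ ∈ Wc Q Y := by
  have h : Wc Q Y ≤ (Wc Q Y).comap (MulAut.conj n).toMonoidHom := by
    conv_lhs => unfold Wc
    rw [closure_le]
    rintro _ ⟨c, hc, y, hy, rfl⟩
    show n * (c * y * c⁻¹) * n⁻¹ ∈ Wc Q Y
    exact subset_closure ⟨n * c, mul_mem hn hc, y, hy, by group⟩
  exact h hw

theorem comm_of_sq' {E : Subgroup G} (h : ∀ w ∈ E, w * w = 1) {a b : G} (ha : a ∈ E) (hb : b ∈ E) :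
    a * b = b * a := by
  have h1 := h _ (mul_mem ha hb)
  have h2 : a⁻¹ = a := inv_eq_of_mul_eq_one_left (h a ha)
  have h3 : b⁻¹ = b := inv_eq_of_mul_eq_one_left (h b hb)
  have h4 : a * b = (a * b)⁻¹ := (inv_eq_of_mul_eq_one_left h1).symm
  rw [h4, mul_inv_rev, h2, h3]

/-- `W ≤ T` -/
theorem wc_le (h : Tall S Q M Y x) : Wc Q Y ≤ O2 M := by
  intro w hw
  rw [h.T_eq]
  refine ⟨h.Q_le (h.W_le hw), mem_centralizer_iff.2 fun y hy => ?_⟩
  exact comm_of_sq' h.W_sq (one_le_wc Q Y hy) hw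

/-- `M` normalises `O₂(M)` -/
theorem o2_norm {L : Subgroup G} {m : G} (hm : m ∈ L) {t : G} (ht : t ∈ O2 L) : m * t * m⁻¹ ∈ O2 L := by
  obtain ⟨t', ht', rfl⟩ := ht
  have hn : (pCore 2 ↥L).Normal := inferInstance
  exact ⟨(⟨m, hm⟩ * t' * ⟨m, hm⟩⁻¹ :), hn.conj_mem _ ht' _, rfl⟩

/-- the centraliser of a central involution -/
theorem good_z (h : Tall S Q M Y x) {z : G} (hz1 : z ≠ 1) (hzz : z * z = 1)
    (hzc : ∀ s ∈ (S : Subgroup G), s * z = z * s) :
    centralizer ({z} : Set G) ≤ normalizer (Q : Set G) ∧ CP 2 ↥(centralizer ({z} : Set G)) :=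
  h.good z (h.zS z hzc ⟨1, by rw [pow_one, pow_two]; exact hzz⟩) hz1 fun q hq => hzc q (h.Q_le hq)

/-- **`x` is not conjugate to a 2-central involution** -/
theorem x_not_conj (h : Tall S Q M Y x) {z : G} (hz1 : z ≠ 1) (hzz : z * z = 1)
    (hzc : ∀ s ∈ (S : Subgroup G), s * z = z * s) (g : G) : g * z * g⁻¹ ≠ x := by
  rintro rfl
  exact h.x_bad (cp_centralizer_conj g z (good_z h hz1 hzz hzc).2)

/-- the Sylow subgroup of `K` -/
theorem exists_sylow_sub (S : Sylow 2 G) (hK : K.Normal) :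
    ∃ P : Sylow 2 K, ∀ p ∈ P, (p : G) ∈ (S : Subgroup G) := by
  have := hK
  obtain ⟨P⟩ := (inferInstance : Nonempty (Sylow 2 K))
  have hP : IsPGroup 2 ((P : Subgroup K).map K.subtype) := P.isPGroup'.map _
  obtain ⟨R, hR⟩ := hP.exists_le_sylow
  obtain ⟨g, hg⟩ := MulAction.exists_smul_eq G R S
  refine ⟨(MulAut.conjNormal g : MulAut K) • P, fun p hp => ?_⟩
  have hp' : p ∈ ((MulAut.conjNormal g : MulAut K) • (P : Subgroup K)) := hp
  obtain ⟨r, hr, rfl⟩ := hp'
  show g * (r : G) * g⁻¹ ∈ (S : Subgroup G)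
  rw [← hg, Sylow.coe_subgroup_smul]
  exact smul_mem_pointwise_smul (r : G) (MulAut.conj g) _ (hR ⟨r, hr, rfl⟩)

end Cfsg.Agent.H395.TallRow
end

-- part: H799/Tall/Tools
section
set_option linter.all false
open scoped Cfsg.Agent.FastGrp

/-!
# Tools for the rows of S2927 (helper799)

* `eq_top_of_inner` : a normal subgroup `K` with `C_G(K) = 1` and only inner automorphisms is `G`;
* `card_mulAut_dvd` : `|Aut A|` divides `(|A| - 1)!`;
-/

set_option autoImplicit false

namespace Cfsg.Agent.H799.Tall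

open Subgroup Cfsg

theorem eq_top_of_inner {G : Type*} [Group G] {K : Subgroup G} [K.Normal] (hC : centralizer (K : Set G) = ⊥)
    (hin : ∀ α : MulAut ↥K, ∃ k : ↥K, α = MulAut.conj k) : K = ⊤ := by
  rw [eq_top_iff]
  intro g _
  obtain ⟨k, hk⟩ := hin (MulAut.conjNormal g)
  have h1 : (k : G)⁻¹ * g ∈ centralizer (K : Set G) := by
    rw [mem_centralizer_iff]
    intro a ha
    have h2 := congrArg (fun f : MulAut ↥K => ((f ⟨a, ha⟩ : ↥K) : G)) hk
    simp only [MulAut.conjNormal_apply, MulAut.conj_apply, Subgroup.coe_mul, Subgroup.coe_inv] at h2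
    calc a * ((k : G)⁻¹ * g) = (k : G)⁻¹ * (k * a * (k : G)⁻¹) * g := by group
      _ = (k : G)⁻¹ * (g * a * g⁻¹) * g := by rw [h2]
      _ = (k : G)⁻¹ * g * a := by group
  rw [hC, mem_bot] at h1
  have h2 : g = k := by
    rw [inv_mul_eq_one] at h1
    exact h1.symm
  rw [h2]
  exact k.2

/-- the automorphism group permutes the nontrivial elements -/
theorem card_mulAut_dvd (A : Type*) [Group A] [Finite A] : Nat.card (MulAut A) ∣ (Nat.card A - 1).factorial := by
  classical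
  have := Fintype.ofFinite A
  let f : MulAut A →* Equiv.Perm {a : A // a ≠ 1} :=
    { toFun := fun α => α.toEquiv.subtypeEquiv fun a => by
        show a ≠ 1 ↔ α a ≠ 1
        rw [ne_eq, ne_eq, map_eq_one_iff α α.injective]
      map_one' := by ext a; rfl
      map_mul' := fun α β => by ext a; rfl }
  have hf : Function.Injective f := by
    intro α β h
    ext a
    by_cases ha : a = 1
    · rw [ha, map_one, map_one]
    · exact congrArg Subtype.val (DFunLike.congr_fun h ⟨a, ha⟩)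
  have h1 := Subgroup.card_dvd_of_injective f hf
  have h2 : Nat.card {a : A // a ≠ 1} = Nat.card A - 1 := by
    rw [Nat.card_eq_fintype_card, Nat.card_eq_fintype_card, Fintype.card_subtype_compl]
    simp
  rwa [Nat.card_perm, h2] at h1

end Cfsg.Agent.H799.Tall
end

-- part: H252/LT/Rows
section
set_option linter.all false
open scoped Cfsg.Agent.FastGrp

-- part: H252/LT/Base
section
/-!
# S2927: the standing counterexample

`Cx S Q M`: `S` Sylow 2 in `G`, `Q ≤ S` large, `M ∈ 𝔐_G(S)`, `Y = Y_M` asymmetric, tall, not characteristic 2-tall.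
-/

set_option autoImplicit false
set_option linter.unusedSectionVars false
open Cfsg Subgroup
open Cfsg.Agent.H229 Cfsg.Agent.H230

namespace Cfsg.Agent.H252.LT

variable {G : Type*} [Group G]

/-- A counterexample to S2927 (after elementary reductions). `Y = largestPReducedOf 2 M`, `T = pCoreOf 2 M = O₂(M)`. -/
structure Cx (S : Sylow 2 G) (Q M : Subgroup G) : Prop where
  st : Setup 2 S Q M
  /-- `Q = O₂(N_G(Q))` -/
  bullet : pCoreOf 2 (normalizer (Q : Set G)) = Q
  /-- `S` lies in two maximal 2-local subgroups -/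
  two : ∃ M₁ M₂ : Subgroup G, M₁ ≠ M₂ ∧ Cfsg.IsMaximalTwoLocal M₁ ∧ Cfsg.IsMaximalTwoLocal M₂ ∧
    (S : Subgroup G) ≤ M₁ ∧ (S : Subgroup G) ≤ M₂
  asym : ¬ IsSymmetricIn (largestPReducedOf 2 M)
  /-- `Y ≤ O₂(L)` for every `L ≥ O₂(M)` of characteristic 2 -/
  short : ∀ L : Subgroup G, pCoreOf 2 M ≤ L → ChP 2 L → largestPReducedOf 2 M ≤ pCoreOf 2 L
  /-- a bad element of `Y` -/
  bad : ∃ x ∈ largestPReducedOf 2 M, x ≠ 1 ∧ ¬ ChP 2 (centralizer ({x} : Set G))
  /-- `C_Y(M) = 1` -/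
  fix : ∀ y ∈ largestPReducedOf 2 M, M ≤ centralizer ({y} : Set G) → y = 1

/-- `C(z) ≤ C(⟨z⟩)` -/
theorem centralizer_singleton_le_zpowers (z : G) :
    centralizer ({z} : Set G) ≤ centralizer (zpowers z : Set G) := by
  intro x hx
  rw [mem_centralizer_singleton_iff] at hx
  rw [mem_centralizer_iff]
  rintro _ ⟨k, rfl⟩
  exact ((Commute.zpow_right hx k).eq).symm

namespace Cx

variable [Finite G] {S : Sylow 2 G} {Q M : Subgroup G}

theorem mem_cent {x y : G} : x ∈ centralizer ({y} : Set G) ↔ x * y = y * x := by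
  rw [mem_centralizer_singleton_iff]

theorem T_le_S (c : Cx S Q M) : pCoreOf 2 M ≤ (S : Subgroup G) := c.st.core_le_S

theorem Y_le_T (_c : Cx S Q M) : largestPReducedOf 2 M ≤ pCoreOf 2 M := largest_le_pCoreOf 2 M

theorem Y_ea (_c : Cx S Q M) : IsElementaryAbelian 2 (largestPReducedOf 2 M) := largest_ea 2 M

theorem M_norm_Y (_c : Cx S Q M) : M ≤ normalizer (largestPReducedOf 2 M : Set G) := largest_normal 2 M

theorem S_norm_Q (c : Cx S Q M) : (S : Subgroup G) ≤ normalizer (Q : Set G) :=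
  c.st.large.le_norm_of_le S.2 c.st.QS

theorem chP_of_S (c : Cx S Q M) {L : Subgroup G} (hL : (S : Subgroup G) ≤ L) (h1 : pCoreOf 2 L ≠ ⊥) : ChP 2 L :=
  c.st.large.chP (c.st.QS.trans hL) h1

theorem Y_le_of_S (c : Cx S Q M) {L : Subgroup G} (hL : (S : Subgroup G) ≤ L) (h1 : pCoreOf 2 L ≠ ⊥) :
    largestPReducedOf 2 M ≤ pCoreOf 2 L :=
  c.short L (c.T_le_S.trans hL) (c.chP_of_S hL h1)

theorem Y_le_Q (c : Cx S Q M) : largestPReducedOf 2 M ≤ Q := by
  have h1 : pCoreOf 2 (normalizer (Q : Set G)) ≠ ⊥ := by rw [c.bullet]; exact c.st.large.ne_bot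
  have := c.Y_le_of_S c.S_norm_Q h1
  rwa [c.bullet] at this

/-- central elements of `S` -/
theorem center_mem_S (c : Cx S Q M) {z : G} (hz : z ∈ centralizer ((S : Subgroup G) : Set G)) : z ∈ Q :=
  c.st.large.cent (centralizer_le (show (Q : Set G) ⊆ (S : Subgroup G) from c.st.QS) hz)

theorem center_mem_Y (c : Cx S Q M) {z : G} (hz : z ∈ centralizer ((S : Subgroup G) : Set G)) (h2 : z ^ 2 = 1) :
    z ∈ largestPReducedOf 2 M := by
  have h1 := omegaOne_le_largest c.st.chP (isSylowOf_of_sylow S c.st.SM)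
  exact h1 (Subgroup.subset_closure ⟨⟨c.st.QS (c.center_mem_S hz), hz⟩, h2⟩)

theorem cent_le_norm_Q (c : Cx S Q M) {z : G} (hz : z ∈ centralizer ((S : Subgroup G) : Set G)) (h1 : z ≠ 1) :
    centralizer ({z} : Set G) ≤ normalizer (Q : Set G) := by
  have h2 : zpowers z ≤ centralizer (Q : Set G) := by
    rw [zpowers_le]
    exact centralizer_le (show (Q : Set G) ⊆ (S : Subgroup G) from c.st.QS) hz
  have h3 : zpowers z ≠ ⊥ := by rwa [Ne, zpowers_eq_bot]
  refine le_trans ?_ (c.st.large.norm h2 h3)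
  refine le_trans ?_ (centralizer_le_norm _)
  exact (centralizer_singleton_le_zpowers z)

theorem not_M_le (c : Cx S Q M) {z : G} (hz : z ∈ centralizer ((S : Subgroup G) : Set G)) (h2 : z ^ 2 = 1)
    (h1 : z ≠ 1) : ¬ M ≤ centralizer ({z} : Set G) := fun h => h1 (c.fix z (c.center_mem_Y hz h2) h)

/-! ### The elementary abelian normal subgroup `V = ⟨Y^{N_G(Q)}⟩` of `N_G(Q)` -/

/-- `V = ⟨Y^{N_G(Q)}⟩` -/
def V (_c : Cx S Q M) : Subgroup G := ncl (normalizer (Q : Set G)) (largestPReducedOf 2 M)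

theorem Y_le_V (c : Cx S Q M) : largestPReducedOf 2 M ≤ c.V := le_ncl _ _

theorem V_ea (c : Cx S Q M) : IsElementaryAbelian 2 c.V :=
  ea_ncl_of_asym c.asym c.Y_ea c.Y_le_Q (c.st.QS.trans (c.st.SM.trans c.M_norm_Y))

theorem norm_V (c : Cx S Q M) : normalizer (Q : Set G) ≤ normalizer (c.V : Set G) := le_norm_ncl _ _

theorem V_le_Q (c : Cx S Q M) : c.V ≤ Q := ncl_le le_rfl c.Y_le_Q

/-- `C_M(Y ∩ K) ∩ K ≤ C_M(Y)` for `K` normal in `G`. -/
theorem cent_inf_le (c : Cx S Q M) {K : Subgroup G} [hK : K.Normal] :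
    M ⊓ K ⊓ centralizer ((largestPReducedOf 2 M ⊓ K : Subgroup G) : Set G) ≤
      centralizer (largestPReducedOf 2 M : Set G) := by
  have hKn : ∀ g : G, g ∈ normalizer (K : Set G) := fun g => by rw [Subgroup.normalizer_eq_top_iff.2 hK]; exact mem_top g
  refine (pRed_largest 2 M).2.2.2 _ (inf_le_left.trans inf_le_left) ?_ ?_
  · intro m hm
    refine norm_inf_le _ _ ⟨norm_inf_le _ _ ⟨le_normalizer hm, hKn m⟩, ?_⟩
    exact norm_le_norm_centralizer _ (norm_inf_le _ _ ⟨c.M_norm_Y hm, hKn m⟩)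
  · rintro b ⟨⟨hbM, hbK⟩, hbc⟩
    refine ⟨1, ?_⟩
    rw [pow_one, mem_centralizer_iff]
    intro y hy
    -- `d = y⁻¹ * (b y b⁻¹) ∈ Y ∩ K`
    have hby : b * y * b⁻¹ ∈ largestPReducedOf 2 M := (mem_normalizer_iff.1 (c.M_norm_Y hbM) y).1 hy
    have hd1 : y⁻¹ * (b * y * b⁻¹) ∈ largestPReducedOf 2 M := mul_mem (inv_mem hy) hby
    have hd2 : y⁻¹ * (b * y * b⁻¹) ∈ K := by
      have e : y⁻¹ * (b * y * b⁻¹) = (y⁻¹ * b * (y⁻¹)⁻¹) * b⁻¹ := by group
      rw [e]
      exact mul_mem (hK.conj_mem b hbK y⁻¹) (inv_mem hbK)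
    set d := y⁻¹ * (b * y * b⁻¹) with hd
    have hbd : b * d * b⁻¹ = d := by
      have := mem_centralizer_iff.1 hbc d ⟨hd1, hd2⟩
      rw [← this]; group
    have hd2' : d ^ 2 = 1 := c.Y_ea.2 _ hd1
    have e1 : b * y * b⁻¹ = y * d := by rw [hd]; group
    have e2 : b ^ 2 * y * (b ^ 2)⁻¹ = y := by
      calc b ^ 2 * y * (b ^ 2)⁻¹ = b * (b * y * b⁻¹) * b⁻¹ := by rw [pow_two]; group
        _ = b * (y * d) * b⁻¹ := by rw [e1]
        _ = (b * y * b⁻¹) * (b * d * b⁻¹) := by group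
        _ = (y * d) * d := by rw [hbd, e1]
        _ = y * d ^ 2 := by rw [pow_two]; group
        _ = y := by rw [hd2', mul_one]
    calc y * b ^ 2 = (b ^ 2 * y * (b ^ 2)⁻¹) * b ^ 2 := by rw [e2]
      _ = b ^ 2 * y := by group

end Cx

end Cfsg.Agent.H252.LT
end

-- part: H252/LT/Rows
section
/-!
# S2927: row predicates

`Cfsg.Agent.H252.LT.DeadL P` : no counterexample `Cx S Q M` in a group `G` with a normal simple subgroup `K`,
`C_G(K) = 1`, such that `P K`. The criteria `KI`, `KP`, `KD`, `KS` speak about the simple group `K` only.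
-/

set_option autoImplicit false
open Cfsg Subgroup
open Cfsg.Agent.H229 Cfsg.Agent.H230

universe u

namespace Cfsg.Agent.H252.LT

/-- `z` is an involution of `K` centralized by a Sylow 2-subgroup of `K`. -/
def TwoCentral {K : Type*} [Group K] (z : K) : Prop :=
  z ≠ 1 ∧ z ^ 2 = 1 ∧ ¬ 2 ∣ (centralizer ({z} : Set K)).index

/-- no counterexample in a group `G` with `K ⊴ G` simple, `C_G(K) = 1`, `P K`. -/
def DeadL (P : (K : Type u) → [Group K] → Prop) : Prop :=
  ∀ {G : Type u} [Group G] [Finite G] {S : Sylow 2 G} {Q M : Subgroup G}, Cx S Q M →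
    ∀ K : Subgroup G, K.Normal → IsSimpleGroup ↥K → ¬ IsMulCommutative ↥K → centralizer (K : Set G) = ⊥ → P ↥K → False

/-- all involutions of `K` have centralizers of characteristic 2 -/
def KG (K : Type u) [Group K] : Prop :=
  ∀ z : K, z ≠ 1 → z ^ 2 = 1 → ChP 2 (centralizer ({z} : Set K))

end Cfsg.Agent.H252.LT
end
end

-- part: H282/LT/Basic
section
set_option linter.all false
open scoped Cfsg.Agent.FastGrp

/-!
# S2927: first consequences of `Cx`

* `Cx.not_comm_Q` : `Q` is not abelian.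
* `Cx.chP_cent` : `C_G(t)` has characteristic 2 for every involution `t ∈ C_G(S)`.
* `Cx.Q_le_core` : `Q ≤ O₂(C_G(t))`.
* `Cx.exists_central_mem` : a normal subgroup containing an involution contains an involution centralised by `S`.
-/

set_option autoImplicit false
set_option linter.unusedSectionVars false
open Cfsg Subgroup
open Cfsg.Agent.H229 Cfsg.Agent.H230

namespace Cfsg.Agent.H252.LT

variable {G : Type*} [Group G]

/-- a normal subgroup `N` of a group `L` of characteristic 2 with `N ∩ O₂(L) = 1` is trivial. -/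
theorem eq_bot_of_chP {L N : Subgroup G} (hL : ChP 2 L) (hN : N ≤ L) (hn : L ≤ normalizer (N : Set G))
    (h : pCoreOf 2 L ⊓ N = ⊥) : N = ⊥ := by
  have h1 : N ≤ centralizer (pCoreOf 2 L : Set G) := by
    rw [← commutator_eq_bot_iff_le_centralizer, eq_bot_iff, ← h]
    refine le_inf ?_ ?_
    · exact le_norm_iff_comm_le.1 (hN.trans (le_norm_pCoreOf 2 L))
    · rw [commutator_comm]
      exact le_norm_iff_comm_le.1 ((H229.pCoreOf_le 2 L).trans hn)
  have h2 : N ≤ pCoreOf 2 L := le_trans (le_inf hN h1) hL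
  rw [eq_bot_iff, ← h]
  exact le_inf h2 le_rfl

/-- a nontrivial `2`-group contains an involution -/
theorem exists_invol [Finite G] {A : Subgroup G} (hA : IsPGroup 2 ↥A) (h1 : A ≠ ⊥) :
    ∃ x ∈ A, x ≠ 1 ∧ x ^ 2 = 1 := by
  have hnt : Nontrivial ↥A := (nontrivial_iff_ne_bot _).2 h1
  obtain ⟨n, hn, hcard⟩ := hA.nontrivial_iff_card.1 hnt
  have hdvd : 2 ∣ Nat.card ↥A := by rw [hcard]; exact dvd_pow_self 2 hn.ne'
  obtain ⟨y, hy⟩ := exists_prime_orderOf_dvd_card' 2 hdvd
  refine ⟨y, y.2, ?_, ?_⟩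
  · intro h4
    have h5 : y = 1 := Subtype.ext h4
    rw [h5, orderOf_one] at hy
    omega
  · have h5 : y ^ 2 = 1 := by rw [← hy]; exact pow_orderOf_eq_one y
    exact congrArg Subtype.val h5

namespace Cx

variable [Finite G] {S : Sylow 2 G} {Q M : Subgroup G}

theorem Q_pgroup (c : Cx S Q M) : IsPGroup 2 ↥Q := c.st.large.pgroup

theorem S_le_cent {S : Sylow 2 G} {t : G} (ht : t ∈ centralizer ((S : Subgroup G) : Set G)) :
    (S : Subgroup G) ≤ centralizer ({t} : Set G) := by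
  intro s hs
  rw [mem_centralizer_singleton_iff]
  exact (mem_centralizer_iff.1 ht) s hs

theorem Q_le_core (c : Cx S Q M) {t : G} (ht : t ∈ centralizer ((S : Subgroup G) : Set G)) (h1 : t ≠ 1) :
    Q ≤ pCoreOf 2 (centralizer ({t} : Set G)) :=
  le_pCoreOf (c.st.QS.trans (S_le_cent ht)) (c.cent_le_norm_Q ht h1) c.Q_pgroup

theorem chP_cent (c : Cx S Q M) {t : G} (ht : t ∈ centralizer ((S : Subgroup G) : Set G)) (h1 : t ≠ 1) :
    ChP 2 (centralizer ({t} : Set G)) := by
  apply c.chP_of_S (S_le_cent ht)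
  intro h2
  apply c.st.large.ne_bot
  rw [eq_bot_iff, ← h2]
  exact c.Q_le_core ht h1

/-- `Q` is not abelian. -/
theorem not_comm_Q (c : Cx S Q M) (h : ∀ a ∈ Q, ∀ b ∈ Q, a * b = b * a) : False := by
  obtain ⟨x, hxY, hx1, hx⟩ := c.bad
  apply hx
  have hxQ : x ∈ centralizer (Q : Set G) := by
    rw [mem_centralizer_iff]
    exact fun q hq => h q hq x (c.Y_le_Q hxY)
  have h1 : centralizer ({x} : Set G) ≤ normalizer (Q : Set G) := by
    refine le_trans (centralizer_singleton_le_zpowers x) (le_trans (centralizer_le_norm _) ?_)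
    exact c.st.large.norm (by rwa [zpowers_le]) (by rwa [Ne, zpowers_eq_bot])
  have h2 : Q ≤ centralizer ({x} : Set G) := by
    intro q hq
    rw [mem_centralizer_singleton_iff]
    exact (mem_centralizer_iff.1 hxQ) q hq
  have h3 : Q ≤ pCoreOf 2 (centralizer ({x} : Set G)) := le_pCoreOf h2 h1 c.Q_pgroup
  exact (inf_le_right.trans (Subgroup.centralizer_le h3)).trans (c.st.large.cent.trans h3)

/-- a subgroup `N ≤ L` normalised by `L ≥ S` and containing an involution contains an involution centralised by `S`. -/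
theorem exists_central_le (S : Sylow 2 G) {L N : Subgroup G} (hSL : (S : Subgroup G) ≤ L) (hNL : N ≤ L)
    (hn : L ≤ normalizer (N : Set G)) {w : G} (hw : w ∈ N) (hw1 : w ≠ 1)
    (hw2 : w ^ 2 = 1) : ∃ z ∈ N, z ∈ centralizer ((S : Subgroup G) : Set G) ∧ z ≠ 1 ∧ z ^ 2 = 1 := by
  have h1 : IsPGroup 2 ↥(zpowers w) := by
    refine IsPGroup.of_card (n := 1) ?_
    rw [Nat.card_zpowers, pow_one]
    exact orderOf_eq_prime hw2 hw1
  have h0 : zpowers w ≤ L := by rw [zpowers_le]; exact hNL hw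
  obtain ⟨T, hT, hwT⟩ := exists_isSylowOf_ge (p := 2) h0 h1
  obtain ⟨a, ha, hTa⟩ := hT.exists_conj (isSylowOf_of_sylow S hSL)
  have h2 : a * w * a⁻¹ ∈ (S : Subgroup G) := by
    rw [← hTa]
    exact conj_mem_cj (hwT (mem_zpowers w))
  have h3 : N ⊓ (S : Subgroup G) ≠ ⊥ := by
    intro h4
    have h5 : a * w * a⁻¹ ∈ N ⊓ (S : Subgroup G) := ⟨le_norm_iff.1 hn a ha w hw, h2⟩
    rw [h4, mem_bot] at h5
    apply hw1
    calc w = a⁻¹ * (a * w * a⁻¹) * a := by group
      _ = 1 := by rw [h5]; group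
  have h4 := PLocal.OffenderStep.inf_centralizer_ne_bot (N ⊓ (S : Subgroup G)) (S : Subgroup G)
    (isPGroup_mono inf_le_right S.2) S.2
    (le_trans (le_inf (hSL.trans hn) le_normalizer) (norm_inf_le _ _)) h3
  obtain ⟨z, hz, hz1, hz2⟩ := exists_invol (isPGroup_mono (inf_le_left.trans inf_le_right) S.2) h4
  exact ⟨z, hz.1.1, hz.2, hz1, hz2⟩

/-- a normal subgroup containing an involution contains an involution centralised by `S`. -/
theorem exists_central_mem (S : Sylow 2 G) {N : Subgroup G} [hN : N.Normal] {w : G} (hw : w ∈ N) (hw1 : w ≠ 1)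
    (hw2 : w ^ 2 = 1) : ∃ z ∈ N, z ∈ centralizer ((S : Subgroup G) : Set G) ∧ z ≠ 1 ∧ z ^ 2 = 1 :=
  exists_central_le S le_top le_top (by rw [Subgroup.normalizer_eq_top_iff.2 hN]) hw hw1 hw2

end Cx

end Cfsg.Agent.H252.LT
end

-- part: H282/LT/AltA
section
set_option linter.all false
open scoped Cfsg.Agent.FastGrp

/-!
# S2927, alternating socle: the fixed points of central involutions, and `Q` abelian when `z` has at least 5 two-cycles
-/

set_option autoImplicit false
set_option linter.unusedSectionVars false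
open Cfsg Subgroup
open Cfsg.Agent.H229 Cfsg.Agent.H230 Cfsg.Agent.H252.LT

namespace Cfsg.Agent.H282.LT

open Equiv Equiv.Perm
open scoped commutatorElement Pointwise

variable {G : Type*} [Group G] {n : ℕ} {ψ : G →* Perm (Fin n)}

/-- `G` is between `A_n` and `S_n`. -/
structure Rep (ψ : G →* Perm (Fin n)) : Prop where
  inj : Function.Injective ψ
  ev : ∀ σ : Perm (Fin n), sign σ = 1 → ∃ g : G, ψ g = σ

namespace Rep

theorem mem_cent (h : Rep ψ) {g t : G} : g ∈ centralizer ({t} : Set G) ↔ ψ g * ψ t = ψ t * ψ g := by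
  rw [mem_centralizer_singleton_iff, ← map_mul, ← map_mul, h.inj.eq_iff]

theorem sq (ψ : G →* Perm (Fin n)) {t : G} (ht : t ^ 2 = 1) : ψ t * ψ t = 1 := by
  rw [← map_mul, ← pow_two, ht, map_one]

theorem ne_one (h : Rep ψ) {t : G} (ht : t ≠ 1) : ∃ i, ψ t i ≠ i := by
  by_contra hc
  push Not at hc
  apply ht
  apply h.inj
  rw [map_one]
  ext i; rw [hc i]; rfl

end Rep

/-- the even permutations with support in the set of fixed points of `t` -/
def NF (ψ : G →* Perm (Fin n)) (t : G) : Subgroup G where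
  carrier := {g | (∀ i, ψ t i ≠ i → ψ g i = i) ∧ sign (ψ g) = 1}
  mul_mem' := by
    rintro a b ⟨h1, h2⟩ ⟨h3, h4⟩
    refine ⟨fun i hi => ?_, by rw [map_mul, map_mul, h2, h4]; rfl⟩
    rw [map_mul, Perm.mul_apply, h3 i hi, h1 i hi]
  one_mem' := by simp
  inv_mem' := by
    rintro a ⟨h1, h2⟩
    refine ⟨fun i hi => ?_, by rw [map_inv, map_inv, h2]; rfl⟩
    rw [map_inv, Perm.inv_eq_iff_eq]
    exact (h1 i hi).symm

theorem mem_NF {t g : G} : g ∈ NF ψ t ↔ (∀ i, ψ t i ≠ i → ψ g i = i) ∧ sign (ψ g) = 1 := Iff.rfl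

theorem NF_le (h : Rep ψ) (t : G) : NF ψ t ≤ centralizer ({t} : Set G) := by
  rintro g ⟨h1, -⟩
  rw [h.mem_cent]
  ext i
  rw [Perm.mul_apply, Perm.mul_apply]
  by_cases hi : ψ t i = i
  · rw [hi]
    by_contra hne
    have h2 : ψ t (ψ g i) ≠ ψ g i := fun h3 => hne (by rw [h3])
    have h3 := h1 _ h2
    rw [(ψ g).injective h3] at h2
    exact h2 hi
  · rw [h1 i hi, h1 (ψ t i) (fun h3 => hi ((ψ t).injective h3))]

theorem NF_norm (h : Rep ψ) (t : G) : centralizer ({t} : Set G) ≤ normalizer (NF ψ t : Set G) := by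
  rw [le_norm_iff]
  rintro k hk g ⟨h1, h2⟩
  rw [h.mem_cent] at hk
  refine ⟨fun i hi => ?_, ?_⟩
  · rw [map_mul, map_mul, map_inv, Perm.mul_apply, Perm.mul_apply]
    have h0 : ψ k ((ψ k)⁻¹ i) = i := by rw [← Perm.mul_apply, mul_inv_cancel]; rfl
    rw [h1 ((ψ k)⁻¹ i), h0]
    intro h3
    apply hi
    have h4 := congrArg (fun f : Perm (Fin n) => f ((ψ k)⁻¹ i)) hk
    simp only [Perm.mul_apply, h3, h0] at h4
    exact h4.symm
  · rw [map_mul, map_mul, map_mul, map_mul, map_inv, map_inv, h2]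
    simp

/-- the 2-power commutators -/
theorem comm_pow [Finite G] (h : Rep ψ) {t u : G} (hu : u ∈ pCoreOf 2 (centralizer ({t} : Set G)))
    {c : Perm (Fin n)} (hc : c * ψ t = ψ t * c) (hs : sign c = 1) : ∃ k : ℕ, ⁅ψ u, c⁆ ^ 2 ^ k = 1 := by
  obtain ⟨g, hg⟩ := h.ev c hs
  have hgC : g ∈ centralizer ({t} : Set G) := by rw [h.mem_cent, hg]; exact hc
  have h1 : ⁅u, g⁆ ∈ pCoreOf 2 (centralizer ({t} : Set G)) := by
    have h2 := le_norm_iff.1 (le_norm_pCoreOf 2 (centralizer ({t} : Set G))) g hgC u⁻¹ (inv_mem hu)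
    have e : ⁅u, g⁆ = u * (g * u⁻¹ * g⁻¹) := by rw [commutatorElement_def]; group
    rw [e]; exact mul_mem hu h2
  obtain ⟨k, hk⟩ := (isPGroup_pCoreOf 2 (centralizer ({t} : Set G))) ⟨_, h1⟩
  refine ⟨k, ?_⟩
  have h3 : ⁅u, g⁆ ^ 2 ^ k = 1 := congrArg Subtype.val hk
  rw [← hg, ← map_commutatorElement, ← map_pow, h3, map_one]

/-- **fixed points**: if `C_G(t)` has characteristic 2 then `t` has at most 2 or exactly 4 fixed points. -/
theorem Rep.card_fix [Finite G] (h : Rep ψ) {t : G} (hch : ChP 2 (centralizer ({t} : Set G)))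
    (h3 : 3 ≤ (Finset.univ.filter fun i => ψ t i = i).card) : (Finset.univ.filter fun i => ψ t i = i).card = 4 := by
  classical
  by_contra h4
  set F := Finset.univ.filter fun i => ψ t i = i with hF
  have memF : ∀ i, i ∈ F ↔ ψ t i = i := fun i => by rw [hF, Finset.mem_filter]; simp
  have key : pCoreOf 2 (centralizer ({t} : Set G)) ⊓ NF ψ t = ⊥ := by
    by_contra hne
    obtain ⟨u, ⟨huO, huN⟩, hu1, hu2⟩ := exists_invol (isPGroup_mono inf_le_left (isPGroup_pCoreOf 2 _)) hne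
    have huO' : u ∈ pCoreOf 2 (centralizer ({t} : Set G)) := huO
    have huN' : u ∈ NF ψ t := huN
    obtain ⟨i, hi⟩ := h.ne_one hu1
    have hυ2 := Rep.sq ψ hu2
    have hυυ : ∀ l, ψ u (ψ u l) = l := fun l => congrArg (fun f : Perm (Fin n) => f l) hυ2
    have hut := h.mem_cent.1 (NF_le h t huN')
    have huF : ∀ l, ψ t l = l → ψ t (ψ u l) = ψ u l := by
      intro l hl
      have := congrArg (fun f : Perm (Fin n) => f l) hut
      simp only [Perm.mul_apply, hl] at this
      exact this.symm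
    have hiF : ψ t i = i := by
      by_contra h5
      exact hi (huN'.1 i h5)
    have hcomm : ∀ a b e : Fin n, a ≠ b → b ≠ e → ψ t a = a → ψ t b = b → ψ t e = e →
        ∃ k : ℕ, ⁅ψ u, cyc a b e⁆ ^ 2 ^ k = 1 := by
      intro a b e hab hbe ha hb he
      apply comm_pow h huO' _ (sign_cyc hab hbe)
      have h5 : ψ t * cyc a b e * (ψ t)⁻¹ = cyc a b e := by rw [conj_cyc, ha, hb, he]
      have h6 := congrArg (· * ψ t) h5
      simp only [inv_mul_cancel_right] at h6
      exact h6.symm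
    by_cases hfix : ∃ e, ψ t e = e ∧ ψ u e = e
    · obtain ⟨e, he1, he2⟩ := hfix
      have hie : i ≠ e := by rintro rfl; exact hi he2
      have hje : ψ u i ≠ e := by
        intro h5
        apply hie
        rw [← hυυ i, h5, he2]
      obtain ⟨k, hk⟩ := hcomm i (ψ u i) e hi.symm hje hiF (huF i hiF) he1
      exact comm_fix (X := Fin n) (cyc_1 hi.symm hie hje) (cyc_2 hi.symm hie hje) (cyc_3 hi.symm hie hje)
        rfl (hυυ i) he2 hie hk
    · push Not at hfix
      have hs2 : ({i, ψ u i} : Finset (Fin n)).card ≤ 2 := Finset.card_le_two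
      obtain ⟨k, hkF, hk⟩ := Finset.exists_mem_notMem_of_card_lt_card (s := ({i, ψ u i} : Finset (Fin n))) (t := F)
        (by omega)
      rw [Finset.mem_insert, Finset.mem_singleton, not_or] at hk
      rw [memF] at hkF
      have hk2 := hfix k hkF
      have e1 : ψ u k ≠ i := fun h5 => hk.2 (by rw [← h5, hυυ])
      have e2 : ψ u k ≠ ψ u i := fun h5 => hk.1 ((ψ u).injective h5)
      have h5 : 4 ≤ F.card := by
        have h6 : ({i, ψ u i, k, ψ u k} : Finset (Fin n)) ⊆ F := by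
          intro x hx
          simp only [Finset.mem_insert, Finset.mem_singleton] at hx
          rw [memF]
          rcases hx with rfl | rfl | rfl | rfl
          · exact hiF
          · exact huF _ hiF
          · exact hkF
          · exact huF _ hkF
        have h7 : ({i, ψ u i, k, ψ u k} : Finset (Fin n)).card = 4 := by
          rw [Finset.card_insert_of_notMem, Finset.card_insert_of_notMem, Finset.card_insert_of_notMem,
            Finset.card_singleton]
          · rw [Finset.mem_singleton]; exact hk2.symm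
          · simp only [Finset.mem_insert, Finset.mem_singleton, not_or]; exact ⟨Ne.symm hk.2, e2.symm⟩
          · simp only [Finset.mem_insert, Finset.mem_singleton, not_or]
            exact ⟨hi.symm, Ne.symm hk.1, e1.symm⟩
        rw [← h7]; exact Finset.card_le_card h6
      have hs4 : ({i, ψ u i, k, ψ u k} : Finset (Fin n)).card ≤ 4 := Finset.card_le_four
      obtain ⟨e, heF, he⟩ := Finset.exists_mem_notMem_of_card_lt_card
        (s := ({i, ψ u i, k, ψ u k} : Finset (Fin n))) (t := F) (by omega)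
      simp only [Finset.mem_insert, Finset.mem_singleton, not_or] at he
      rw [memF] at heF
      have he2 := hfix e heF
      obtain ⟨m, hm⟩ := hcomm i k e (Ne.symm hk.1) (Ne.symm he.2.2.1) hiF hkF heF
      refine comm_free (X := Fin n) (I := i) (K := k) (E := e) (cyc_1 (Ne.symm hk.1) (Ne.symm he.1) (Ne.symm he.2.2.1))
        (cyc_2 (Ne.symm hk.1) (Ne.symm he.1) (Ne.symm he.2.2.1)) (cyc_3 (Ne.symm hk.1) (Ne.symm he.1) (Ne.symm he.2.2.1))
        rfl rfl rfl (hυυ i) (hυυ k) (hυυ e) ?_ ?_ ?_ he.1 hm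
      · exact cyc_of_ne hi (Ne.symm hk.2) (Ne.symm he.2.1)
      · exact cyc_of_ne e1 hk2 (Ne.symm he.2.2.2)
      · refine cyc_of_ne ?_ ?_ he2
        · intro h6
          have h7 : ψ u e = i := h6
          exact he.2.1 (by rw [← h7, hυυ])
        · intro h6
          have h7 : ψ u e = k := h6
          exact he.2.2.2 (by rw [← h7, hυυ])
  have hN := eq_bot_of_chP hch (NF_le h t) (NF_norm h t) key
  obtain ⟨a, ha, b, hb, c, hc, hab, hac, hbc⟩ := Finset.two_lt_card.1 (by omega : 2 < F.card)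
  rw [memF] at ha hb hc
  obtain ⟨g, hg⟩ := h.ev (cyc a b c) (sign_cyc hab hbc)
  have hgN : g ∈ NF ψ t := by
    rw [mem_NF, hg]
    refine ⟨fun i hi => ?_, sign_cyc hab hbc⟩
    exact cyc_of_ne (by rintro rfl; exact hi ha) (by rintro rfl; exact hi hb) (by rintro rfl; exact hi hc)
  rw [hN, mem_bot] at hgN
  rw [hgN, map_one] at hg
  have h5 : cyc a b c a = b := cyc_1 hab hac hbc
  rw [← hg] at h5
  exact hab h5

/-- an involution of `C_G(S)` supported on the fixed points of `t` -/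
theorem Rep.exists_sub [Finite G] (h : Rep ψ) (S : Sylow 2 G) {t : G}
    (ht : t ∈ centralizer ((S : Subgroup G) : Set G)) (h4 : 4 ≤ (Finset.univ.filter fun i => ψ t i = i).card) :
    ∃ t' ∈ centralizer ((S : Subgroup G) : Set G), t' ≠ 1 ∧ t' ^ 2 = 1 ∧ ∀ i, ψ t i ≠ i → ψ t' i = i := by
  classical
  set F := Finset.univ.filter fun i => ψ t i = i with hF
  have memF : ∀ i, i ∈ F ↔ ψ t i = i := fun i => by rw [hF, Finset.mem_filter]; simp
  obtain ⟨a, ha, b, hb, c, hc, hab, hac, hbc⟩ := Finset.two_lt_card.1 (by omega : 2 < F.card)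
  have hs3 : ({a, b, c} : Finset (Fin n)).card ≤ 3 := Finset.card_le_three
  obtain ⟨d, hdF, hd⟩ := Finset.exists_mem_notMem_of_card_lt_card (s := ({a, b, c} : Finset (Fin n))) (t := F) (by omega)
  simp only [Finset.mem_insert, Finset.mem_singleton, not_or] at hd
  rw [memF] at ha hb hc hdF
  have hsg : sign (swap a b * swap c d) = 1 := by
    rw [map_mul, sign_swap hab, sign_swap (Ne.symm hd.2.2)]; rfl
  have hval : (swap a b * swap c d) a = b := by
    rw [Perm.mul_apply, swap_apply_of_ne_of_ne hac (Ne.symm hd.1), swap_apply_left]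
  obtain ⟨w, hw⟩ := h.ev _ hsg
  have hwN : w ∈ NF ψ t := by
    rw [mem_NF, hw]
    refine ⟨fun i hi => ?_, hsg⟩
    have i1 : i ≠ a := by rintro rfl; exact hi ha
    have i2 : i ≠ b := by rintro rfl; exact hi hb
    have i3 : i ≠ c := by rintro rfl; exact hi hc
    have i4 : i ≠ d := by rintro rfl; exact hi hdF
    rw [Perm.mul_apply, swap_apply_of_ne_of_ne i3 i4, swap_apply_of_ne_of_ne i1 i2]
  have hw1 : w ≠ 1 := by
    rintro rfl
    rw [map_one] at hw
    rw [← hw] at hval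
    exact hab hval
  have hw2 : w ^ 2 = 1 := by
    apply h.inj
    rw [map_pow, hw, map_one, pow_two]
    have hd1 : (swap a b).Disjoint (swap c d) := by
      intro x
      by_cases hx : x = a ∨ x = b
      · right
        rcases hx with rfl | rfl
        · exact swap_apply_of_ne_of_ne hac (Ne.symm hd.1)
        · exact swap_apply_of_ne_of_ne hbc (Ne.symm hd.2.1)
      · push Not at hx
        exact Or.inl (swap_apply_of_ne_of_ne hx.1 hx.2)
    calc swap a b * swap c d * (swap a b * swap c d) = swap a b * (swap c d * swap a b) * swap c d := by group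
      _ = swap a b * (swap a b * swap c d) * swap c d := by rw [hd1.commute.eq]
      _ = (swap a b * swap a b) * (swap c d * swap c d) := by group
      _ = 1 := by rw [swap_mul_self, swap_mul_self, one_mul]
  obtain ⟨z, hzN, hz1, hz2, hz3⟩ := Cx.exists_central_le S (Cx.S_le_cent ht) (NF_le h t) (NF_norm h t) hwN hw1 hw2
  exact ⟨z, hz1, hz2, hz3, hzN.1⟩

end Cfsg.Agent.H282.LT
end

-- part: H282/LT/AltB
section
set_option linter.all false
open scoped Cfsg.Agent.FastGrp

/-!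
# S2927, alternating socle: `O₂(C_G(z))` is abelian when `z` has at least 5 two-cycles
-/

set_option autoImplicit false
set_option linter.unusedSectionVars false
open Cfsg Subgroup
open Cfsg.Agent.H229 Cfsg.Agent.H230 Cfsg.Agent.H252.LT

namespace Cfsg.Agent.H282.LT

open Equiv Equiv.Perm
open scoped commutatorElement Pointwise

variable {G : Type*} [Group G] [Finite G] {n : ℕ} {ψ : G →* Perm (Fin n)}

theorem card_bl_le {α : Type*} [DecidableEq α] (z : Perm α) (i : α) : (bl z i).card ≤ 2 := Finset.card_le_two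

/-- **blocks**: `O₂(C_G(z))` fixes every block of `z`, if there are at least 5 blocks. -/
theorem Rep.pres_blocks (h : Rep ψ) {z : G} (hz : z ^ 2 = 1)
    (hs : 10 ≤ (Finset.univ.filter fun i => ψ z i ≠ i).card) {u : G}
    (hu : u ∈ pCoreOf 2 (centralizer ({z} : Set G))) : ∀ i, ψ z i ≠ i → ψ u i ∈ bl (ψ z) i := by
  classical
  set X := Finset.univ.filter fun i => ψ z i ≠ i with hX
  have memX : ∀ i, i ∈ X ↔ ψ z i ≠ i := fun i => by rw [hX, Finset.mem_filter]; simp
  have hζ := Rep.sq ψ hz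
  have hζζ : ∀ l, ψ z (ψ z l) = l := fun l => congrArg (fun f : Perm (Fin n) => f l) hζ
  by_contra hcon
  obtain ⟨k₀, hk₀⟩ := (isPGroup_pCoreOf 2 (centralizer ({z} : Set G))) ⟨_, hu⟩
  have hk₀' : u ^ 2 ^ k₀ = 1 := congrArg Subtype.val hk₀
  have hex : ∃ k : ℕ, ∀ i, ψ z i ≠ i → ψ (u ^ 2 ^ k) i ∈ bl (ψ z) i := by
    refine ⟨k₀, fun i _ => ?_⟩
    rw [hk₀', map_one]
    exact self_mem_bl _ _
  have hmin := Nat.find_spec hex
  have hk0 : Nat.find hex ≠ 0 := by
    intro h0
    rw [h0, pow_zero, pow_one] at hmin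
    exact hcon hmin
  obtain ⟨k, hk⟩ := Nat.exists_eq_succ_of_ne_zero hk0
  have hnot := Nat.find_min hex (m := k) (by omega)
  rw [hk] at hmin
  set v := u ^ 2 ^ k with hv
  have hvO : v ∈ pCoreOf 2 (centralizer ({z} : Set G)) := pow_mem hu _
  have hvc : ψ v * ψ z = ψ z * ψ v := h.mem_cent.1 (H229.pCoreOf_le _ _ hvO)
  have hvv : u ^ 2 ^ k.succ = v * v := by rw [hv, pow_succ, pow_mul, pow_two]
  rw [hvv] at hmin
  have hv2 : ∀ i, ψ z i ≠ i → bl (ψ z) (ψ v (ψ v i)) = bl (ψ z) i := by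
    intro i hi
    apply bl_eq hζ
    have := hmin i hi
    rwa [map_mul, Perm.mul_apply] at this
  have hmv : ∀ i, ψ z i ≠ i → ψ z (ψ v i) ≠ ψ v i := by
    intro i hi h1
    have h2 := congrArg (fun f : Perm (Fin n) => f i) hvc
    simp only [Perm.mul_apply, h1] at h2
    exact hi ((ψ v).injective h2)
  -- `v` is injective on blocks
  have hinj : ∀ i j, ψ v i ∈ bl (ψ z) (ψ v j) → i ∈ bl (ψ z) j := by
    intro i j h1
    rcases mem_bl.1 h1 with h2 | h2
    · rw [(ψ v).injective h2]; exact self_mem_bl _ _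
    · have h3 := congrArg (fun f : Perm (Fin n) => f j) hvc
      simp only [Perm.mul_apply] at h3
      rw [← h3] at h2
      rw [(ψ v).injective h2]
      exact mem_bl.2 (Or.inr rfl)
  -- `v i ∈ bl j → v j ∈ bl i`
  have hsw : ∀ i j, ψ z i ≠ i → ψ z j ≠ j → ψ v i ∈ bl (ψ z) j → i ∈ bl (ψ z) (ψ v j) := by
    intro i j hi hj h1
    have h2 := smul_mem_bl hvc h1
    rw [← bl_eq hζ h2] 
    rw [hv2 i hi]
    exact self_mem_bl _ _
  by_cases hfix : ∃ e, ψ z e ≠ e ∧ ψ v e ∈ bl (ψ z) e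
  · obtain ⟨e, he1, he2⟩ := hfix
    push Not at hnot
    obtain ⟨i, hi1, hi2⟩ := hnot
    have hie : e ∉ bl (ψ z) i := by
      intro h1
      apply hi2
      have h2 := smul_mem_bl hvc h1
      have h3 := bl_eq hζ h2
      rw [← bl_eq hζ h1, ← bl_eq hζ he2, h3]
      exact self_mem_bl _ _
    have hje : e ∉ bl (ψ z) (ψ v i) := by
      intro h1
      apply hie
      have h2 := smul_mem_bl hvc h1
      rw [← hv2 i hi1, ← bl_eq hζ h2]
      exact bl_symm hζ he2
    obtain ⟨c, hc1, hc2, hc3, hc4, hc5, -⟩ := exists_dcyc hζ hi1 (hmv i hi1) he1 hi2 hie hje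
    obtain ⟨m, hm⟩ := comm_pow h hvO hc1 hc2
    refine comm_fix (X := Finset (Fin n)) (u := ψ v) (c := c) (I := bl (ψ z) i) (J := bl (ψ z) (ψ v i))
      (E := bl (ψ z) e) ?_ ?_ ?_ (smul_bl hvc i) ?_ ?_ ?_ hm
    · rw [smul_bl hc1, hc3]
    · rw [smul_bl hc1, hc4]
    · rw [smul_bl hc1, hc5]
    · rw [smul_bl hvc, hv2 i hi1]
    · rw [smul_bl hvc, bl_eq hζ he2]
    · intro h1
      exact hie ((bl_eq_iff hζ).1 h1.symm)
  · push Not at hfix
    obtain ⟨i, hiX⟩ : X.Nonempty := Finset.card_pos.1 (by omega)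
    have hi := (memX i).1 hiX
    have c2 : ∀ x, (bl (ψ z) x).card ≤ 2 := card_bl_le _
    obtain ⟨k', hkX, hk'⟩ := Finset.exists_mem_notMem_of_card_lt_card
      (s := bl (ψ z) i ∪ bl (ψ z) (ψ v i)) (t := X) (by
        have := Finset.card_union_le (bl (ψ z) i) (bl (ψ z) (ψ v i))
        have := c2 i
        have := c2 (ψ v i)
        omega)
    have hk2 := (memX k').1 hkX
    rw [Finset.mem_union, not_or] at hk'
    obtain ⟨e, heX, he'⟩ := Finset.exists_mem_notMem_of_card_lt_card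
      (s := bl (ψ z) i ∪ bl (ψ z) (ψ v i) ∪ (bl (ψ z) k' ∪ bl (ψ z) (ψ v k'))) (t := X) (by
        have h1 := Finset.card_union_le (bl (ψ z) i) (bl (ψ z) (ψ v i))
        have h2 := Finset.card_union_le (bl (ψ z) k') (bl (ψ z) (ψ v k'))
        have h3 := Finset.card_union_le (bl (ψ z) i ∪ bl (ψ z) (ψ v i)) (bl (ψ z) k' ∪ bl (ψ z) (ψ v k'))
        have := c2 i
        have := c2 (ψ v i)
        have := c2 k'
        have := c2 (ψ v k')
        omega)
    have he2 := (memX e).1 heX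
    simp only [Finset.mem_union, not_or] at he'
    obtain ⟨⟨e1, e2⟩, e3, e4⟩ := he'
    obtain ⟨c, hc1, hc2, hc3, hc4, hc5, hc6⟩ := exists_dcyc hζ hi hk2 he2 hk'.1 e1 e3
    obtain ⟨m, hm⟩ := comm_pow h hvO hc1 hc2
    have f1 : c (ψ v i) = ψ v i := by
      refine hc6 _ (hfix i hi) (fun h1 => hk'.2 (bl_symm hζ h1)) (fun h1 => e2 (bl_symm hζ h1))
    have f2 : c (ψ v k') = ψ v k' := by
      refine hc6 _ (fun h1 => hk'.2 (hsw k' i hk2 hi h1)) (hfix k' hk2) (fun h1 => e4 (bl_symm hζ h1))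
    have f3 : c (ψ v e) = ψ v e := by
      refine hc6 _ (fun h1 => e2 (hsw e i he2 hi h1)) (fun h1 => e4 (hsw e k' he2 hk2 h1)) (hfix e he2)
    refine comm_free (X := Finset (Fin n)) (u := ψ v) (c := c) (I := bl (ψ z) i) (K := bl (ψ z) k')
      (E := bl (ψ z) e) (I' := bl (ψ z) (ψ v i)) (K' := bl (ψ z) (ψ v k')) (E' := bl (ψ z) (ψ v e))
      ?_ ?_ ?_ (smul_bl hvc i) (smul_bl hvc k') (smul_bl hvc e) ?_ ?_ ?_ ?_ ?_ ?_ ?_ hm
    · rw [smul_bl hc1, hc3]
    · rw [smul_bl hc1, hc4]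
    · rw [smul_bl hc1, hc5]
    · rw [smul_bl hvc, hv2 i hi]
    · rw [smul_bl hvc, hv2 k' hk2]
    · rw [smul_bl hvc, hv2 e he2]
    · rw [smul_bl hc1, f1]
    · rw [smul_bl hc1, f2]
    · rw [smul_bl hc1, f3]
    · intro h1
      exact e1 ((bl_eq_iff hζ).1 h1)

/-- two permutations commuting with `z`, preserving the blocks, commute if `z` has at most two fixed points -/
theorem Rep.comm_of_blocks (h : Rep ψ) {z u v : G}
    (hF : (Finset.univ.filter fun i => ψ z i = i).card ≤ 2)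
    (huc : u ∈ centralizer ({z} : Set G)) (hvc : v ∈ centralizer ({z} : Set G))
    (hu : ∀ i, ψ z i ≠ i → ψ u i ∈ bl (ψ z) i) (hv : ∀ i, ψ z i ≠ i → ψ v i ∈ bl (ψ z) i) : u * v = v * u := by
  classical
  rw [h.mem_cent] at huc hvc
  have hu' : ∀ l, ψ u (ψ z l) = ψ z (ψ u l) := fun l => congrArg (fun f : Perm (Fin n) => f l) huc
  have hv' : ∀ l, ψ v (ψ z l) = ψ z (ψ v l) := fun l => congrArg (fun f : Perm (Fin n) => f l) hvc
  have h3 : ∀ x y w, ψ z x = x → ψ z y = y → ψ z w = w → x ≠ y → w = x ∨ w = y := by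
    intro x y w hx hy hw hxy
    by_contra hc
    rw [not_or] at hc
    have h4 : ({x, y, w} : Finset (Fin n)) ⊆ Finset.univ.filter fun i => ψ z i = i := by
      intro a ha
      simp only [Finset.mem_insert, Finset.mem_singleton] at ha
      rw [Finset.mem_filter]
      refine ⟨Finset.mem_univ _, ?_⟩
      rcases ha with rfl | rfl | rfl <;> assumption
    have h5 := Finset.card_le_card h4
    rw [Finset.card_insert_of_notMem, Finset.card_insert_of_notMem, Finset.card_singleton] at h5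
    · omega
    · rw [Finset.mem_singleton]; exact Ne.symm hc.2
    · simp only [Finset.mem_insert, Finset.mem_singleton, not_or]
      exact ⟨hxy, Ne.symm hc.1⟩
  apply h.inj
  rw [map_mul, map_mul]
  ext i
  rw [Perm.mul_apply, Perm.mul_apply]
  congr 1
  by_cases hi : ψ z i = i
  · have hui : ψ z (ψ u i) = ψ u i := by rw [← hu', hi]
    have hvi : ψ z (ψ v i) = ψ v i := by rw [← hv', hi]
    have huvi : ψ z (ψ u (ψ v i)) = ψ u (ψ v i) := by rw [← hu', hvi]
    have hvui : ψ z (ψ v (ψ u i)) = ψ v (ψ u i) := by rw [← hv', hui]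
    by_cases h5 : ψ u i = i
    · by_cases h6 : ψ v i = i
      · rw [h6, h5, h6]
      · rw [h5]
        rcases h3 i (ψ v i) _ hi hvi huvi (Ne.symm h6) with h7 | h7
        · exact absurd ((ψ u).injective (h7.trans h5.symm)) h6
        · exact h7
    · by_cases h6 : ψ v i = i
      · rw [h6]
        rcases h3 i (ψ u i) _ hi hui hvui (Ne.symm h5) with h7 | h7
        · exact absurd ((ψ v).injective (h7.trans h6.symm)) h5
        · exact h7.symm
      · have h8 : ψ v i = ψ u i := by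
          rcases h3 i (ψ u i) _ hi hui hvi (Ne.symm h5) with h7 | h7
          · exact absurd h7 h6
          · exact h7
        have h9 : ψ u (ψ u i) = i := by
          have huui : ψ z (ψ u (ψ u i)) = ψ u (ψ u i) := by rw [← hu', hui]
          rcases h3 i (ψ u i) _ hi hui huui (Ne.symm h5) with h7 | h7
          · exact h7
          · exact absurd ((ψ u).injective h7) h5
        have h10 : ψ v (ψ v i) = i := by
          have hvvi : ψ z (ψ v (ψ v i)) = ψ v (ψ v i) := by rw [← hv', hvi]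
          rcases h3 i (ψ v i) _ hi hvi hvvi (Ne.symm h6) with h7 | h7
          · exact h7
          · exact absurd ((ψ v).injective h7) h6
        rw [← h8, h10, h8, h9]
  · rcases mem_bl.1 (hu i hi) with h5 | h5 <;> rcases mem_bl.1 (hv i hi) with h6 | h6
    · rw [h5, h6, h5]
    · rw [h5, h6, hu', h5]
    · rw [h5, h6, h5, hv', h6]
    · rw [h5, h6, hu', hv', h5, h6]

/-- `Cx` is impossible if a 2-central involution has at least 5 two-cycles and at most two fixed points -/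
theorem Rep.dead_of_large (h : Rep ψ) {S : Sylow 2 G} {Q M : Subgroup G} (c : Cx S Q M) {z : G}
    (hz : z ∈ centralizer ((S : Subgroup G) : Set G)) (hz1 : z ≠ 1) (hz2 : z ^ 2 = 1)
    (hF : (Finset.univ.filter fun i => ψ z i = i).card ≤ 2)
    (hs : 10 ≤ (Finset.univ.filter fun i => ψ z i ≠ i).card) : False := by
  apply c.not_comm_Q
  intro a ha b hb
  have ha' := c.Q_le_core hz hz1 ha
  have hb' := c.Q_le_core hz hz1 hb
  exact h.comm_of_blocks hF (H229.pCoreOf_le _ _ ha') (H229.pCoreOf_le _ _ hb') (h.pres_blocks hz2 hs ha')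
    (h.pres_blocks hz2 hs hb')

end Cfsg.Agent.H282.LT
end

-- part: H282/LT/AltC
section
set_option linter.all false
open scoped Cfsg.Agent.FastGrp

/-!
# S2927, alternating socle: `V` lies in the base group of `C_G(z)`, and the case of one fixed point
-/

set_option autoImplicit false
set_option linter.unusedSectionVars false
open Cfsg Subgroup
open Cfsg.Agent.H229 Cfsg.Agent.H230 Cfsg.Agent.H252.LT

namespace Cfsg.Agent.H282.LT

open Equiv Equiv.Perm
open scoped commutatorElement Pointwise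

section Trans

variable {α : Type*} [DecidableEq α] [Fintype α]

theorem swap_disj {a b c d : α} (h1 : a ≠ c) (h2 : a ≠ d) (h3 : b ≠ c) (h4 : b ≠ d) :
    (swap a b).Disjoint (swap c d) := by
  intro x
  by_cases hx : x = a ∨ x = b
  · right
    rcases hx with rfl | rfl
    · exact swap_apply_of_ne_of_ne h1 h2
    · exact swap_apply_of_ne_of_ne h3 h4
  · push Not at hx
    exact Or.inl (swap_apply_of_ne_of_ne hx.1 hx.2)

theorem exists_trans1 {z : Perm α} (hz : z * z = 1) {i j : α} (hi : z i ≠ i) (hj : z j ≠ j) :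
    ∃ c : Perm α, c * z = z * c ∧ sign c = 1 ∧ c i ∈ bl z j ∧ ∀ l, l ∉ bl z i → l ∉ bl z j → c l = l := by
  have hzz : ∀ x, z (z x) = x := fun x => congrArg (fun f : Perm α => f x) hz
  by_cases hij : j ∈ bl z i
  · exact ⟨1, by rw [one_mul, mul_one], map_one _, bl_symm hz hij, fun l _ _ => rfl⟩
  · rw [mem_bl, not_or] at hij
    have h1 : i ≠ j := Ne.symm hij.1
    have h2 : i ≠ z j := fun h => hij.2 (by rw [h, hzz])
    have h3 : z i ≠ j := Ne.symm hij.2
    have h4 : z i ≠ z j := fun h => h1 (z.injective h)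
    have hd : (swap i j).Disjoint (swap (z i) (z j)) := swap_disj hi.symm h2 (Ne.symm h3) hj.symm
    have hzi : z⁻¹ = z := inv_eq_of_mul_eq_one_right hz
    refine ⟨swap i j * swap (z i) (z j), ?_, ?_, ?_, ?_⟩
    · have h5 : z * (swap i j * swap (z i) (z j)) * z⁻¹ = swap i j * swap (z i) (z j) := by
        calc z * (swap i j * swap (z i) (z j)) * z⁻¹
            = (z * swap i j * z⁻¹) * (z * swap (z i) (z j) * z⁻¹) := by group
          _ = swap (z i) (z j) * swap i j := by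
              rw [← Equiv.swap_apply_apply, ← Equiv.swap_apply_apply, hzz, hzz]
          _ = swap i j * swap (z i) (z j) := hd.commute.eq.symm
      have h6 := congrArg (· * z) h5
      simp only [inv_mul_cancel_right] at h6
      exact h6.symm
    · rw [map_mul, sign_swap h1, sign_swap h4]; rfl
    · rw [Perm.mul_apply, swap_apply_of_ne_of_ne hi.symm h2, swap_apply_left]
      exact self_mem_bl _ _
    · intro l h5 h6
      rw [mem_bl, not_or] at h5 h6
      rw [Perm.mul_apply, swap_apply_of_ne_of_ne h5.2 h6.2, swap_apply_of_ne_of_ne h5.1 h6.1]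

theorem comm_moved {z c : Perm α} (hc : c * z = z * c) {i : α} (hi : z i ≠ i) : z (c i) ≠ c i := by
  intro h1
  have h2 := congrArg (fun f : Perm α => f i) hc
  simp only [Perm.mul_apply, h1] at h2
  exact hi (c.injective h2)

theorem comm_inj {z c : Perm α} (hc : c * z = z * c) {i j : α} (h1 : c i ∈ bl z (c j)) : i ∈ bl z j := by
  rcases mem_bl.1 h1 with h2 | h2
  · rw [c.injective h2]; exact self_mem_bl _ _
  · have h3 := congrArg (fun f : Perm α => f j) hc
    simp only [Perm.mul_apply] at h3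
    rw [← h3] at h2
    rw [c.injective h2]
    exact mem_bl.2 (Or.inr rfl)

theorem exists_trans2 {z : Perm α} (hz : z * z = 1) {i p j k : α} (hi : z i ≠ i) (hp : z p ≠ p) (hj : z j ≠ j)
    (hk : z k ≠ k) (hip : p ∉ bl z i) (hjk : k ∉ bl z j) :
    ∃ c : Perm α, c * z = z * c ∧ sign c = 1 ∧ c i ∈ bl z j ∧ c p ∈ bl z k := by
  obtain ⟨c₁, a1, a2, a3, -⟩ := exists_trans1 hz hi hj
  have hp1 := comm_moved a1 hp
  obtain ⟨c₂, b1, b2, b3, b4⟩ := exists_trans1 hz hp1 hk
  have h1 : c₁ p ∉ bl z j := by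
    intro h1
    apply hip
    apply comm_inj a1
    rw [bl_eq hz a3]; exact h1
  refine ⟨c₂ * c₁, ?_, ?_, ?_, b3⟩
  · rw [mul_assoc, a1, ← mul_assoc, b1, mul_assoc]
  · rw [map_mul, a2, b2]; rfl
  · rw [Perm.mul_apply, b4]
    · exact a3
    · intro h2
      apply h1
      have h3 := bl_symm hz h2
      rw [bl_eq hz a3] at h3
      exact h3
    · intro h2
      apply hjk
      have h3 := bl_symm hz h2
      rw [bl_eq hz a3] at h3
      exact h3

end Trans

variable {G : Type*} [Group G] {n : ℕ} {ψ : G →* Perm (Fin n)}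

theorem Rep.exists_lift (h : Rep ψ) {z : G} {c : Perm (Fin n)} (hc : c * ψ z = ψ z * c) (hs : sign c = 1) :
    ∃ g ∈ centralizer ({z} : Set G), ψ g = c := by
  obtain ⟨g, hg⟩ := h.ev c hs
  exact ⟨g, by rw [h.mem_cent, hg]; exact hc, hg⟩

/-- **the base group**: an elementary abelian normal subgroup `V` of `C_G(z)` containing an element with a fixed
point and a moved point in the support of `z` preserves the blocks of `z`. -/
theorem Rep.base (h : Rep ψ) {z : G} (hz : z ^ 2 = 1) {V : Subgroup G} (hV : IsElementaryAbelian 2 V)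
    (hVc : V ≤ centralizer ({z} : Set G)) (hVn : centralizer ({z} : Set G) ≤ normalizer (V : Set G)) {x : G}
    (hx : x ∈ V) {p q : Fin n} (hp : ψ z p ≠ p) (hxp : ψ x p = p) (hq : ψ z q ≠ q) (hxq : ψ x q ≠ q) :
    ∀ y ∈ V, ∀ j, ψ z j ≠ j → ψ y j ∈ bl (ψ z) j := by
  classical
  have hζ := Rep.sq ψ hz
  have hζζ : ∀ l, ψ z (ψ z l) = l := fun l => congrArg (fun f : Perm (Fin n) => f l) hζ
  have hsq : ∀ y ∈ V, ∀ l, ψ y (ψ y l) = l := fun y hy l =>
    congrArg (fun f : Perm (Fin n) => f l) (Rep.sq ψ (hV.2 y hy))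
  have hcz : ∀ y ∈ V, ψ y * ψ z = ψ z * ψ y := fun y hy => h.mem_cent.1 (hVc hy)
  have hcz' : ∀ y ∈ V, ∀ l, ψ y (ψ z l) = ψ z (ψ y l) := fun y hy l =>
    congrArg (fun f : Perm (Fin n) => f l) (hcz y hy)
  have step1 : ∀ j, ψ z j ≠ j → ψ x j ∈ bl (ψ z) j := by
    intro j hj
    by_contra hcon
    have hpj : p ∉ bl (ψ z) j := by
      intro h1
      apply hcon
      have h2 := smul_mem_bl (hcz x hx) h1
      rw [hxp, ] at h2
      have h3 := bl_eq hζ h2
      rw [bl_eq hζ h1] at h3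
      rw [h3]; exact self_mem_bl _ _
    have hpj2 : p ∉ bl (ψ z) (ψ x j) := by
      intro h1
      apply hpj
      have h2 := smul_mem_bl (hcz x hx) h1
      rwa [hxp, hsq x hx] at h2
    obtain ⟨c, hc1, hc2, hc3, hc4, hc5, -⟩ := exists_dcyc hζ hj (comm_moved (hcz x hx) hj) hp hcon hpj hpj2
    obtain ⟨g, hgC, hg⟩ := h.exists_lift hc1 hc2
    have h1 : ⁅x, g⁆ ∈ V := by
      have h2 := le_norm_iff.1 hVn g hgC x⁻¹ (inv_mem hx)
      have e : ⁅x, g⁆ = x * (g * x⁻¹ * g⁻¹) := by rw [commutatorElement_def]; group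
      rw [e]; exact mul_mem hx h2
    have hk : ⁅ψ x, c⁆ ^ 2 ^ 1 = 1 := by
      rw [← hg, ← map_commutatorElement, ← map_pow, pow_one, hV.2 _ h1, map_one]
    refine comm_fix (X := Finset (Fin n)) (u := ψ x) (c := c) (I := bl (ψ z) j) (J := bl (ψ z) (ψ x j))
      (E := bl (ψ z) p) ?_ ?_ ?_ (smul_bl (hcz x hx) j) ?_ ?_ ?_ hk
    · rw [smul_bl hc1, hc3]
    · rw [smul_bl hc1, hc4]
    · rw [smul_bl hc1, hc5]
    · rw [smul_bl (hcz x hx), hsq x hx]
    · rw [smul_bl (hcz x hx), hxp]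
    · intro h2
      exact hpj ((bl_eq_iff hζ).1 h2.symm)
  have hxq' : ψ x q = ψ z q := by
    rcases mem_bl.1 (step1 q hq) with h1 | h1
    · exact absurd h1 hxq
    · exact h1
  have hpq : p ∉ bl (ψ z) q := by
    intro h1
    rcases mem_bl.1 h1 with h2 | h2
    · rw [h2] at hxp; exact hxq hxp
    · rw [h2, hcz' x hx, hxq', hζζ] at hxp
      exact hq hxp.symm
  intro y hy j hj
  by_contra hcon
  have hcon' : ψ y j ∉ bl (ψ z) j := hcon
  obtain ⟨c, hc1, hc2, hc3, hc4⟩ := exists_trans2 hζ hq hp hj (comm_moved (hcz y hy) hj) hpq hcon'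
  obtain ⟨g, hgC, hg⟩ := h.exists_lift hc1 hc2
  have hx' : g * x * g⁻¹ ∈ V := le_norm_iff.1 hVn g hgC x hx
  set x' := g * x * g⁻¹ with hx'd
  have hx'v : ∀ l, ψ x' (c l) = c (ψ x l) := by
    intro l
    rw [hx'd, map_mul, map_mul, map_inv, hg, Perm.mul_apply, Perm.mul_apply]
    congr 1
    congr 1
    rw [← Perm.mul_apply, inv_mul_cancel]; rfl
  have hcc : ∀ l, c (ψ z l) = ψ z (c l) := fun l => congrArg (fun f : Perm (Fin n) => f l) hc1
  have h1 : ψ x' (ψ y j) = ψ y j := by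
    rcases mem_bl.1 hc4 with h2 | h2
    · rw [← h2, hx'v, hxp]
    · have h3 : ψ x' (ψ z (ψ y j)) = ψ z (ψ y j) := by rw [← h2, hx'v, hxp]
      rw [hcz' x' hx'] at h3
      exact (ψ z).injective h3
  have h2 : ψ x' j = ψ z j := by
    rcases mem_bl.1 hc3 with h2 | h2
    · rw [← h2, hx'v, hxq', hcc]
    · have h3 : ψ x' (ψ z j) = j := by rw [← h2, hx'v, hxq', hcc, h2, hζζ]
      rw [hcz' x' hx'] at h3
      rw [← h3, hζζ, h3]
  have h3 : ψ y (ψ x' j) = ψ x' (ψ y j) := by
    have h4 : y * x' = x' * y := ea_comm hV hy hx'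
    have h5 := congrArg (fun f : G => ψ f j) h4
    simpa only [map_mul, Perm.mul_apply] using h5
  rw [h1, h2, hcz' y hy] at h3
  exact comm_moved (hcz y hy) hj h3

/-- an involution with as many moved points as `z` is conjugate to `z` -/
theorem Rep.chP_of_card (h : Rep ψ) {x z : G} (hx : x ^ 2 = 1) (hz : z ^ 2 = 1) (hz1 : z ≠ 1)
    (hc : (ψ x).support.card = (ψ z).support.card) (hch : ChP 2 (centralizer ({z} : Set G))) :
    ChP 2 (centralizer ({x} : Set G)) := by
  classical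
  have hx2 := Rep.sq ψ hx
  have hz2 := Rep.sq ψ hz
  have hcyc : ∀ g : Perm (Fin n), g * g = 1 → g.cycleType = Multiset.replicate (g.support.card / 2) 2 := by
    intro g hg
    have h1 : ∀ k ∈ g.cycleType, k = 2 := by
      intro k hk
      have h2 := Equiv.Perm.two_le_of_mem_cycleType hk
      have h3 : k ∣ orderOf g := Equiv.Perm.dvd_of_mem_cycleType hk
      have h4 : orderOf g ∣ 2 := orderOf_dvd_of_pow_eq_one (by rw [pow_two]; exact hg)
      exact le_antisymm (Nat.le_of_dvd (by norm_num) (h3.trans h4)) h2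
    have h5 := Multiset.eq_replicate_of_mem h1
    have h6 := Equiv.Perm.sum_cycleType g
    rw [h5, Multiset.sum_replicate, smul_eq_mul] at h6
    rw [h5]
    congr 1
    omega
  have h1 : IsConj (ψ z) (ψ x) := by
    rw [isConj_iff_cycleType_eq, hcyc _ hx2, hcyc _ hz2, hc]
  obtain ⟨σ, hσ⟩ := isConj_iff.1 h1
  obtain ⟨a, ha⟩ := h.ne_one hz1
  have hzz : ∀ l, ψ z (ψ z l) = l := fun l => congrArg (fun f : Perm (Fin n) => f l) hz2
  obtain ⟨τ, hτ1, hτ2⟩ : ∃ τ : Perm (Fin n), sign τ = 1 ∧ τ * ψ z * τ⁻¹ = ψ x := by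
    rcases Int.units_eq_one_or (sign σ) with h2 | h2
    · exact ⟨σ, h2, hσ⟩
    · refine ⟨σ * swap a (ψ z a), ?_, ?_⟩
      · rw [map_mul, h2, sign_swap ha.symm]; rfl
      · have h3 : swap a (ψ z a) * ψ z * (swap a (ψ z a))⁻¹ = ψ z := by
          have h4 : ψ z * swap a (ψ z a) * (ψ z)⁻¹ = swap a (ψ z a) := by
            rw [← Equiv.swap_apply_apply, hzz, swap_comm]
          have h5 : ψ z * swap a (ψ z a) = swap a (ψ z a) * ψ z := by
            have h6 := congrArg (· * ψ z) h4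
            simpa only [inv_mul_cancel_right] using h6
          rw [← h5, mul_inv_cancel_right]
        calc σ * swap a (ψ z a) * ψ z * (σ * swap a (ψ z a))⁻¹
            = σ * (swap a (ψ z a) * ψ z * (swap a (ψ z a))⁻¹) * σ⁻¹ := by group
          _ = ψ x := by rw [h3, hσ]
  obtain ⟨g, hg⟩ := h.ev τ hτ1
  have h3 : g * z * g⁻¹ = x := by
    apply h.inj
    rw [map_mul, map_mul, map_inv, hg, hτ2]
  have h4 : centralizer ({x} : Set G) = cj g (centralizer ({z} : Set G)) := by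
    ext y
    rw [mem_cj, mem_centralizer_singleton_iff, mem_centralizer_singleton_iff, ← h3]
    constructor
    · intro h5
      calc g⁻¹ * y * g * z = g⁻¹ * (y * (g * z * g⁻¹)) * g := by group
        _ = g⁻¹ * (g * z * g⁻¹ * y) * g := by rw [h5]
        _ = z * (g⁻¹ * y * g) := by group
    · intro h5
      calc y * (g * z * g⁻¹) = g * (g⁻¹ * y * g * z) * g⁻¹ := by group
        _ = g * (z * (g⁻¹ * y * g)) * g⁻¹ := by rw [h5]
        _ = g * z * g⁻¹ * y := by group
  rw [h4]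
  exact hch.cj g

end Cfsg.Agent.H282.LT
end

-- part: H282/LT/AltD
section
set_option linter.all false
open scoped Cfsg.Agent.FastGrp

/-!
# S2927, alternating socle: the groups `A₉`, `S₉`, `A₁₀`
-/

set_option autoImplicit false
set_option linter.unusedSectionVars false
open Cfsg Subgroup
open Cfsg.Agent.H229 Cfsg.Agent.H230 Cfsg.Agent.H252.LT

namespace Cfsg.Agent.H282.LT

open Equiv Equiv.Perm
open scoped commutatorElement Pointwise

variable {G : Type*} [Group G] {n : ℕ} {ψ : G →* Perm (Fin n)}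

theorem card_supp_conj (ψ : G →* Perm (Fin n)) (m z : G) :
    (ψ (m * z * m⁻¹)).support.card = (ψ z).support.card := by
  rw [map_mul, map_mul, map_inv]
  exact card_support_conj

section

variable [Finite G] {S : Sylow 2 G} {Q M : Subgroup G}

theorem conj_mem_Y (c : Cx S Q M) {m z : G} (hm : m ∈ M) (hz : z ∈ largestPReducedOf 2 M) :
    m * z * m⁻¹ ∈ largestPReducedOf 2 M := le_norm_iff.1 c.M_norm_Y m hm z hz

theorem V_le_cent (c : Cx S Q M) {z : G} (hz : z ∈ c.V) : c.V ≤ centralizer ({z} : Set G) := by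
  intro v hv
  rw [mem_centralizer_singleton_iff]
  exact ea_comm c.V_ea hv hz

/-- exactly one fixed point (`n = 9`) -/
theorem Rep.dead_one (h : Rep ψ) (c : Cx S Q M) {z : G}
    (hz : z ∈ centralizer ((S : Subgroup G) : Set G)) (hz1 : z ≠ 1) (hz2 : z ^ 2 = 1)
    (hF : (Finset.univ.filter fun i => ψ z i = i).card = 1) : False := by
  classical
  obtain ⟨f, hf⟩ := Finset.card_eq_one.1 hF
  have hF' : ∀ i, ψ z i = i ↔ i = f := by
    intro i
    have : i ∈ Finset.univ.filter (fun i => ψ z i = i) ↔ i ∈ ({f} : Finset (Fin n)) := by rw [hf]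
    simpa using this
  have hzY := c.center_mem_Y hz hz2
  have hzV := c.Y_le_V hzY
  have hVc := V_le_cent c hzV
  have hVn := (c.cent_le_norm_Q hz hz1).trans c.norm_V
  have hcz : ∀ y ∈ c.V, ∀ l, ψ y (ψ z l) = ψ z (ψ y l) := fun y hy l =>
    congrArg (fun f : Perm (Fin n) => f l) (h.mem_cent.1 (hVc hy))
  have hyf : ∀ y ∈ c.V, ψ y f = f := by
    intro y hy
    rw [← hF', ← hcz y hy, (hF' f).2 rfl]
  obtain ⟨x, hxY, hx1, hxb⟩ := c.bad
  have hxV := c.Y_le_V hxY
  have hx2 := c.Y_ea.2 x hxY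
  have hcard : (ψ x).support.card ≠ (ψ z).support.card := fun h1 =>
    hxb (h.chP_of_card hx2 hz2 hz1 h1 (c.chP_cent hz hz1))
  obtain ⟨q, hq⟩ := h.ne_one hx1
  have hq2 : ψ z q ≠ q := by
    intro h1
    rw [hF'] at h1
    rw [h1] at hq
    exact hq (hyf x hxV)
  obtain ⟨p, hp1, hp2⟩ : ∃ p, ψ z p ≠ p ∧ ψ x p = p := by
    by_contra hcon
    push Not at hcon
    apply hcard
    congr 1
    ext i
    rw [mem_support, mem_support]
    refine ⟨fun h1 h2 => ?_, fun h1 => hcon i h1⟩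
    rw [hF'] at h2
    rw [h2] at h1
    exact h1 (hyf x hxV)
  have hbase := h.base hz2 c.V_ea hVc hVn hxV hp1 hp2 hq2 hq
  apply c.not_M_le hz hz2 hz1
  intro m hm
  have hzm := conj_mem_Y c hm hzY
  have hzmV := c.Y_le_V hzm
  have hsub : (ψ (m * z * m⁻¹)).support ⊆ (ψ z).support := by
    intro i hi
    rw [mem_support] at hi ⊢
    intro h2
    rw [hF'] at h2
    rw [h2] at hi
    exact hi (hyf _ hzmV)
  have heq := Finset.eq_of_subset_of_card_le hsub (card_supp_conj ψ m z).ge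
  have hzz : m * z * m⁻¹ = z := by
    apply h.inj
    ext i
    congr 1
    by_cases hi : ψ z i = i
    · rw [hi]
      rw [hF'] at hi
      rw [hi]
      exact hyf _ hzmV
    · rcases mem_bl.1 (hbase _ hzmV i hi) with h1 | h1
      · have h2 : i ∈ (ψ (m * z * m⁻¹)).support := by rw [heq, mem_support]; exact hi
        rw [mem_support] at h2
        exact absurd h1 h2
      · exact h1
  rw [mem_centralizer_singleton_iff]
  calc m * z = (m * z * m⁻¹) * m := by group
    _ = z * m := by rw [hzz]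

end

/-! ### the subgroup `C_G(ϖ)`, `ϖ` a product of three transpositions in degree 10 -/

/-- fixed-point-free involutions on the fixed points of `ϖ` -/
def A1 (ψ : G →* Perm (Fin n)) (ϖ : Perm (Fin n)) : Set G :=
  {g | ψ g * ψ g = 1 ∧ (∀ i, ϖ i ≠ i → ψ g i = i) ∧ ∀ i, ϖ i = i → ψ g i ≠ i}

/-- the base group of `ϖ` -/
def A2 (ψ : G →* Perm (Fin n)) (ϖ : Perm (Fin n)) : Set G :=
  {g | (∀ i, ϖ i = i → ψ g i = i) ∧ ∀ i, ϖ i ≠ i → ψ g i ∈ bl ϖ i}

/-- the centraliser of `ϖ` -/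
def LL (ψ : G →* Perm (Fin n)) (ϖ : Perm (Fin n)) : Subgroup G := (centralizer ({ϖ} : Set (Perm (Fin n)))).comap ψ

theorem mem_LL {ϖ : Perm (Fin n)} {g : G} : g ∈ LL ψ ϖ ↔ ψ g * ϖ = ϖ * ψ g := by
  unfold LL
  rw [mem_comap, mem_centralizer_singleton_iff]

theorem conj_A {ϖ : Perm (Fin n)} {l g : G} (hl : l ∈ LL ψ ϖ) (hg : g ∈ A1 ψ ϖ ∪ A2 ψ ϖ) :
    l * g * l⁻¹ ∈ A1 ψ ϖ ∪ A2 ψ ϖ := by
  rw [mem_LL] at hl
  have h0 : ∀ i, ψ l ((ψ l)⁻¹ i) = i := fun i => by rw [← Perm.mul_apply, mul_inv_cancel]; rfl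
  have h0' : ∀ i, ψ l (ϖ i) = ϖ (ψ l i) := fun i => congrArg (fun f : Perm (Fin n) => f i) hl
  have h1 : ∀ i, ϖ ((ψ l)⁻¹ i) = (ψ l)⁻¹ i ↔ ϖ i = i := by
    intro i
    constructor
    · intro h2
      have h3 := h0' ((ψ l)⁻¹ i)
      rw [h2, h0] at h3
      exact h3.symm
    · intro h2
      apply (ψ l).injective
      rw [h0', h0, h2]
  have hv : ∀ i, ψ (l * g * l⁻¹) i = ψ l (ψ g ((ψ l)⁻¹ i)) := by
    intro i
    rw [map_mul, map_mul, map_inv]; rfl
  rcases hg with ⟨g1, g2, g3⟩ | ⟨g1, g2⟩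
  · left
    refine ⟨?_, fun i hi => ?_, fun i hi => ?_⟩
    · rw [map_mul, map_mul, map_inv]
      calc ψ l * ψ g * (ψ l)⁻¹ * (ψ l * ψ g * (ψ l)⁻¹) = ψ l * (ψ g * ψ g) * (ψ l)⁻¹ := by group
        _ = 1 := by rw [g1]; group
    · rw [hv, g2 _ (fun h2 => hi ((h1 i).1 h2)), h0]
    · rw [hv]
      intro h2
      apply g3 _ ((h1 i).2 hi)
      apply (ψ l).injective
      rw [h2, h0]
  · right
    refine ⟨fun i hi => ?_, fun i hi => ?_⟩
    · rw [hv, g1 _ ((h1 i).2 hi), h0]
    · rw [hv]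
      have h2 := smul_mem_bl hl (g2 _ (fun h2 => hi ((h1 i).1 h2)))
      rwa [h0] at h2

theorem A_le_LL {ϖ : Perm (Fin n)} (hϖ : ϖ * ϖ = 1) {g : G} (hg : g ∈ A1 ψ ϖ ∪ A2 ψ ϖ) : g ∈ LL ψ ϖ := by
  have hww : ∀ l, ϖ (ϖ l) = l := fun l => congrArg (fun f : Perm (Fin n) => f l) hϖ
  have hmw : ∀ l, ϖ l ≠ l → ϖ (ϖ l) ≠ ϖ l := fun l hl h => hl (ϖ.injective h)
  rw [mem_LL]
  ext i
  congr 1
  rw [Perm.mul_apply, Perm.mul_apply]
  rcases hg with ⟨g1, g2, g3⟩ | ⟨g1, g2⟩
  · by_cases hi : ϖ i = i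
    · rw [hi]
      by_contra h1
      have h2 : ϖ (ψ g i) ≠ ψ g i := fun h => h1 h.symm
      have h3 := g2 _ h2
      exact g3 i hi ((ψ g).injective h3)
    · rw [g2 i hi, g2 _ (hmw i hi)]
  · by_cases hi : ϖ i = i
    · rw [hi, g1 i hi, hi]
    · rcases mem_bl.1 (g2 i hi) with h1 | h1
      · rw [h1]
        rcases mem_bl.1 (g2 _ (hmw i hi)) with h2 | h2
        · exact h2
        · rw [hww] at h2
          exact absurd ((ψ g).injective (h2.trans h1.symm)) hi
      · rw [h1, hww]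
        rcases mem_bl.1 (g2 _ (hmw i hi)) with h2 | h2
        · exact absurd ((ψ g).injective (h2.trans h1.symm)) hi
        · rw [h2, hww]

theorem comm_A (h : Rep ψ) {ϖ : Perm (Fin n)} (hϖ : ϖ * ϖ = 1) (hF : (Finset.univ.filter fun i => ϖ i = i).card = 4)
    {g k : G} (hg : g ∈ A1 ψ ϖ ∪ A2 ψ ϖ) (hk : k ∈ A1 ψ ϖ ∪ A2 ψ ϖ) : g * k = k * g := by
  classical
  have hww : ∀ l, ϖ (ϖ l) = l := fun l => congrArg (fun f : Perm (Fin n) => f l) hϖ
  have memF : ∀ i, i ∈ (Finset.univ.filter fun i => ϖ i = i) ↔ ϖ i = i := fun i => by rw [Finset.mem_filter]; simp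
  have hc : ∀ g ∈ A1 ψ ϖ ∪ A2 ψ ϖ, ∀ i, ψ g (ϖ i) = ϖ (ψ g i) := fun g hg i =>
    congrArg (fun f : Perm (Fin n) => f i) (mem_LL.1 (A_le_LL hϖ hg))
  have hm : ∀ g ∈ A1 ψ ϖ ∪ A2 ψ ϖ, ∀ i, ϖ i ≠ i → ϖ (ψ g i) ≠ ψ g i := by
    intro g hg i hi h1
    rw [← hc g hg] at h1
    exact hi ((ψ g).injective h1)
  have hf : ∀ g ∈ A1 ψ ϖ ∪ A2 ψ ϖ, ∀ i, ϖ i = i → ϖ (ψ g i) = ψ g i := by
    intro g hg i hi
    rw [← hc g hg, hi]
  apply h.inj
  rw [map_mul, map_mul]
  ext i
  congr 1
  rw [Perm.mul_apply, Perm.mul_apply]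
  have hg' := hg
  have hk' := hk
  rcases hg with ⟨g1, g2, g3⟩ | ⟨g1, g2⟩ <;> rcases hk with ⟨k1, k2, k3⟩ | ⟨k1, k2⟩
  · by_cases hi : ϖ i = i
    · have gg : ∀ l, ψ g (ψ g l) = l := fun l => congrArg (fun f : Perm (Fin n) => f l) g1
      have kk : ∀ l, ψ k (ψ k l) = l := fun l => congrArg (fun f : Perm (Fin n) => f l) k1
      by_cases hgk : ψ g i = ψ k i
      · rw [← hgk, gg, hgk, kk]
      · by_contra hne
        have s1 := hf g hg' i hi
        have s2 := hf k hk' i hi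
        have s3 := hf g hg' _ s2
        have s4 := hf k hk' _ s1
        have hsub : ({i, ψ g i, ψ k i, ψ g (ψ k i), ψ k (ψ g i)} : Finset (Fin n)) ⊆
            Finset.univ.filter fun i => ϖ i = i := by
          intro x hx
          simp only [Finset.mem_insert, Finset.mem_singleton] at hx
          rw [memF]
          rcases hx with rfl | rfl | rfl | rfl | rfl <;> assumption
        have hle := Finset.card_le_card hsub
        rw [hF, Finset.card_insert_of_notMem, Finset.card_insert_of_notMem, Finset.card_insert_of_notMem,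
          Finset.card_insert_of_notMem, Finset.card_singleton] at hle
        · omega
        · rw [Finset.mem_singleton]; exact hne
        · simp only [Finset.mem_insert, Finset.mem_singleton, not_or]
          refine ⟨(g3 _ s2).symm, fun h5 => g3 i hi ((ψ k).injective h5).symm⟩
        · simp only [Finset.mem_insert, Finset.mem_singleton, not_or]
          exact ⟨hgk, fun h5 => k3 i hi ((ψ g).injective h5).symm, (k3 _ s1).symm⟩
        · simp only [Finset.mem_insert, Finset.mem_singleton, not_or]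
          refine ⟨(g3 i hi).symm, (k3 i hi).symm, fun h5 => hgk ?_, fun h5 => hgk ?_⟩
          · have := congrArg (ψ g) h5
            rwa [gg] at this
          · have := congrArg (ψ k) h5
            rw [kk] at this
            exact this.symm
    · rw [k2 i hi, g2 i hi, k2 i hi]
  · by_cases hi : ϖ i = i
    · rw [k1 i hi, k1 _ (hf g hg' i hi)]
    · rw [g2 i hi, g2 _ (hm k hk' i hi)]
  · by_cases hi : ϖ i = i
    · rw [g1 i hi, g1 _ (hf k hk' i hi)]
    · rw [k2 i hi, k2 _ (hm g hg' i hi)]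
  · by_cases hi : ϖ i = i
    · rw [k1 i hi, g1 i hi, k1 i hi]
    · rcases mem_bl.1 (g2 i hi) with h5 | h5 <;> rcases mem_bl.1 (k2 i hi) with h6 | h6
      · rw [h5, h6, h5]
      · rw [h5, h6, hc g hg', h5]
      · rw [h5, h6, h5, hc k hk', h6]
      · rw [h5, h6, hc g hg', hc k hk', h5, h6]

theorem Rep.chP_LL [Finite G] (h : Rep ψ) {ϖ : Perm (Fin n)} (hϖ : ϖ * ϖ = 1)
    (hF : (Finset.univ.filter fun i => ϖ i = i).card = 4) (hs : 5 ≤ (Finset.univ.filter fun i => ϖ i ≠ i).card) :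
    ChP 2 (LL ψ ϖ) := by
  classical
  have hww : ∀ l, ϖ (ϖ l) = l := fun l => congrArg (fun f : Perm (Fin n) => f l) hϖ
  have memF : ∀ i, i ∈ (Finset.univ.filter fun i => ϖ i = i) ↔ ϖ i = i := fun i => by rw [Finset.mem_filter]; simp
  have memX : ∀ i, i ∈ (Finset.univ.filter fun i => ϖ i ≠ i) ↔ ϖ i ≠ i := fun i => by rw [Finset.mem_filter]; simp
  set N : Subgroup G := LL ψ ϖ ⊓ centralizer (A1 ψ ϖ ∪ A2 ψ ϖ) with hN
  have hNn : LL ψ ϖ ≤ normalizer (N : Set G) := by
    rw [le_norm_iff]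
    intro l hl g hg
    refine mem_inf.2 ⟨mul_mem (mul_mem hl hg.1) (inv_mem hl), ?_⟩
    rw [mem_centralizer_iff]
    intro a ha
    have h1 := conj_A (inv_mem hl) ha
    rw [inv_inv] at h1
    have h2 := (mem_centralizer_iff.1 hg.2) _ h1
    calc a * (l * g * l⁻¹) = l * (l⁻¹ * a * l * g) * l⁻¹ := by group
      _ = l * (g * (l⁻¹ * a * l)) * l⁻¹ := by rw [h2]
      _ = l * g * l⁻¹ * a := by group
  have hsq : ∀ g ∈ N, g ^ 2 = 1 := by
    intro g hg
    have hgL := mem_LL.1 hg.1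
    have hgc : ∀ i, ψ g (ϖ i) = ϖ (ψ g i) := fun i => congrArg (fun f : Perm (Fin n) => f i) hgL
    have hcom : ∀ a ∈ A1 ψ ϖ ∪ A2 ψ ϖ, ∀ i, ψ g (ψ a i) = ψ a (ψ g i) := by
      intro a ha i
      have h1 := (mem_centralizer_iff.1 hg.2) a ha
      have h2 := congrArg (fun f : G => ψ f i) h1
      simp only [map_mul, Perm.mul_apply] at h2
      exact h2.symm
    apply h.inj
    rw [map_pow, pow_two, map_one]
    ext i
    congr 1
    rw [Perm.mul_apply, Perm.one_apply]
    by_cases hgi : ψ g i = i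
    · rw [hgi, hgi]
    by_cases hi : ϖ i = i
    · -- a fixed point of `ϖ`
      have hj : ϖ (ψ g i) = ψ g i := by rw [← hgc, hi]
      have hs2 : ({i, ψ g i} : Finset (Fin n)).card ≤ 2 := Finset.card_le_two
      obtain ⟨k, hkF, hk⟩ := Finset.exists_mem_notMem_of_card_lt_card (s := ({i, ψ g i} : Finset (Fin n)))
        (t := Finset.univ.filter fun i => ϖ i = i) (by omega)
      have hs3 : ({i, ψ g i, k} : Finset (Fin n)).card ≤ 3 := Finset.card_le_three
      obtain ⟨l, hlF, hl⟩ := Finset.exists_mem_notMem_of_card_lt_card (s := ({i, ψ g i, k} : Finset (Fin n)))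
        (t := Finset.univ.filter fun i => ϖ i = i) (by omega)
      simp only [Finset.mem_insert, Finset.mem_singleton, not_or] at hk hl
      rw [memF] at hkF hlF
      have hij : i ≠ ψ g i := Ne.symm hgi
      have hd := swap_disj (a := i) (b := ψ g i) (c := k) (d := l) (Ne.symm hk.1) (Ne.symm hl.1) (Ne.symm hk.2)
        (Ne.symm hl.2.1)
      have hsg : sign (swap i (ψ g i) * swap k l) = 1 := by
        rw [map_mul, sign_swap hij, sign_swap (Ne.symm hl.2.2)]; rfl
      obtain ⟨a, ha⟩ := h.ev _ hsg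
      have hall : ∀ x, ϖ x = x → x = i ∨ x = ψ g i ∨ x = k ∨ x = l := by
        have h5 : ({i, ψ g i, k, l} : Finset (Fin n)) = Finset.univ.filter fun i => ϖ i = i := by
          apply Finset.eq_of_subset_of_card_le
          · intro x hx
            simp only [Finset.mem_insert, Finset.mem_singleton] at hx
            rw [memF]
            rcases hx with rfl | rfl | rfl | rfl <;> assumption
          · rw [hF, Finset.card_insert_of_notMem, Finset.card_insert_of_notMem, Finset.card_insert_of_notMem,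
              Finset.card_singleton]
            · rw [Finset.mem_singleton]; exact Ne.symm hl.2.2
            · simp only [Finset.mem_insert, Finset.mem_singleton, not_or]
              exact ⟨Ne.symm hk.2, Ne.symm hl.2.1⟩
            · simp only [Finset.mem_insert, Finset.mem_singleton, not_or]
              exact ⟨hij, Ne.symm hk.1, Ne.symm hl.1⟩
        intro x hx
        have : x ∈ ({i, ψ g i, k, l} : Finset (Fin n)) := by rw [h5, memF]; exact hx
        simpa only [Finset.mem_insert, Finset.mem_singleton] using this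
      have v1 : ψ a i = ψ g i := by
        rw [ha, Perm.mul_apply, swap_apply_of_ne_of_ne (Ne.symm hk.1) (Ne.symm hl.1), swap_apply_left]
      have v2 : ψ a (ψ g i) = i := by
        rw [ha, Perm.mul_apply, swap_apply_of_ne_of_ne (Ne.symm hk.2) (Ne.symm hl.2.1), swap_apply_right]
      have v3 : ψ a k = l := by
        rw [ha, Perm.mul_apply, swap_apply_left, swap_apply_of_ne_of_ne hl.1 hl.2.1]
      have v4 : ψ a l = k := by
        rw [ha, Perm.mul_apply, swap_apply_right, swap_apply_of_ne_of_ne hk.1 hk.2]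
      have haA : a ∈ A1 ψ ϖ := by
        refine ⟨?_, fun x hx => ?_, fun x hx => ?_⟩
        · rw [ha]
          calc swap i (ψ g i) * swap k l * (swap i (ψ g i) * swap k l)
              = swap i (ψ g i) * (swap k l * swap i (ψ g i)) * swap k l := by group
            _ = swap i (ψ g i) * (swap i (ψ g i) * swap k l) * swap k l := by rw [hd.commute.eq]
            _ = (swap i (ψ g i) * swap i (ψ g i)) * (swap k l * swap k l) := by group
            _ = 1 := by rw [swap_mul_self, swap_mul_self, one_mul]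
        · have i1 : x ≠ i := by rintro rfl; exact hx hi
          have i2 : x ≠ ψ g i := by rintro rfl; exact hx hj
          have i3 : x ≠ k := by rintro rfl; exact hx hkF
          have i4 : x ≠ l := by rintro rfl; exact hx hlF
          rw [ha, Perm.mul_apply, swap_apply_of_ne_of_ne i3 i4, swap_apply_of_ne_of_ne i1 i2]
        · rcases hall x hx with rfl | rfl | rfl | rfl
          · rw [v1]; exact hgi
          · rw [v2]; exact hij
          · rw [v3]; exact hl.2.2
          · rw [v4]; exact Ne.symm hl.2.2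
      have h6 := hcom a (Or.inl haA) i
      rw [v1, v2] at h6
      exact h6
    · -- a moved point of `ϖ`
      have hgb : ψ g i ∈ bl ϖ i := by
        by_contra hcon
        have hj := comm_moved hgL hi
        have c2 : ∀ x, (bl ϖ x).card ≤ 2 := card_bl_le _
        obtain ⟨k, hkX, hk⟩ := Finset.exists_mem_notMem_of_card_lt_card (s := bl ϖ i ∪ bl ϖ (ψ g i))
          (t := Finset.univ.filter fun i => ϖ i ≠ i) (by
            have := Finset.card_union_le (bl ϖ i) (bl ϖ (ψ g i))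
            have := c2 i
            have := c2 (ψ g i)
            omega)
        rw [memX] at hkX
        rw [Finset.mem_union, not_or, mem_bl, mem_bl, not_or, not_or] at hk
        rw [mem_bl, not_or] at hcon
        have e1 : i ≠ k := Ne.symm hk.1.1
        have e2 : i ≠ ϖ k := fun h5 => hk.1.2 (by rw [h5, hww])
        have e3 : ϖ i ≠ k := Ne.symm hk.1.2
        have e4 : ϖ i ≠ ϖ k := fun h5 => e1 (ϖ.injective h5)
        have hsg : sign (swap i (ϖ i) * swap k (ϖ k)) = 1 := by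
          rw [map_mul, sign_swap (Ne.symm hi), sign_swap (Ne.symm hkX)]; rfl
        obtain ⟨a, ha⟩ := h.ev _ hsg
        have haA : a ∈ A2 ψ ϖ := by
          refine ⟨fun x hx => ?_, fun x hx => ?_⟩
          · have i1 : x ≠ i := by rintro rfl; exact hi hx
            have i2 : x ≠ ϖ i := by rintro rfl; exact hi (ϖ.injective hx)
            have i3 : x ≠ k := by rintro rfl; exact hkX hx
            have i4 : x ≠ ϖ k := by rintro rfl; exact hkX (ϖ.injective hx)
            rw [ha, Perm.mul_apply, swap_apply_of_ne_of_ne i3 i4, swap_apply_of_ne_of_ne i1 i2]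
          · rw [ha, Perm.mul_apply, mem_bl]
            by_cases i3 : x = k
            · rw [i3, swap_apply_left, swap_apply_of_ne_of_ne (Ne.symm e2) (Ne.symm e4)]; exact Or.inr rfl
            by_cases i4 : x = ϖ k
            · rw [i4, swap_apply_right, swap_apply_of_ne_of_ne (Ne.symm e1) (Ne.symm e3), hww]; exact Or.inr rfl
            rw [swap_apply_of_ne_of_ne i3 i4]
            by_cases i1 : x = i
            · rw [i1, swap_apply_left]; exact Or.inr rfl
            by_cases i2 : x = ϖ i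
            · rw [i2, swap_apply_right, hww]; exact Or.inr rfl
            rw [swap_apply_of_ne_of_ne i1 i2]; exact Or.inl rfl
        have h6 := hcom a (Or.inr haA) i
        have v1 : ψ a i = ϖ i := by
          rw [ha, Perm.mul_apply, swap_apply_of_ne_of_ne e1 e2, swap_apply_left]
        have v2 : ψ a (ψ g i) = ψ g i := by
          have k1 : ψ g i ≠ k := fun h7 => hk.2.1 h7.symm
          have k2 : ψ g i ≠ ϖ k := fun h7 => hk.2.2 (by rw [h7, hww])
          rw [ha, Perm.mul_apply, swap_apply_of_ne_of_ne k1 k2, swap_apply_of_ne_of_ne hcon.1 hcon.2]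
        rw [v1, v2, hgc] at h6
        exact hj h6
      rcases mem_bl.1 hgb with h5 | h5
      · exact absurd h5 hgi
      · rw [h5, hgc, h5, hww]
  have hNL : N ≤ LL ψ ϖ := inf_le_left
  have hNp : IsPGroup 2 ↥N := by
    intro g
    refine ⟨1, Subtype.ext ?_⟩
    rw [pow_one]
    exact hsq g g.2
  have hNO : N ≤ pCoreOf 2 (LL ψ ϖ) := le_pCoreOf hNL hNn hNp
  intro g hg
  apply hNO
  refine mem_inf.2 ⟨hg.1, ?_⟩
  rw [mem_centralizer_iff]
  intro a ha
  have haN : a ∈ N := by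
    refine mem_inf.2 ⟨A_le_LL hϖ ha, ?_⟩
    rw [mem_centralizer_iff]
    intro b hb
    exact comm_A h hϖ hF hb ha
  exact (mem_centralizer_iff.1 hg.2) a (hNO haN)

end Cfsg.Agent.H282.LT
end

-- part: H252/LT/Fams
section
set_option linter.all false
open scoped Cfsg.Agent.FastGrp

-- part: H17/LT/Defs
section
/-!
# S2927, layer L1: definitions for the case of at least two components

* `Two S Q M K`: a counterexample `Cx S Q M` with `F*(G) = E(G)`, at least two components, all conjugate to the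
  simple component `K` under `Q`.
* `DeadR R`: there is no `Two S Q M K` with `R ↥K`.
* `Fib P A`: what is seen in the group `K` (`P = S ∩ K`, `A` the group of automorphisms induced by `N_S(K)`).
* Row predicates which kill `Two`: `RowTwo`, `RowU`, `RowW` (and `KI`, `KP`, `KD`).
-/

set_option autoImplicit false
open Cfsg Subgroup
open Cfsg.Agent.H229 Cfsg.Agent.H230 Cfsg.Agent.H252.LT

universe u

namespace Cfsg.Agent.H17.LT

/-- A counterexample with at least two components; `K` is one of them. -/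
structure Two {G : Type*} [Group G] (S : Sylow 2 G) (Q M K : Subgroup G) : Prop where
  cx : Cx S Q M
  comp : IsComponent K
  simple : IsSimpleGroup ↥K
  nab : ¬ IsMulCommutative ↥K
  /-- `C_G(E(G)) = 1` -/
  cent : centralizer (layer G : Set G) = ⊥
  /-- `Q` permutes the components transitively -/
  trans : ∀ L : Subgroup G, IsComponent L → ∃ q ∈ Q, cj q K = L
  other : ∃ L : Subgroup G, IsComponent L ∧ L ≠ K

/-- no counterexample with at least two components, one of them `K` with `R K`. -/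
def DeadR (R : (K : Type u) → [Group K] → Prop) : Prop :=
  ∀ {G : Type u} [Group G] [Finite G] {S : Sylow 2 G} {Q M K : Subgroup G}, Two S Q M K → R ↥K → False

/-- The situation in a component: `P` a Sylow 2-subgroup, `A` a 2-group of automorphisms containing the conjugations with
elements of `P` and leaving `P` invariant. -/
structure Fib {K : Type*} [Group K] (P : Sylow 2 K) (A : Subgroup (MulAut K)) : Prop where
  two : IsPGroup 2 ↥A
  inn : ∀ s ∈ (P : Subgroup K), MulAut.conj s ∈ A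
  norm : ∀ a ∈ A, ∀ s ∈ (P : Subgroup K), a s ∈ (P : Subgroup K)
  /-- the centralizers of the `A`-invariant elements are 2-groups -/
  fix : ∀ z ∈ (P : Subgroup K), z ≠ 1 → (∀ a ∈ A, a z = z) → IsPGroup 2 ↥(centralizer ({z} : Set K))
  /-- an `A`-invariant 2-local subgroup not normalising `P` -/
  loc : ∃ X : Subgroup K, (P : Subgroup K) ≤ X ∧ (∀ a ∈ A, ∀ x ∈ X, a x ∈ X) ∧ pCoreOf 2 X ≠ ⊥ ∧
    ¬ X ≤ normalizer ((P : Subgroup K) : Set K)

/-- **Row two**: no centralizer of a 2-central involution is a 2-group. -/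
def RowTwo (K : Type u) [Group K] : Prop :=
  ∀ z : K, TwoCentral z → ¬ IsPGroup 2 ↥(centralizer ({z} : Set K))

/-- two "parabolic" subgroups `N(A)`, `N(B)` -/
structure WPair {K : Type*} [Group K] (P A B : Subgroup K) : Prop where
  neA : A ≠ ⊥
  neB : B ≠ ⊥
  PA : P ≤ normalizer (A : Set K)
  PB : P ≤ normalizer (B : Set K)
  /-- `A = O₂(N(A))` -/
  coreA : pCoreOf 2 (normalizer (A : Set K)) = A
  coreB : pCoreOf 2 (normalizer (B : Set K)) = B
  /-- every automorphism leaving `P` invariant fixes or swaps `A` and `B` -/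
  aut : ∀ α : MulAut K, P.map α.toMonoidHom = P →
    (A.map α.toMonoidHom = A ∧ B.map α.toMonoidHom = B) ∨ (A.map α.toMonoidHom = B ∧ B.map α.toMonoidHom = A)
  /-- the 2-local subgroups over `P` -/
  loc : ∀ X : Subgroup K, P ≤ X → pCoreOf 2 X ≠ ⊥ →
    X ≤ normalizer (P : Set K) ∨ X ≤ normalizer (A : Set K) ∨ X ≤ normalizer (B : Set K)
  inf : normalizer (A : Set K) ⊓ normalizer (B : Set K) ≤ normalizer (P : Set K)
  gen : normalizer (A : Set K) ⊔ normalizer (B : Set K) = ⊤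
  /-- a nontrivial element of `A ∩ B` whose centralizer is a 2-group does not lie in a subgroup `F ≤ A ∩ B`
  normalised by a 2-local subgroup `X ≥ P` not normalising `P` -/
  inv : ∀ X F : Subgroup K, P ≤ X → ¬ X ≤ normalizer (P : Set K) →
    (X ≤ normalizer (A : Set K) ∨ X ≤ normalizer (B : Set K)) → F ≤ A ⊓ B → X ≤ normalizer (F : Set K) →
    ∀ f ∈ F, f ≠ 1 → ¬ IsPGroup 2 ↥(centralizer ({f} : Set K))

/-- **Row W**: `K` has a `WPair` for some Sylow 2-subgroup (`L₃(2ⁿ)`, `A₆`, `Sp₄(2ⁿ)`). -/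
def RowW (K : Type u) [Group K] : Prop :=
  ∃ (P : Sylow 2 K) (A B : Subgroup K), WPair (P : Subgroup K) A B

end Cfsg.Agent.H17.LT
end

-- part: H252/LT/Elim
section
/-!
# S2927: handlers for the families, the assembly
-/

set_option autoImplicit false

universe u

open Subgroup Cfsg Cfsg.Agent.H731.SK

namespace Cfsg.Agent.H252.LT

/-- handlers for all families of nonabelian simple groups -/
structure Elim (K : Type u) [Group K] : Prop where
  alt : IsAlternating K → False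
  odd : ∀ p : ℕ, p.Prime → p ≠ 2 → IsLieTypeChar p K → ¬ PslEven K → ¬ IsAlternating K → False
  psl : PslEven K → False
  psp : PspEven K → False
  psu : PsuEven K → False
  plus : PlusEven K → False
  minus : MinusEven K → False
  g2 : GTwoEven K → False
  f4 : FFourEven K → False
  e6 : ESixEven K → False
  e7 : ESevenEven K → False
  e8 : EEightEven K → False
  twE6 : TwESixEven K → False
  twD4 : TwDFourEven K → False
  sz : Lie.IsoSuzuki K → False
  twF4 : Lie.Iso2F4 K → False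
  tits : Lie.IsoTits K → False
  m11 : Spor.IsoM11 K → False
  m12 : Spor.IsoM12 K → False
  m22 : Spor.IsoM22 K → False
  m23 : Spor.IsoM23 K → False
  m24 : Spor.IsoM24 K → False
  j1 : Spor.IsoJ1 K → False
  j2 : Spor.IsoJ2 K → False
  j3 : Spor.IsoJ3 K → False
  j4 : Spor.IsoJ4 K → False
  co1 : Spor.IsoCo1 K → False
  co2 : Spor.IsoCo2 K → False
  co3 : Spor.IsoCo3 K → False
  mcl : Spor.IsoMcL K → False
  hs : Spor.IsoHS K → False
  suz : Spor.IsoSuz K → False
  he : Spor.IsoHe K → False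
  ru : Spor.IsoRu K → False
  on : Spor.IsoON K → False
  ly : Spor.IsoLy K → False
  fi22 : Spor.IsoFi22 K → False
  fi23 : Spor.IsoFi23 K → False
  fi24 : Spor.IsoFi24' K → False
  hn : Spor.IsoHN K → False
  th : Spor.IsoTh K → False
  b : Spor.IsoB K → False
  m : Spor.IsoM K → False

variable {K : Type u} [Group K]

theorem Elim.odd_of (A : Elim K) {p : ℕ} (hp : p.Prime) (h2 : p ≠ 2) (hK : IsLieTypeChar p K) : False := by
  by_cases hE : PslEven K
  · exact A.psl hE
  · by_cases hA : IsAlternating K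
    · exact A.alt hA
    · exact A.odd p hp h2 hK hE hA

/-- exceptional groups -/
theorem Elim.exc (A : Elim K) (hK : IsExceptionalLieType K) : False := by
  rcases hK with hK | hK | hK | hK | hK | hK | hK | hK | hK | hK | hK
  · obtain ⟨F, iF, iT, h3, e⟩ := hK
    obtain ⟨p, hp, hc⟩ := exists_char F
    by_cases h2 : p = 2
    · subst h2
      refine A.g2 ⟨F, iF, iT, hc, ?_, e⟩
      obtain ⟨r, hr⟩ := even_card F
      omega
    · exact A.odd_of hp h2 (of_exc ⟨F, iF, iT, hc, Or.inl ⟨h3, e⟩⟩)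
  · obtain ⟨F, iF, iT, e⟩ := hK
    obtain ⟨p, hp, hc⟩ := exists_char F
    by_cases h2 : p = 2
    · subst h2
      exact A.f4 ⟨F, iF, iT, hc, e⟩
    · exact A.odd_of hp h2 (of_exc ⟨F, iF, iT, hc, Or.inr (Or.inl e)⟩)
  · obtain ⟨F, iF, iT, e⟩ := hK
    obtain ⟨p, hp, hc⟩ := exists_char F
    by_cases h2 : p = 2
    · subst h2
      exact A.e6 ⟨F, iF, iT, hc, e⟩
    · exact A.odd_of hp h2 (of_exc ⟨F, iF, iT, hc, Or.inr (Or.inr (Or.inl e))⟩)
  · obtain ⟨F, iF, iT, e⟩ := hK
    obtain ⟨p, hp, hc⟩ := exists_char F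
    by_cases h2 : p = 2
    · subst h2
      exact A.e7 ⟨F, iF, iT, hc, e⟩
    · exact A.odd_of hp h2 (of_exc ⟨F, iF, iT, hc, Or.inr (Or.inr (Or.inr (Or.inl e)))⟩)
  · obtain ⟨F, iF, iT, e⟩ := hK
    obtain ⟨p, hp, hc⟩ := exists_char F
    by_cases h2 : p = 2
    · subst h2
      exact A.e8 ⟨F, iF, iT, hc, e⟩
    · exact A.odd_of hp h2 (of_exc ⟨F, iF, iT, hc, Or.inr (Or.inr (Or.inr (Or.inr e)))⟩)
  · obtain ⟨F, iF, iT, q, hq, hF, e⟩ := hK
    obtain ⟨p, hp, hc⟩ := exists_char F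
    by_cases h2 : p = 2
    · subst h2
      exact A.twE6 ⟨F, iF, iT, hc, q, hq, hF, e⟩
    · exact A.odd_of hp h2 (of_tw ⟨F, iF, iT, hc, q, hq, Or.inl ⟨hF, e⟩⟩)
  · obtain ⟨F, iF, iT, q, hq, hF, e⟩ := hK
    obtain ⟨p, hp, hc⟩ := exists_char F
    by_cases h2 : p = 2
    · subst h2
      exact A.twD4 ⟨F, iF, iT, hc, q, hq, hF, e⟩
    · exact A.odd_of hp h2 (of_tw ⟨F, iF, iT, hc, q, hq, Or.inr ⟨hF, e⟩⟩)
  · exact A.sz hK
  · exact A.odd_of Nat.prime_three (by norm_num) (Or.inr (Or.inr (Or.inr (Or.inr (Or.inr (Or.inr (Or.inr (Or.inr (Or.inr (Or.inr ⟨rfl, hK⟩))))))))))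
  · exact A.twF4 hK
  · exact A.tits hK

/-- sporadic groups -/
theorem Elim.spor (A : Elim K) (hK : IsSporadicGroup K) : False := by
  rcases hK with hK | hK | hK | hK | hK | hK | hK | hK | hK | hK | hK | hK | hK | hK | hK | hK | hK | hK | hK | hK |
    hK | hK | hK | hK | hK | hK
  · exact A.m11 hK
  · exact A.m12 hK
  · exact A.m22 hK
  · exact A.m23 hK
  · exact A.m24 hK
  · exact A.j1 hK
  · exact A.j2 hK
  · exact A.j3 hK
  · exact A.j4 hK
  · exact A.co1 hK
  · exact A.co2 hK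
  · exact A.co3 hK
  · exact A.mcl hK
  · exact A.hs hK
  · exact A.suz hK
  · exact A.he hK
  · exact A.ru hK
  · exact A.on hK
  · exact A.ly hK
  · exact A.fi22 hK
  · exact A.fi23 hK
  · exact A.fi24 hK
  · exact A.hn hK
  · exact A.th hK
  · exact A.b hK
  · exact A.m hK

/-- **The handlers imply `False`.** -/
theorem Elim.false (A : Elim K) (hk : IsKnownSimple' K) (hna : ¬ IsMulCommutative K) : False := by
  rcases hk with hK | hK | hK | hK | hK | hK | hK | hK | hK | hK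
  · have hp : Fact (Nat.card K).Prime := ⟨hK⟩
    have hc : IsCyclic K := isCyclic_of_prime_card rfl
    exact hna ⟨⟨fun a b => hc.commGroup.mul_comm a b⟩⟩
  · exact A.alt hK
  · obtain ⟨F, iF, iT, n, hn, h4, e⟩ := hK
    obtain ⟨p, hp, hc⟩ := exists_char F
    by_cases h2 : p = 2
    · subst h2
      exact A.psl ⟨F, iF, iT, hc, n, hn, h4, e⟩
    · exact A.odd_of hp h2 (Or.inl ⟨F, iF, iT, hc, n, hn, h4, e⟩)
  · obtain ⟨F, iF, iT, m, hm, h3, e⟩ := hK
    obtain ⟨p, hp, hc⟩ := exists_char F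
    by_cases h2 : p = 2
    · subst h2
      refine A.psp ⟨F, iF, iT, hc, m, hm, fun hm2 => ?_, e⟩
      have h5 := h3 hm2
      obtain ⟨r, hr⟩ := even_card F
      omega
    · exact A.odd_of hp h2 (Or.inr (Or.inl ⟨F, iF, iT, hc, m, hm, h3, e⟩))
  · obtain ⟨F, iF, iT, n, q, hF, hn, h3, e⟩ := hK
    obtain ⟨p, hp, hc⟩ := exists_char F
    by_cases h2 : p = 2
    · subst h2
      by_cases h4 : n = 4 ∧ q = 2
      · obtain ⟨rfl, rfl⟩ := h4
        obtain ⟨e⟩ := e
        have : Fact (Nat.Prime 3) := ⟨Nat.prime_three⟩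
        obtain ⟨k⟩ := Cfsg.Agent.S0822.result (F := F) (K := ZMod 3) (by rw [hF]; norm_num) (ZMod.card 3)
        exact A.odd_of Nat.prime_three (by norm_num) (Or.inr (Or.inl ⟨ZMod 3, inferInstance, inferInstance,
          inferInstance, 2, le_rfl, fun _ => by rw [ZMod.card], ⟨e.trans k⟩⟩))
      · refine A.psu ⟨F, iF, iT, hc, n, q, hF, ?_, hn, h3, h4, e⟩
        have h5 := even_card F
        rw [hF] at h5
        exact (Nat.even_pow.1 h5).1
    · exact A.odd_of hp h2 (Or.inr (Or.inr (Or.inl ⟨F, iF, iT, hc, n, q, hF, hn, h3, e⟩)))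
  · obtain ⟨F, iF, iT, m, hm, ho, e⟩ := hK
    obtain ⟨p, hp, hc⟩ := exists_char F
    exact A.odd_of hp (ne_two_of_odd hc ho) (Or.inr (Or.inr (Or.inr (Or.inl ⟨F, iF, iT, hc, m, hm, ho, e⟩))))
  · obtain ⟨F, iF, iT, m, hm, e⟩ := hK
    obtain ⟨p, hp, hc⟩ := exists_char F
    by_cases h2 : p = 2
    · subst h2
      exact A.plus ⟨F, iF, iT, hc, m, hm, e⟩
    · exact A.odd_of hp h2 (Or.inr (Or.inr (Or.inr (Or.inr (Or.inl ⟨F, iF, iT, hc, m, hm, e⟩)))))
  · obtain ⟨F, iF, iT, m, a, b, hm, hab, e⟩ := hK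
    obtain ⟨p, hp, hc⟩ := exists_char F
    by_cases h2 : p = 2
    · subst h2
      exact A.minus ⟨F, iF, iT, hc, m, a, b, hm, hab, e⟩
    · exact A.odd_of hp h2 (Or.inr (Or.inr (Or.inr (Or.inr (Or.inr (Or.inl ⟨F, iF, iT, hc, m, a, b, hm, hab, e⟩))))))
  · exact A.exc hK
  · exact A.spor hK

end Cfsg.Agent.H252.LT
end

-- part: H252/LT/Fams
section
/-!
# S2927: the list of the families

`Fams D` : every family of nonabelian simple groups satisfies `D` (`D` = `DeadL` or `DeadR`).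
`Fams.elim` : `Fams D` gives the handlers `Elim K`.
-/

set_option autoImplicit false

universe u

open Subgroup Cfsg Cfsg.Agent.H731.SK Matrix

namespace Cfsg.Agent.H252.LT

/-- the families -/
structure Fams (D : ((K : Type u) → [Group K] → Prop) → Prop) : Prop where
  alt : ∀ n : ℕ, 6 ≤ n → n ≠ 8 → D fun K _ => Nonempty (K ≃* ↥(alternatingGroup (Fin n)))
  /- odd characteristic, classical -/
  psl2 : D fun K _ => ∃ (F : Type) (_ : Field F) (_ : Fintype F), Odd (Fintype.card F) ∧ 11 ≤ Fintype.card F ∧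
    Nonempty (K ≃* ProjectiveSpecialLinearGroup (Fin 2) F)
  pslO : D fun K _ => ∃ (F : Type) (_ : Field F) (_ : Fintype F) (n : ℕ), Odd (Fintype.card F) ∧ 3 ≤ n ∧
    ¬ ((n = 3 ∨ n = 4) ∧ Fintype.card F = 3) ∧ Nonempty (K ≃* ProjectiveSpecialLinearGroup (Fin n) F)
  l33 : D fun K _ => ∃ (F : Type) (_ : Field F) (_ : Fintype F), Fintype.card F = 3 ∧
    Nonempty (K ≃* ProjectiveSpecialLinearGroup (Fin 3) F)
  l43 : D fun K _ => ∃ (F : Type) (_ : Field F) (_ : Fintype F), Fintype.card F = 3 ∧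
    Nonempty (K ≃* ProjectiveSpecialLinearGroup (Fin 4) F)
  pspO : D fun K _ => ∃ (F : Type) (_ : Field F) (_ : Fintype F) (m : ℕ), Odd (Fintype.card F) ∧ 2 ≤ m ∧
    ¬ (m = 2 ∧ Fintype.card F = 3) ∧ Nonempty (K ≃* PSp m F)
  psp43 : D fun K _ => ∃ (F : Type) (_ : Field F) (_ : Fintype F), Fintype.card F = 3 ∧ Nonempty (K ≃* PSp 2 F)
  psuO : D fun K _ => ∃ (F : Type) (_ : Field F) (_ : Fintype F) (n q : ℕ), Fintype.card F = q ^ 2 ∧ Odd q ∧ 3 ≤ n ∧
    ¬ ((n = 3 ∨ n = 4) ∧ q = 3) ∧ Nonempty (K ≃* PSU n F q)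
  u33 : D fun K _ => ∃ (F : Type) (_ : Field F) (_ : Fintype F), Fintype.card F = 9 ∧ Nonempty (K ≃* PSU 3 F 3)
  u43 : D fun K _ => ∃ (F : Type) (_ : Field F) (_ : Fintype F), Fintype.card F = 9 ∧ Nonempty (K ≃* PSU 4 F 3)
  oodd : D fun K _ => ∃ (F : Type) (_ : Field F) (_ : Fintype F) (m : ℕ), Odd (Fintype.card F) ∧ 3 ≤ m ∧
    ¬ (m = 3 ∧ Fintype.card F = 3) ∧ Nonempty (K ≃* POmega F (quadFormOdd m F))
  o73 : D fun K _ => ∃ (F : Type) (_ : Field F) (_ : Fintype F), Fintype.card F = 3 ∧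
    Nonempty (K ≃* POmega F (quadFormOdd 3 F))
  oplus : D fun K _ => ∃ (F : Type) (_ : Field F) (_ : Fintype F) (m : ℕ), Odd (Fintype.card F) ∧ 4 ≤ m ∧
    ¬ (m = 4 ∧ Fintype.card F = 3) ∧ Nonempty (K ≃* POmega F (quadFormPlus m F))
  o8p3 : D fun K _ => ∃ (F : Type) (_ : Field F) (_ : Fintype F), Fintype.card F = 3 ∧
    Nonempty (K ≃* POmega F (quadFormPlus 4 F))
  ominus : D fun K _ => ∃ (F : Type) (_ : Field F) (_ : Fintype F) (m : ℕ) (a b : F), Odd (Fintype.card F) ∧ 4 ≤ m ∧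
    ¬ (m = 4 ∧ Fintype.card F = 3) ∧ (∀ z₁ z₂ : F, z₁ ^ 2 + a * z₁ * z₂ + b * z₂ ^ 2 = 0 → z₁ = 0 ∧ z₂ = 0) ∧
    Nonempty (K ≃* POmega F (quadFormMinus (m - 1) F a b))
  o8m3 : D fun K _ => ∃ (F : Type) (_ : Field F) (_ : Fintype F) (a b : F), Fintype.card F = 3 ∧
    (∀ z₁ z₂ : F, z₁ ^ 2 + a * z₁ * z₂ + b * z₂ ^ 2 = 0 → z₁ = 0 ∧ z₂ = 0) ∧
    Nonempty (K ≃* POmega F (quadFormMinus 3 F a b))
  /- odd characteristic, exceptional, `q > 3` -/
  exc : D fun K _ => ∃ (F : Type) (_ : Field F) (_ : Fintype F), Odd (Fintype.card F) ∧ 3 < Fintype.card F ∧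
    (Nonempty (K ≃* Lie.chevG2.group F) ∨ Nonempty (K ≃* Lie.chevF4.group F) ∨ Nonempty (K ≃* Lie.chevE6.group F) ∨
      Nonempty (K ≃* Lie.chevE7.group F) ∨ Nonempty (K ≃* Lie.chevE8.group F))
  exc3 : D fun K _ => ∃ (F : Type) (_ : Field F) (_ : Fintype F), Fintype.card F = 3 ∧
    (Nonempty (K ≃* Lie.chevF4.group F) ∨ Nonempty (K ≃* Lie.chevE6.group F) ∨
      Nonempty (K ≃* Lie.chevE7.group F) ∨ Nonempty (K ≃* Lie.chevE8.group F))
  g23 : D fun K _ => ∃ (F : Type) (_ : Field F) (_ : Fintype F), Fintype.card F = 3 ∧ Nonempty (K ≃* Lie.chevG2.group F)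
  twO : D fun K _ => ∃ (F : Type) (_ : Field F) (_ : Fintype F) (q : ℕ), IsPrimePow q ∧ Odd q ∧ 3 < q ∧
    ((Fintype.card F = q ^ 2 ∧ Nonempty (K ≃* Lie.twistedE6 F q)) ∨
      (Fintype.card F = q ^ 3 ∧ Nonempty (K ≃* Lie.twistedD4 F q)))
  twE63 : D fun K _ => ∃ (F : Type) (_ : Field F) (_ : Fintype F), Fintype.card F = 9 ∧
    Nonempty (K ≃* Lie.twistedE6 F 3)
  twD43 : D fun K _ => ∃ (F : Type) (_ : Field F) (_ : Fintype F), Fintype.card F = 27 ∧
    Nonempty (K ≃* Lie.twistedD4 F 3)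
  ree : D fun K _ => Lie.IsoRee K
  /- characteristic two -/
  psl : D fun K _ => PslEven K
  psp : D fun K _ => PspEven K
  psu : D fun K _ => PsuEven K
  plus : D fun K _ => PlusEven K
  minus : D fun K _ => MinusEven K
  g2 : D fun K _ => GTwoEven K
  f4 : D fun K _ => FFourEven K
  e6 : D fun K _ => ESixEven K
  e7 : D fun K _ => ESevenEven K
  e8 : D fun K _ => EEightEven K
  twE6 : D fun K _ => TwESixEven K
  twD4 : D fun K _ => TwDFourEven K
  sz : D fun K _ => Lie.IsoSuzuki K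
  twF4 : D fun K _ => Lie.Iso2F4 K
  tits : D fun K _ => Lie.IsoTits K
  m11 : D fun K _ => Spor.IsoM11 K
  m12 : D fun K _ => Spor.IsoM12 K
  m22 : D fun K _ => Spor.IsoM22 K
  m23 : D fun K _ => Spor.IsoM23 K
  m24 : D fun K _ => Spor.IsoM24 K
  j1 : D fun K _ => Spor.IsoJ1 K
  j2 : D fun K _ => Spor.IsoJ2 K
  j3 : D fun K _ => Spor.IsoJ3 K
  j4 : D fun K _ => Spor.IsoJ4 K
  co1 : D fun K _ => Spor.IsoCo1 K
  co2 : D fun K _ => Spor.IsoCo2 K
  co3 : D fun K _ => Spor.IsoCo3 K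
  mcl : D fun K _ => Spor.IsoMcL K
  hs : D fun K _ => Spor.IsoHS K
  suz : D fun K _ => Spor.IsoSuz K
  he : D fun K _ => Spor.IsoHe K
  ru : D fun K _ => Spor.IsoRu K
  on : D fun K _ => Spor.IsoON K
  ly : D fun K _ => Spor.IsoLy K
  fi22 : D fun K _ => Spor.IsoFi22 K
  fi23 : D fun K _ => Spor.IsoFi23 K
  fi24 : D fun K _ => Spor.IsoFi24' K
  hn : D fun K _ => Spor.IsoHN K
  th : D fun K _ => Spor.IsoTh K
  b : D fun K _ => Spor.IsoB K
  m : D fun K _ => Spor.IsoM K

theorem odd_card_of {F : Type} [Field F] [Fintype F] {p : ℕ} (hp : p.Prime) (hc : CharP F p) (h2 : p ≠ 2) :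
    Odd (Fintype.card F) := by
  have : Fact p.Prime := ⟨hp⟩
  obtain ⟨m, -, hm⟩ := FiniteField.card F p
  rw [hm]
  exact (hp.odd_of_ne_two h2).pow

theorem three_le_card {F : Type} [Field F] [Fintype F] (h : Odd (Fintype.card F)) : 3 ≤ Fintype.card F := by
  have h1 : 1 < Fintype.card F := Fintype.one_lt_card
  obtain ⟨r, hr⟩ := h
  omega

theorem odd_of_pow {F : Type} [Field F] [Fintype F] {q n : ℕ} (hn : n ≠ 0) (hF : Fintype.card F = q ^ n)
    (h : Odd (Fintype.card F)) : Odd q := by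
  by_contra h1
  rw [Nat.not_odd_iff_even] at h1
  rw [hF] at h
  exact (Nat.not_even_iff_odd.2 h) ((Nat.even_pow).2 ⟨h1, hn⟩)

theorem three_le_of_odd {q : ℕ} (h : Odd q) (h1 : q ≠ 1) : 3 ≤ q := by
  obtain ⟨r, hr⟩ := h
  omega

/-- odd characteristic -/
theorem Fams.odd {D : ((K : Type u) → [Group K] → Prop) → Prop} (A : Fams D) {K : Type u} [Group K]
    (hD : ∀ R : (K : Type u) → [Group K] → Prop, D R → R K → False) (p : ℕ) (hp : p.Prime) (h2 : p ≠ 2)
    (hK : IsLieTypeChar p K) (hE : ¬ PslEven K) (hA : ¬ IsAlternating K) : False := by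
  rcases hK with hK | hK | hK | hK | hK | hK | hK | hK | hK | hK | hK
  · obtain ⟨F, iF, iT, hc, n, hn, h4, ⟨e⟩⟩ := hK
    have ho := odd_card_of hp hc h2
    rcases hn.eq_or_lt with rfl | hn
    · have h4' := h4 rfl
      by_cases hc5 : Fintype.card F = 5
      · obtain ⟨f⟩ := S0253.result hc5
        exact hA ⟨5, le_rfl, ⟨e.trans f⟩⟩
      by_cases hc7 : Fintype.card F = 7
      · have : Fact (Nat.Prime 2) := ⟨Nat.prime_two⟩
        obtain ⟨f⟩ := S0255.result (F := F) (K := ZMod 2) hc7 (ZMod.card 2)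
        exact hE ⟨ZMod 2, inferInstance, inferInstance, inferInstance, 3, by norm_num, by norm_num, ⟨e.trans f⟩⟩
      by_cases hc9 : Fintype.card F = 9
      · obtain ⟨f⟩ := S0254.result hc9
        exact hA ⟨6, by norm_num, ⟨e.trans f⟩⟩
      refine hD _ A.psl2 ⟨F, iF, iT, ho, ?_, ⟨e⟩⟩
      obtain ⟨r, hr⟩ := ho
      omega
    · by_cases h3 : Fintype.card F = 3
      · by_cases h33 : n = 3
        · subst h33
          exact hD _ A.l33 ⟨F, iF, iT, h3, ⟨e⟩⟩
        · by_cases h43 : n = 4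
          · subst h43
            exact hD _ A.l43 ⟨F, iF, iT, h3, ⟨e⟩⟩
          · exact hD _ A.pslO ⟨F, iF, iT, n, ho, hn, fun h => by omega, ⟨e⟩⟩
      · exact hD _ A.pslO ⟨F, iF, iT, n, ho, hn, fun h => h3 h.2, ⟨e⟩⟩
  · obtain ⟨F, iF, iT, hc, m, hm, -, ⟨e⟩⟩ := hK
    have ho := odd_card_of hp hc h2
    by_cases h : m = 2 ∧ Fintype.card F = 3
    · obtain ⟨rfl, h3⟩ := h
      exact hD _ A.psp43 ⟨F, iF, iT, h3, ⟨e⟩⟩
    · exact hD _ A.pspO ⟨F, iF, iT, m, ho, hm, h, ⟨e⟩⟩
  · obtain ⟨F, iF, iT, hc, n, q, hF, hn, h32, ⟨e⟩⟩ := hK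
    have ho := odd_card_of hp hc h2
    have hq : Odd q := odd_of_pow two_ne_zero hF ho
    by_cases h : (n = 3 ∨ n = 4) ∧ q = 3
    · obtain ⟨h | h, rfl⟩ := h
      · subst h
        exact hD _ A.u33 ⟨F, iF, iT, hF, ⟨e⟩⟩
      · subst h
        exact hD _ A.u43 ⟨F, iF, iT, hF, ⟨e⟩⟩
    · exact hD _ A.psuO ⟨F, iF, iT, n, q, hF, hq, hn, h, ⟨e⟩⟩
  · obtain ⟨F, iF, iT, hc, m, hm, ho, ⟨e⟩⟩ := hK
    by_cases h : m = 3 ∧ Fintype.card F = 3
    · obtain ⟨rfl, h3⟩ := h
      exact hD _ A.o73 ⟨F, iF, iT, h3, ⟨e⟩⟩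
    · exact hD _ A.oodd ⟨F, iF, iT, m, ho, hm, h, ⟨e⟩⟩
  · obtain ⟨F, iF, iT, hc, m, hm, ⟨e⟩⟩ := hK
    have ho := odd_card_of hp hc h2
    by_cases h : m = 4 ∧ Fintype.card F = 3
    · obtain ⟨rfl, h3⟩ := h
      exact hD _ A.o8p3 ⟨F, iF, iT, h3, ⟨e⟩⟩
    · exact hD _ A.oplus ⟨F, iF, iT, m, ho, hm, h, ⟨e⟩⟩
  · obtain ⟨F, iF, iT, hc, m, a, b, hm, hab, ⟨e⟩⟩ := hK
    have ho := odd_card_of hp hc h2
    by_cases h : m = 4 ∧ Fintype.card F = 3
    · obtain ⟨rfl, h3⟩ := h
      exact hD _ A.o8m3 ⟨F, iF, iT, a, b, h3, hab, ⟨e⟩⟩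
    · exact hD _ A.ominus ⟨F, iF, iT, m, a, b, ho, hm, h, hab, ⟨e⟩⟩
  · obtain ⟨F, iF, iT, hc, hK⟩ := hK
    have ho := odd_card_of hp hc h2
    by_cases h3 : Fintype.card F = 3
    · rcases hK with ⟨-, hK⟩ | hK
      · exact hD _ A.g23 ⟨F, iF, iT, h3, hK⟩
      · exact hD _ A.exc3 ⟨F, iF, iT, h3, hK⟩
    · have h4 : 3 < Fintype.card F := lt_of_le_of_ne (three_le_card ho) (Ne.symm h3)
      refine hD _ A.exc ⟨F, iF, iT, ho, h4, ?_⟩
      rcases hK with ⟨-, hK⟩ | hK
      · exact Or.inl hK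
      · exact Or.inr hK
  · obtain ⟨F, iF, iT, hc, q, hq, hK⟩ := hK
    have ho := odd_card_of hp hc h2
    have hqo : Odd q := by
      rcases hK with ⟨h, -⟩ | ⟨h, -⟩
      · exact odd_of_pow two_ne_zero h ho
      · exact odd_of_pow three_ne_zero h ho
    have h3 : 3 ≤ q := three_le_of_odd hqo hq.ne_one
    rcases h3.eq_or_lt with rfl | h3
    · rcases hK with ⟨h, e⟩ | ⟨h, e⟩
      · exact hD _ A.twE63 ⟨F, iF, iT, h, e⟩
      · exact hD _ A.twD43 ⟨F, iF, iT, h, e⟩
    · exact hD _ A.twO ⟨F, iF, iT, q, hq, hqo, h3, hK⟩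
  · exact h2 hK.1
  · exact h2 hK.1
  · exact hD _ A.ree hK.2

theorem Fams.altE {D : ((K : Type u) → [Group K] → Prop) → Prop} (A : Fams D) {K : Type u} [Group K]
    (hD : ∀ R : (K : Type u) → [Group K] → Prop, D R → R K → False) (hK : IsAlternating K) : False := by
  obtain ⟨n, hn, ⟨e⟩⟩ := hK
  by_cases h5 : n = 5
  · subst h5
    let _ : Fintype (GaloisField 2 2) := Fintype.ofFinite _
    have hc : Fintype.card (GaloisField 2 2) = 4 := by
      rw [← Nat.card_eq_fintype_card, GaloisField.card 2 2 two_ne_zero]; norm_num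
    obtain ⟨f⟩ := S0252.result (F := GaloisField 2 2) hc
    exact hD _ A.psl ⟨GaloisField 2 2, inferInstance, Fintype.ofFinite _, inferInstance, 2, le_rfl,
      fun _ => by rw [hc], ⟨e.trans f.symm⟩⟩
  by_cases h8 : n = 8
  · subst h8
    obtain ⟨f⟩ := S0256.result (F := ZMod 2) (ZMod.card 2)
    exact hD _ A.psl ⟨ZMod 2, inferInstance, inferInstance, inferInstance, 4, by norm_num, by norm_num,
      ⟨e.trans f.symm⟩⟩
  · exact hD _ (A.alt n (by omega) h8) ⟨e⟩

/-- **The list of the families gives the handlers.** -/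
theorem Fams.elim {D : ((K : Type u) → [Group K] → Prop) → Prop} (A : Fams D) {K : Type u} [Group K]
    (hD : ∀ R : (K : Type u) → [Group K] → Prop, D R → R K → False) : Elim K where
  alt := A.altE hD
  odd := A.odd hD
  psl := hD _ A.psl
  psp := hD _ A.psp
  psu := hD _ A.psu
  plus := hD _ A.plus
  minus := hD _ A.minus
  g2 := hD _ A.g2
  f4 := hD _ A.f4
  e6 := hD _ A.e6
  e7 := hD _ A.e7
  e8 := hD _ A.e8
  twE6 := hD _ A.twE6
  twD4 := hD _ A.twD4
  sz := hD _ A.sz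
  twF4 := hD _ A.twF4
  tits := hD _ A.tits
  m11 := hD _ A.m11
  m12 := hD _ A.m12
  m22 := hD _ A.m22
  m23 := hD _ A.m23
  m24 := hD _ A.m24
  j1 := hD _ A.j1
  j2 := hD _ A.j2
  j3 := hD _ A.j3
  j4 := hD _ A.j4
  co1 := hD _ A.co1
  co2 := hD _ A.co2
  co3 := hD _ A.co3
  mcl := hD _ A.mcl
  hs := hD _ A.hs
  suz := hD _ A.suz
  he := hD _ A.he
  ru := hD _ A.ru
  on := hD _ A.on
  ly := hD _ A.ly
  fi22 := hD _ A.fi22
  fi23 := hD _ A.fi23
  fi24 := hD _ A.fi24
  hn := hD _ A.hn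
  th := hD _ A.th
  b := hD _ A.b
  m := hD _ A.m

end Cfsg.Agent.H252.LT
end
end

-- part: H282/LT/AltE
section
set_option linter.all false
open scoped Cfsg.Agent.FastGrp

/-!
# S2927: the alternating row

`dead_alt` : no `Cx` in a group with alternating socle of degree `n ≥ 7`, `n ≠ 8`.
-/

set_option autoImplicit false
set_option linter.unusedSectionVars false
open Cfsg Subgroup
open Cfsg.Agent.H229 Cfsg.Agent.H230 Cfsg.Agent.H252.LT

universe u

namespace Cfsg.Agent.H282.LT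

open Equiv Equiv.Perm
open scoped commutatorElement Pointwise

theorem invol_cycleType {n : ℕ} {g : Perm (Fin n)} (hg : g * g = 1) :
    g.cycleType = Multiset.replicate (g.support.card / 2) 2 ∧ 2 * (g.support.card / 2) = g.support.card := by
  have h1 : ∀ k ∈ g.cycleType, k = 2 := by
    intro k hk
    have h2 := Equiv.Perm.two_le_of_mem_cycleType hk
    have h3 : k ∣ orderOf g := Equiv.Perm.dvd_of_mem_cycleType hk
    have h4 : orderOf g ∣ 2 := orderOf_dvd_of_pow_eq_one (by rw [pow_two]; exact hg)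
    exact le_antisymm (Nat.le_of_dvd (by norm_num) (h3.trans h4)) h2
  have h5 := Multiset.eq_replicate_of_mem h1
  have h6 := Equiv.Perm.sum_cycleType g
  rw [h5, Multiset.sum_replicate, smul_eq_mul] at h6
  refine ⟨?_, by omega⟩
  rw [h5]
  congr 1
  omega

theorem four_dvd {n : ℕ} {g : Perm (Fin n)} (hg : g * g = 1) (hs : sign g = 1) : 4 ∣ g.support.card := by
  obtain ⟨h1, h2⟩ := invol_cycleType hg
  rw [sign_of_cycleType, h1, Multiset.sum_replicate, Multiset.card_replicate, smul_eq_mul] at hs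
  set k := g.support.card / 2 with hk
  have h3 : Even k := by
    by_contra h4
    rw [Nat.not_even_iff_odd] at h4
    have h5 : Odd (k * 2 + k) := by
      obtain ⟨m, hm⟩ := h4
      exact ⟨3 * m + 1, by omega⟩
    rw [h5.neg_one_pow] at hs
    exact absurd hs (by decide)
  obtain ⟨m, hm⟩ := h3
  exact ⟨m, by omega⟩

theorem card_fix_add {n : ℕ} (g : Perm (Fin n)) :
    (Finset.univ.filter fun i => g i = i).card + g.support.card = n := by
  have h1 := Finset.card_filter_add_card_filter_not (s := (Finset.univ : Finset (Fin n))) (fun i => g i = i)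
  rw [Finset.card_univ, Fintype.card_fin] at h1
  have h2 : (Finset.univ.filter fun i => ¬ g i = i) = g.support := by
    ext i; rw [Finset.mem_filter, mem_support]; simp
  rw [h2] at h1
  exact h1

variable {G : Type*} [Group G] {n : ℕ} {ψ : G →* Perm (Fin n)} [Finite G] {S : Sylow 2 G} {Q M : Subgroup G}

/-- two fixed points, eight moved points (`n = 10`) -/
theorem Rep.dead_two (h : Rep ψ) (c : Cx S Q M) {z : G}
    (hz : z ∈ centralizer ((S : Subgroup G) : Set G)) (hz1 : z ≠ 1) (hz2 : z ^ 2 = 1)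
    (hF : (Finset.univ.filter fun i => ψ z i = i).card = 2) (hs : (ψ z).support.card = 8) : False := by
  classical
  have hn : n = 10 := by have := card_fix_add (ψ z); omega
  obtain ⟨a, b, hab, hf⟩ := Finset.card_eq_two.1 hF
  have hF' : ∀ i, ψ z i = i ↔ i = a ∨ i = b := by
    intro i
    have : i ∈ Finset.univ.filter (fun i => ψ z i = i) ↔ i ∈ ({a, b} : Finset (Fin n)) := by rw [hf]
    simpa using this
  have hza : ψ z a = a := (hF' a).2 (Or.inl rfl)
  have hzb : ψ z b = b := (hF' b).2 (Or.inr rfl)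
  have hζ := Rep.sq ψ hz2
  have hζζ : ∀ l, ψ z (ψ z l) = l := fun l => congrArg (fun f : Perm (Fin n) => f l) hζ
  have hzY := c.center_mem_Y hz hz2
  have hzV := c.Y_le_V hzY
  have hVc := V_le_cent c hzV
  have hVn := (c.cent_le_norm_Q hz hz1).trans c.norm_V
  have hcz' : ∀ y ∈ centralizer ({z} : Set G), ∀ l, ψ y (ψ z l) = ψ z (ψ y l) := fun y hy l =>
    congrArg (fun f : Perm (Fin n) => f l) (h.mem_cent.1 hy)
  have hcz : ∀ y ∈ c.V, ∀ l, ψ y (ψ z l) = ψ z (ψ y l) := fun y hy => hcz' y (hVc hy)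
  have hswap : ∀ y ∈ centralizer ({z} : Set G), ψ y * swap a b = swap a b * ψ y := by
    intro y hy
    have h1 : ψ y a = a ∨ ψ y a = b := by rw [← hF', ← hcz' y hy, hza]
    have h2 : ψ y b = a ∨ ψ y b = b := by rw [← hF', ← hcz' y hy, hzb]
    have h3 : ψ y * swap a b * (ψ y)⁻¹ = swap a b := by
      rw [← Equiv.swap_apply_apply]
      rcases h1 with h1 | h1 <;> rcases h2 with h2 | h2
      · exact absurd ((ψ y).injective (h1.trans h2.symm)) hab
      · rw [h1, h2]
      · rw [h1, h2, swap_comm]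
      · exact absurd ((ψ y).injective (h1.trans h2.symm)) hab
    have h4 := congrArg (· * ψ y) h3
    simpa only [inv_mul_cancel_right] using h4
  -- all elements are even
  have hev : ∀ g : G, sign (ψ g) = 1 := by
    intro g
    rcases Int.units_eq_one_or (sign (ψ g)) with h1 | h1
    · exact h1
    · exfalso
      obtain ⟨g', hg'⟩ := h.ev (ψ g * swap a b) (by rw [map_mul, h1, sign_swap hab]; rfl)
      set t := g⁻¹ * g' with ht
      have htt : ψ t = swap a b := by rw [ht, map_mul, map_inv, hg']; group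
      have htS : t ∈ centralizer ((S : Subgroup G) : Set G) := by
        rw [mem_centralizer_iff]
        intro s hs
        apply h.inj
        rw [map_mul ψ s t, map_mul ψ t s, htt]
        exact hswap s (Cx.S_le_cent hz hs)
      have ht1 : t ≠ 1 := by
        intro h2
        rw [h2, map_one] at htt
        have h3 : (swap a b) a = b := swap_apply_left a b
        rw [← htt] at h3
        exact hab h3
      have h2 : (ψ t).support.card = 2 := by rw [htt]; exact card_support_swap hab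
      have h3 := card_fix_add (ψ t)
      have h4 := h.card_fix (c.chP_cent htS ht1) (by omega)
      omega
  obtain ⟨x, hxY, hx1, hxb⟩ := c.bad
  have hxV := c.Y_le_V hxY
  have hx2 := c.Y_ea.2 x hxY
  have hcard : (ψ x).support.card ≠ (ψ z).support.card := fun h1 =>
    hxb (h.chP_of_card hx2 hz2 hz1 h1 (c.chP_cent hz hz1))
  have hx4 := four_dvd (Rep.sq ψ hx2) (hev x)
  have hx0 : 0 < (ψ x).support.card := by
    obtain ⟨i, hi⟩ := h.ne_one hx1
    exact Finset.card_pos.2 ⟨i, mem_support.2 hi⟩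
  have hxn := card_fix_add (ψ x)
  have hx5 : (ψ x).support.card = 4 := by omega
  obtain ⟨p₀, hp1, hp2⟩ := Finset.exists_mem_notMem_of_card_lt_card (s := (ψ x).support) (t := (ψ z).support) (by omega)
  obtain ⟨q₀, hq1, hq2⟩ := Finset.exists_mem_notMem_of_card_lt_card (s := ({a, b} : Finset (Fin n)))
    (t := (ψ x).support) (by have := Finset.card_le_two (a := a) (b := b); omega)
  rw [mem_support] at hp1 hp2 hq1
  push Not at hp2
  have hq3 : ψ z q₀ ≠ q₀ := by
    intro h1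
    rw [hF'] at h1
    apply hq2
    rw [Finset.mem_insert, Finset.mem_singleton]; exact h1
  have hbase := h.base hz2 c.V_ea hVc hVn hxV hp1 hp2 hq3 hq1
  -- a conjugate `z' ≠ z` of `z` in `Y`
  obtain ⟨z', hz'Y, hz'c, hz'z⟩ : ∃ z' ∈ largestPReducedOf 2 M, (ψ z').support.card = 8 ∧ z' ≠ z := by
    by_contra hcon
    push Not at hcon
    apply c.not_M_le hz hz2 hz1
    intro m hm
    have h1 := hcon _ (conj_mem_Y c hm hzY) (by rw [card_supp_conj]; exact hs)
    rw [mem_centralizer_singleton_iff]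
    calc m * z = (m * z * m⁻¹) * m := by group
      _ = z * m := by rw [h1]
  have hz'V := c.Y_le_V hz'Y
  have hbz := hbase z' hz'V
  obtain ⟨p, hp, hp'⟩ : ∃ p, ψ z p ≠ p ∧ ψ z' p = p := by
    by_contra hcon
    push Not at hcon
    have hsub : (ψ z).support ⊆ (ψ z').support := by
      intro i hi
      rw [mem_support] at hi ⊢
      exact hcon i hi
    have heq := Finset.eq_of_subset_of_card_le hsub (by omega)
    apply hz'z
    apply h.inj
    ext i
    congr 1
    by_cases hi : ψ z i = i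
    · have h1 : i ∉ (ψ z').support := by rw [← heq, mem_support]; exact fun h2 => h2 hi
      rw [mem_support] at h1
      push Not at h1
      rw [h1, hi]
    · rcases mem_bl.1 (hbz i hi) with h1 | h1
      · exact absurd h1 (hcon i hi)
      · exact h1
  have hzp : ψ z' (ψ z p) = ψ z p := by rw [hcz z' hz'V, hp']
  have hFz' : ∀ i, ψ z' i = i → i = p ∨ i = ψ z p := by
    intro i hi
    have h1 : ({p, ψ z p} : Finset (Fin n)) = Finset.univ.filter fun i => ψ z' i = i := by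
      apply Finset.eq_of_subset_of_card_le
      · intro l hl
        simp only [Finset.mem_insert, Finset.mem_singleton] at hl
        rw [Finset.mem_filter]
        refine ⟨Finset.mem_univ _, ?_⟩
        rcases hl with rfl | rfl
        · exact hp'
        · exact hzp
      · have h2 := card_fix_add (ψ z')
        rw [Finset.card_pair (Ne.symm hp)]
        omega
    have h2 : i ∈ ({p, ψ z p} : Finset (Fin n)) := by rw [h1, Finset.mem_filter]; exact ⟨Finset.mem_univ _, hi⟩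
    simpa only [Finset.mem_insert, Finset.mem_singleton] using h2
  have hap : a ≠ p := by rintro rfl; exact hp hza
  have hbp : b ≠ p := by rintro rfl; exact hp hzb
  have hazp : a ≠ ψ z p := by
    intro h1
    apply hap
    rw [h1, hζζ] at hza
    rw [h1, ← hza]
  have hbzp : b ≠ ψ z p := by
    intro h1
    apply hbp
    rw [h1, hζζ] at hzb
    rw [h1, ← hzb]
  -- the permutation `ϖ`
  set ϖ : Perm (Fin n) := ψ z * swap p (ψ z p) with hϖd
  have w1 : ϖ p = p := by rw [hϖd, Perm.mul_apply, swap_apply_left, hζζ]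
  have w2 : ϖ (ψ z p) = ψ z p := by rw [hϖd, Perm.mul_apply, swap_apply_right]
  have w3 : ∀ i, i ≠ p → i ≠ ψ z p → ϖ i = ψ z i := by
    intro i h1 h2
    rw [hϖd, Perm.mul_apply, swap_apply_of_ne_of_ne h1 h2]
  have w4 : ϖ a = a := by rw [w3 a hap hazp, hza]
  have w5 : ϖ b = b := by rw [w3 b hbp hbzp, hzb]
  have hϖ : ϖ * ϖ = 1 := by
    have h1 : ψ z * swap p (ψ z p) * (ψ z)⁻¹ = swap p (ψ z p) := by
      rw [← Equiv.swap_apply_apply, hζζ, swap_comm]
    have h2 : ψ z * swap p (ψ z p) = swap p (ψ z p) * ψ z := by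
      have h3 := congrArg (· * ψ z) h1
      simpa only [inv_mul_cancel_right] using h3
    calc ϖ * ϖ = (ψ z * swap p (ψ z p)) * (swap p (ψ z p) * ψ z) := by rw [← h2]
      _ = ψ z * (swap p (ψ z p) * swap p (ψ z p)) * ψ z := by group
      _ = 1 := by rw [swap_mul_self, mul_one, hζ]
  have hFix : ∀ i, ϖ i = i ↔ i = p ∨ i = ψ z p ∨ i = a ∨ i = b := by
    intro i
    constructor
    · intro h1
      by_cases h2 : i = p
      · exact Or.inl h2
      by_cases h3 : i = ψ z p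
      · exact Or.inr (Or.inl h3)
      rw [w3 i h2 h3, hF'] at h1
      exact Or.inr (Or.inr h1)
    · rintro (rfl | rfl | rfl | rfl) <;> assumption
  have hFc : (Finset.univ.filter fun i => ϖ i = i).card = 4 := by
    have h1 : (Finset.univ.filter fun i => ϖ i = i) = ({p, ψ z p, a, b} : Finset (Fin n)) := by
      ext i
      rw [Finset.mem_filter, hFix]
      simp
    rw [h1, Finset.card_insert_of_notMem, Finset.card_insert_of_notMem, Finset.card_insert_of_notMem,
      Finset.card_singleton]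
    · rw [Finset.mem_singleton]; exact hab
    · simp only [Finset.mem_insert, Finset.mem_singleton, not_or]
      exact ⟨Ne.symm hazp, Ne.symm hbzp⟩
    · simp only [Finset.mem_insert, Finset.mem_singleton, not_or]
      exact ⟨Ne.symm hp, Ne.symm hap, Ne.symm hbp⟩
  have hXc : 5 ≤ (Finset.univ.filter fun i => ϖ i ≠ i).card := by
    have h1 := card_fix_add ϖ
    rw [hFc] at h1
    have h2 : (Finset.univ.filter fun i => ϖ i ≠ i) = ϖ.support := by
      ext i; rw [Finset.mem_filter, mem_support]; simp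
    rw [h2]
    omega
  have hchL := h.chP_LL hϖ hFc hXc
  have hTL : pCoreOf 2 M ≤ LL ψ ϖ := by
    intro t ht
    have h1 := pCoreOf_le_centralizer_largest 2 M ht
    have hc1 : t ∈ centralizer ({z} : Set G) := by
      rw [mem_centralizer_singleton_iff]; exact ((mem_centralizer_iff.1 h1) z hzY).symm
    have hc2 : t ∈ centralizer ({z'} : Set G) := by
      rw [mem_centralizer_singleton_iff]; exact ((mem_centralizer_iff.1 h1) z' hz'Y).symm
    have hc2' : ∀ l, ψ t (ψ z' l) = ψ z' (ψ t l) := fun l =>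
      congrArg (fun f : Perm (Fin n) => f l) (h.mem_cent.1 hc2)
    rw [mem_LL]
    have h2 : ψ t p = p ∨ ψ t p = ψ z p := hFz' _ (by rw [← hc2', hp'])
    have h3 : ψ t * swap p (ψ z p) * (ψ t)⁻¹ = swap p (ψ z p) := by
      rw [← Equiv.swap_apply_apply, hcz' t hc1]
      rcases h2 with h2 | h2
      · rw [h2]
      · rw [h2, hζζ, swap_comm]
    have h4 : ψ t * swap p (ψ z p) = swap p (ψ z p) * ψ t := by
      have h5 := congrArg (· * ψ t) h3
      simpa only [inv_mul_cancel_right] using h5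
    rw [hϖd, ← mul_assoc, h.mem_cent.1 hc1, mul_assoc, h4, ← mul_assoc]
  have hzL := c.short (LL ψ ϖ) hTL hchL hzY
  -- the 3-cycle
  have hc3 : ϖ * cyc p (ψ z p) a * ϖ⁻¹ = cyc p (ψ z p) a := by rw [conj_cyc, w1, w2, w4]
  have hsg := sign_cyc (i := p) (j := ψ z p) (e := a) (Ne.symm hp) (Ne.symm hazp)
  obtain ⟨g, hg⟩ := h.ev _ hsg
  have hgL : g ∈ LL ψ ϖ := by
    rw [mem_LL, hg]
    have h4 := congrArg (· * ϖ) hc3
    simp only [inv_mul_cancel_right] at h4
    exact h4.symm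
  have h1 : ⁅z, g⁆ ∈ pCoreOf 2 (LL ψ ϖ) := by
    have h2 := le_norm_iff.1 (le_norm_pCoreOf 2 (LL ψ ϖ)) g hgL z⁻¹ (inv_mem hzL)
    have e : ⁅z, g⁆ = z * (g * z⁻¹ * g⁻¹) := by rw [commutatorElement_def]; group
    rw [e]; exact mul_mem hzL h2
  obtain ⟨k, hk⟩ := (isPGroup_pCoreOf 2 (LL ψ ϖ)) ⟨_, h1⟩
  have hk' : ⁅ψ z, cyc p (ψ z p) a⁆ ^ 2 ^ k = 1 := by
    have h3 : ⁅z, g⁆ ^ 2 ^ k = 1 := congrArg Subtype.val hk
    rw [← hg, ← map_commutatorElement, ← map_pow, h3, map_one]
  exact comm_fix (X := Fin n) (u := ψ z) (cyc_1 (Ne.symm hp) (Ne.symm hap) (Ne.symm hazp))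
    (cyc_2 (Ne.symm hp) (Ne.symm hap) (Ne.symm hazp)) (cyc_3 (Ne.symm hp) (Ne.symm hap) (Ne.symm hazp)) rfl
    (hζζ p) hza (Ne.symm hap) hk'

/-- **no counterexample between `A_n` and `S_n`**, `n ≥ 7`, `n ≠ 8` -/
theorem Rep.dead (h : Rep ψ) (c : Cx S Q M) (hn : 7 ≤ n) (hn8 : n ≠ 8) : False := by
  classical
  set N₀ : Subgroup G := ((sign : Perm (Fin n) →* ℤˣ).comp ψ).ker with hN₀
  have memN : ∀ g, g ∈ N₀ ↔ sign (ψ g) = 1 := fun g => by rw [hN₀, MonoidHom.mem_ker]; rfl
  let i0 : Fin n := ⟨0, by omega⟩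
  let i1 : Fin n := ⟨1, by omega⟩
  let i2 : Fin n := ⟨2, by omega⟩
  let i3 : Fin n := ⟨3, by omega⟩
  have n01 : i0 ≠ i1 := by simp [i0, i1]
  have n02 : i0 ≠ i2 := by simp [i0, i2]
  have n03 : i0 ≠ i3 := by simp [i0, i3]
  have n12 : i1 ≠ i2 := by simp [i1, i2]
  have n13 : i1 ≠ i3 := by simp [i1, i3]
  have n23 : i2 ≠ i3 := by simp [i2, i3]
  have hsg : sign (swap i0 i1 * swap i2 i3) = 1 := by
    rw [map_mul, sign_swap n01, sign_swap n23]; rfl
  obtain ⟨w, hw⟩ := h.ev _ hsg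
  have hwN : w ∈ N₀ := by rw [memN, hw]; exact hsg
  have hw1 : w ≠ 1 := by
    rintro rfl
    rw [map_one] at hw
    have h1 : (swap i0 i1 * swap i2 i3) i0 = i1 := by
      rw [Perm.mul_apply, swap_apply_of_ne_of_ne n02 n03, swap_apply_left]
    rw [← hw] at h1
    exact n01 h1
  have hw2 : w ^ 2 = 1 := by
    apply h.inj
    rw [map_pow, hw, map_one, pow_two]
    have hd := swap_disj n02 n03 n12 n13
    calc swap i0 i1 * swap i2 i3 * (swap i0 i1 * swap i2 i3)
        = swap i0 i1 * (swap i2 i3 * swap i0 i1) * swap i2 i3 := by group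
      _ = swap i0 i1 * (swap i0 i1 * swap i2 i3) * swap i2 i3 := by rw [hd.commute.eq]
      _ = (swap i0 i1 * swap i0 i1) * (swap i2 i3 * swap i2 i3) := by group
      _ = 1 := by rw [swap_mul_self, swap_mul_self, one_mul]
  obtain ⟨z, hzN, hz, hz1, hz2⟩ := Cx.exists_central_mem S hwN hw1 hw2
  rw [memN] at hzN
  have h4 := four_dvd (Rep.sq ψ hz2) hzN
  have h5 := card_fix_add (ψ z)
  have h0 : 0 < (ψ z).support.card := by
    obtain ⟨i, hi⟩ := h.ne_one hz1
    exact Finset.card_pos.2 ⟨i, mem_support.2 hi⟩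
  have hX : (Finset.univ.filter fun i => ψ z i ≠ i) = (ψ z).support := by
    ext i; rw [Finset.mem_filter, mem_support]; simp
  by_cases h3 : 3 ≤ (Finset.univ.filter fun i => ψ z i = i).card
  · have h6 := h.card_fix (c.chP_cent hz hz1) h3
    obtain ⟨t, ht, ht1, ht2, ht3⟩ := h.exists_sub S hz (by omega)
    have h7 : (ψ t).support ⊆ Finset.univ.filter fun i => ψ z i = i := by
      intro i hi
      rw [mem_support] at hi
      rw [Finset.mem_filter]
      refine ⟨Finset.mem_univ _, ?_⟩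
      by_contra h8
      exact hi (ht3 i h8)
    have h8 := Finset.card_le_card h7
    have h9 := card_fix_add (ψ t)
    have h10 := h.card_fix (c.chP_cent ht ht1) (by omega)
    omega
  · by_cases h6 : 10 ≤ (ψ z).support.card
    · exact h.dead_of_large c hz hz1 hz2 (by omega) (by rw [hX]; exact h6)
    · by_cases h7 : n = 9
      · exact h.dead_one c hz hz1 hz2 (by omega)
      · exact h.dead_two c hz hz1 hz2 (by omega) (by omega)

/-- the representation of `G` on `n` points -/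
theorem exists_rep {G : Type*} [Group G] (K : Subgroup G) [K.Normal]
    (hCK : Subgroup.centralizer (K : Set G) = ⊥) {n : ℕ} (hn : 4 ≤ n) (h6 : n ≠ 6)
    (e : K ≃* alternatingGroup (Fin n)) : ∃ ψ : G →* Perm (Fin n), Rep ψ := by
  set a : Perm (Fin n) ≃* MulAut (alternatingGroup (Fin n)) :=
    MulEquiv.ofBijective MulAut.conjNormal (Cfsg.Agent.S2119.result n hn h6) with ha
  set ψ : G →* Perm (Fin n) :=
    (a.symm.toMonoidHom.comp (MulAut.congr e).toMonoidHom).comp (MulAut.conjNormal : G →* MulAut K) with hψ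
  have h1 : ∀ (g : G), a (ψ g) = MulAut.congr e (MulAut.conjNormal g) := fun g => a.apply_symm_apply _
  refine ⟨ψ, ?_, ?_⟩
  · rw [injective_iff_map_eq_one]
    intro g hg
    have h3 := h1 g
    rw [hg, map_one] at h3
    have h4 : (MulAut.conjNormal g : MulAut K) = 1 := (MulAut.congr e).injective (by rw [← h3, map_one])
    have h5 : g ∈ Subgroup.centralizer (K : Set G) := by
      rw [Subgroup.mem_centralizer_iff]
      intro k hk
      have h6 := MulAut.conjNormal_apply (H := K) g ⟨k, hk⟩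
      rw [h4, MulAut.one_apply] at h6
      change k = g * k * g⁻¹ at h6
      nth_rewrite 1 [h6]
      rw [inv_mul_cancel_right]
    rw [hCK, Subgroup.mem_bot] at h5
    exact h5
  · intro σ hσ
    refine ⟨e.symm ⟨σ, Perm.mem_alternatingGroup.2 hσ⟩, ?_⟩
    apply a.injective
    rw [h1]
    apply MulEquiv.ext
    intro x
    rw [MulAut.conjNormal_val]
    apply Subtype.ext
    have h3 : (MulAut.congr e) (MulAut.conj (e.symm ⟨σ, Perm.mem_alternatingGroup.2 hσ⟩)) x =
      e (MulAut.conj (e.symm ⟨σ, Perm.mem_alternatingGroup.2 hσ⟩) (e.symm x)) := rfl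
    rw [h3, MulAut.conj_apply, map_mul, map_mul, map_inv, e.apply_symm_apply, e.apply_symm_apply]
    exact (MulAut.conjNormal_apply (H := alternatingGroup (Fin n)) σ x).symm

/-- **the alternating row of S2927** -/
theorem dead_alt : DeadL.{u} (fun K _ => ∃ n : ℕ, 7 ≤ n ∧ n ≠ 8 ∧ Nonempty (K ≃* alternatingGroup (Fin n))) := by
  rintro G _ _ S Q M c K hK _ _ hC ⟨n, hn, h8, ⟨e⟩⟩
  obtain ⟨ψ, hψ⟩ := exists_rep K hC (by omega) (by omega) e
  exact hψ.dead c hn h8

end Cfsg.Agent.H282.LT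
end

-- part: H348/Tall/MEl
section
set_option linter.all false
open scoped Cfsg.Agent.FastGrp

/-!
# S2927 (team TALL, helper348): `Both K` for `K = M₁₁`
-/

set_option autoImplicit false

namespace Cfsg.Agent.H348.Tall.MEl

open Subgroup Cfsg Cfsg.Agent.H226.Tall Cfsg.Agent.H348.Tall Cfsg.Agent.H180.KM11 Cfsg.Agent.Cit.Eleven

/-- check -/
def chk (g : ZMod 3 × ZMod 3 × ZMod 3 × ZMod 3) : Bool :=
  !(decide (mm g g = (1, 0, 0, 1))) || decide (g = (1, 0, 0, 1)) || decide (g = (-1, 0, 0, -1)) ||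
    !(decide (mm g (mm (mm (1, 1, 0, 1) g) (1, -1, 0, 1)) = mm (mm (mm (1, 1, 0, 1) g) (1, -1, 0, 1)) g)) ||
    !(decide (mm g (mm (mm (1, 0, 1, 1) g) (1, 0, -1, 1)) = mm (mm (mm (1, 0, 1, 1) g) (1, 0, -1, 1)) g))

theorem chk_all : ∀ g, chk g = true := by decide +kernel

/-- a noncentral involution of `GL(2,3)` does not commute with all its conjugates -/
theorem nc_gl (g : ZMod 3 × ZMod 3 × ZMod 3 × ZMod 3) (h1 : mm g g = (1, 0, 0, 1)) (h2 : g ≠ (1, 0, 0, 1))
    (h3 : g ≠ (-1, 0, 0, -1)) :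
    mm g (mm (mm (1, 1, 0, 1) g) (1, -1, 0, 1)) ≠ mm (mm (mm (1, 1, 0, 1) g) (1, -1, 0, 1)) g ∨
    mm g (mm (mm (1, 0, 1, 1) g) (1, 0, -1, 1)) ≠ mm (mm (mm (1, 0, 1, 1) g) (1, 0, -1, 1)) g := by
  have h := chk_all g
  simp only [chk, Bool.or_eq_true, Bool.not_eq_true', decide_eq_true_eq, decide_eq_false_iff_not] at h
  tauto

theorem co_one : co (1 : X) = (1, 0, 0, 1) := by decide
theorem co_gu : co gu = (1, 1, 0, 1) := rfl
theorem co_gl : co gl = (1, 0, 1, 1) := rfl
theorem co_gui : co gu⁻¹ = (1, -1, 0, 1) := rfl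
theorem co_gli : co gl⁻¹ = (1, 0, -1, 1) := rfl

theorem gu_cube : gu ^ 3 = 1 := by
  apply co_injective
  rw [pow_succ, pow_two, co_mul, co_mul, co_gu, co_one]
  decide

theorem gu_ne : gu ≠ 1 := by
  intro h
  have := congrArg co h
  rw [co_gu, co_one] at this
  revert this
  decide

/-- **`M₁₁`** -/
theorem bothS_m11 {K : Type*} [Group K] (h : Cfsg.Spor.IsoM11 K) : BothS K := by
  have := Cfsg.Agent.Cit.Eleven.finite h
  constructor
  · intro z hz W hW hzW hn w hw _
    by_contra hne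
    have hzz : z * z = 1 := hW z hzW
    have hz1 : z ≠ 1 := by
      rintro rfl
      have := hz.1
      rw [orderOf_one] at this
      omega
    obtain ⟨e, he⟩ := exists_equiv h hz.1
    have hcomm : ∀ a ∈ W, ∀ b ∈ W, a * b = b * a := by
      intro a ha b hb
      have h1 := hW _ (mul_mem ha hb)
      have h2 := hW a ha
      have h3 := hW b hb
      have e1 : (a * b)⁻¹ = a * b := inv_eq_of_mul_eq_one_left h1
      have e2 : a⁻¹ = a := inv_eq_of_mul_eq_one_left h2
      have e3 : b⁻¹ = b := inv_eq_of_mul_eq_one_left h3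
      rw [← e1, mul_inv_rev, e2, e3]
    have hwC : w ∈ centralizer ({z} : Set K) := mem_centralizer_singleton_iff.2 (hcomm w hw z hzW)
    by_cases hw1 : w = 1
    · subst hw1
      rename_i hα
      obtain ⟨α, hα⟩ := hα
      exact hz1 (α.injective (by rw [hα, map_one]))
    have hg1 : mm (co (e ⟨w, hwC⟩)) (co (e ⟨w, hwC⟩)) = (1, 0, 0, 1) := by
      rw [← co_mul, ← map_mul, ← co_one, ← map_one e]
      exact congrArg (fun x => co (e x)) (Subtype.ext (hW w hw))
    have hg2 : co (e ⟨w, hwC⟩) ≠ (1, 0, 0, 1) := by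
      intro h1
      rw [← co_one, ← map_one e] at h1
      exact hw1 (congrArg Subtype.val (e.injective (co_injective h1)))
    have hg3 : co (e ⟨w, hwC⟩) ≠ (-1, 0, 0, -1) := by
      intro h1
      rw [← co_neg_one, ← he] at h1
      exact hne (congrArg Subtype.val (e.injective (co_injective h1)))
    have key : ∀ c : X, e ⟨w, hwC⟩ * (c * e ⟨w, hwC⟩ * c⁻¹) = c * e ⟨w, hwC⟩ * c⁻¹ * e ⟨w, hwC⟩ := by
      intro c
      obtain ⟨d, rfl⟩ := e.surjective c
      rw [← map_inv, ← map_mul, ← map_mul, ← map_mul, ← map_mul]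
      congr 1
      apply Subtype.ext
      show w * ((d : K) * w * (d : K)⁻¹) = (d : K) * w * (d : K)⁻¹ * w
      exact hcomm _ hw _ ((mem_normalizer_iff.1 (hn d.2) w).1 hw)
    rcases nc_gl _ hg1 hg2 hg3 with h4 | h4
    · apply h4
      have := congrArg co (key gu)
      simp only [co_mul, co_gu, co_gui] at this
      exact this
    · apply h4
      have := congrArg co (key gl)
      simp only [co_mul, co_gl, co_gli] at this
      exact this
  · intro z hz hp
    obtain ⟨e, he⟩ := exists_equiv h hz.1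
    obtain ⟨k, hk⟩ := hp (e.symm gu)
    have h1 : gu ^ 2 ^ k = 1 := by
      rw [← map_pow, ← map_one e.symm] at hk
      exact e.symm.injective hk
    have h3 : orderOf gu ∣ 2 ^ k := orderOf_dvd_of_pow_eq_one h1
    have h4 : orderOf gu = 3 := by
      have : Fact (Nat.Prime 3) := ⟨Nat.prime_three⟩
      exact orderOf_eq_prime gu_cube gu_ne
    rw [h4] at h3
    have h5 : 3 ∣ 2 := Nat.Prime.dvd_of_dvd_pow Nat.prime_three h3
    omega

theorem both_m11 {K : Type*} [Group K] (h : Cfsg.Spor.IsoM11 K) : Both K := (bothS_m11 h).both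

end Cfsg.Agent.H348.Tall.MEl

private theorem dce_114b198cce3e : _root_.True := by
  try have : _root_.True := by simp only [_root_.Cfsg.Agent.H348.Tall.MEl.chk.eq_1]
  exact _root_.True.intro
end

-- part: H395/TallRow/MTwFour
section
prune_inst 0x424306404082200000018001220000060120001020043000131a005020846906129062600f8e00f12110088e4400a806001100019421000002a008a00411c01a0042172e6837cb90023000040f807180c00000000000000000000000000041000000000000
set_option linter.all false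
open scoped Cfsg.Agent.FastGrp

/-!
# `M₁₂`: outer automorphisms fix no element of order 4 up to conjugation (helper395)

`four_ne` : `m * bt t * m⁻¹ ≠ t` for `t ∈ M₁₂` of order 4 (`bt` the outer automorphism induced by the element of `M₂₄`
interchanging the two dodecads): the numbers of fixed points of `t` on the two dodecads are different.
-/

set_option autoImplicit false

namespace Cfsg.Agent.H395.TallRow

open Cfsg Cfsg.Agent.MTwelveType.SylowModel Cfsg.Agent.H419.Spor.M12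
open scoped Pointwise

local notation "DD" => Spor.squareDodecad

/-- fixed points on the dodecad -/
def cD (g : Equiv.Perm GolayPt) : ℕ := (Finset.univ.filter fun p : GolayPt => p ∈ DD ∧ g p = p).card

/-- fixed points on the complement -/
def cC (g : Equiv.Perm GolayPt) : ℕ := (Finset.univ.filter fun p : GolayPt => p ∉ DD ∧ g p = p).card

set_option maxRecDepth 100000 in
theorem check : ∀ i j : ZMod (2 * 2), ∀ e d : Bool,
    (∀ p : GolayPt, (A ^ i.val * B ^ j.val * (bp C e * bp D d)).1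
      ((A ^ i.val * B ^ j.val * (bp C e * bp D d)).1 p) = p) ∨
    ¬ (∀ p : GolayPt, (A ^ i.val * B ^ j.val * (bp C e * bp D d)).1 ((A ^ i.val * B ^ j.val * (bp C e * bp D d)).1
      ((A ^ i.val * B ^ j.val * (bp C e * bp D d)).1 ((A ^ i.val * B ^ j.val * (bp C e * bp D d)).1 p))) = p) ∨
    cD (A ^ i.val * B ^ j.val * (bp C e * bp D d)).1 ≠ cC (A ^ i.val * B ^ j.val * (bp C e * bp D d)).1 := by
  decide +kernel

theorem cD_conj (m : Spor.M12) (g : Equiv.Perm GolayPt) :
    cD ((m : Equiv.Perm GolayPt) * g * (m : Equiv.Perm GolayPt)⁻¹) = cD g := by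
  unfold cD
  symm
  refine Finset.card_bij (fun p _ => (m : Equiv.Perm GolayPt) p) ?_ ?_ ?_
  · intro p hp
    rw [Finset.mem_filter] at hp ⊢
    refine ⟨Finset.mem_univ _, (mem_iff (smul_eq m) p).2 hp.2.1, ?_⟩
    show (m : Equiv.Perm GolayPt) (g ((m : Equiv.Perm GolayPt).symm ((m : Equiv.Perm GolayPt) p))) = _
    rw [Equiv.symm_apply_apply, hp.2.2]
  · intro p _ q _ h
    exact (m : Equiv.Perm GolayPt).injective h
  · intro p hp
    rw [Finset.mem_filter] at hp
    refine ⟨(m : Equiv.Perm GolayPt).symm p, ?_, Equiv.apply_symm_apply _ _⟩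
    rw [Finset.mem_filter]
    refine ⟨Finset.mem_univ _, ?_, ?_⟩
    · rw [← mem_iff (smul_eq m), Equiv.apply_symm_apply]
      exact hp.2.1
    · apply (m : Equiv.Perm GolayPt).injective
      rw [Equiv.apply_symm_apply]
      exact hp.2.2

theorem cC_conj (m : Spor.M12) (g : Equiv.Perm GolayPt) :
    cC ((m : Equiv.Perm GolayPt) * g * (m : Equiv.Perm GolayPt)⁻¹) = cC g := by
  unfold cC
  symm
  refine Finset.card_bij (fun p _ => (m : Equiv.Perm GolayPt) p) ?_ ?_ ?_
  · intro p hp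
    rw [Finset.mem_filter] at hp ⊢
    refine ⟨Finset.mem_univ _, fun h => hp.2.1 ((mem_iff (smul_eq m) p).1 h), ?_⟩
    show (m : Equiv.Perm GolayPt) (g ((m : Equiv.Perm GolayPt).symm ((m : Equiv.Perm GolayPt) p))) = _
    rw [Equiv.symm_apply_apply, hp.2.2]
  · intro p _ q _ h
    exact (m : Equiv.Perm GolayPt).injective h
  · intro p hp
    rw [Finset.mem_filter] at hp
    refine ⟨(m : Equiv.Perm GolayPt).symm p, ?_, Equiv.apply_symm_apply _ _⟩
    rw [Finset.mem_filter]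
    refine ⟨Finset.mem_univ _, ?_, ?_⟩
    · rw [← mem_iff (smul_eq m), Equiv.apply_symm_apply]
      exact hp.2.1
    · apply (m : Equiv.Perm GolayPt).injective
      rw [Equiv.apply_symm_apply]
      exact hp.2.2

theorem inv_projInv : projInv⁻¹ = projInv := by
  apply Equiv.ext
  decide +kernel

theorem proj_mem : ∀ p : GolayPt, projInv p ∈ DD ↔ p ∉ DD := by decide +kernel

theorem projInv_projInv (p : GolayPt) : projInv (projInv p) = p := by
  have h := congrArg (fun g : Equiv.Perm GolayPt => g p) (show projInv * projInv⁻¹ = 1 by group)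
  rw [inv_projInv] at h
  exact h

theorem cD_bt (t : Spor.M12) : cD ((bt t : Spor.M12) : Equiv.Perm GolayPt) = cC (t : Equiv.Perm GolayPt) := by
  have e : ∀ p, ((bt t : Spor.M12) : Equiv.Perm GolayPt) p = projInv ((t : Equiv.Perm GolayPt) (projInv p)) := by
    intro p
    show (projInv * t * projInv⁻¹ : Equiv.Perm GolayPt) p = _
    rw [inv_projInv]
    rfl
  unfold cD cC
  symm
  refine Finset.card_bij (fun p _ => projInv p) ?_ ?_ ?_
  · intro p hp
    rw [Finset.mem_filter] at hp ⊢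
    refine ⟨Finset.mem_univ _, (proj_mem p).2 hp.2.1, ?_⟩
    rw [e, projInv_projInv, hp.2.2]
  · intro p _ q _ h
    exact projInv.injective h
  · intro p hp
    rw [Finset.mem_filter] at hp
    refine ⟨projInv p, ?_, projInv_projInv p⟩
    rw [Finset.mem_filter]
    refine ⟨Finset.mem_univ _, fun h => (proj_mem p).1 h hp.2.1, ?_⟩
    have h2 := hp.2.2
    rw [e] at h2
    have h3 := congrArg projInv h2
    rwa [projInv_projInv] at h3

/-- every element of order 4 has different numbers of fixed points on the two dodecads -/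
theorem cD_ne {t : Spor.M12} (h2 : t * t ≠ 1) (h4 : t * t * (t * t) = 1) :
    cD (t : Equiv.Perm GolayPt) ≠ cC (t : Equiv.Perm GolayPt) := by
  have hfin : Finite Spor.M12 := Nat.finite_of_card_ne_zero (by rw [card_M12]; norm_num)
  have ht : t ^ 2 ^ 2 = 1 := by
    rw [show (2 : ℕ) ^ 2 = 4 by norm_num, pow_succ, pow_succ, pow_succ, pow_one]
    rw [← h4]; group
  have hP : IsPGroup 2 (Subgroup.zpowers t) := by
    rintro ⟨x, k, rfl⟩
    refine ⟨2, Subtype.ext ?_⟩
    show (t ^ k) ^ 2 ^ 2 = 1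
    rw [← zpow_natCast, ← zpow_mul, mul_comm, zpow_mul, zpow_natCast, ht, one_zpow]
  obtain ⟨P, hP'⟩ := hP.exists_le_sylow
  have h1 : IsPGroup 2 hom.range := IsPGroup.of_card (n := 6) (by rw [card_range_hom]; norm_num)
  obtain ⟨P', hQ⟩ := h1.exists_le_sylow
  have hQ2 : hom.range = (P' : Subgroup Spor.M12) := by
    apply Subgroup.eq_of_le_of_card_ge hQ
    rw [card_range_hom]
    exact (card_sylow P').le
  obtain ⟨g, hg⟩ := MulAction.exists_smul_eq Spor.M12 P P'
  have h3 : g * t * g⁻¹ ∈ hom.range := by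
    rw [hQ2, ← hg]
    rw [Sylow.coe_subgroup_smul]
    exact Subgroup.smul_mem_pointwise_smul t (MulAut.conj g) _ (hP' (Subgroup.mem_zpowers t))
  obtain ⟨x, hx⟩ := h3
  have h5 : cD ((g * t * g⁻¹ : Spor.M12) : Equiv.Perm GolayPt) = cD (t : Equiv.Perm GolayPt) := cD_conj g _
  have h6 : cC ((g * t * g⁻¹ : Spor.M12) : Equiv.Perm GolayPt) = cC (t : Equiv.Perm GolayPt) := cC_conj g _
  rw [← h5, ← h6, ← hx]
  have h7 : hom x * hom x ≠ 1 := by
    rw [hx]
    intro h
    apply h2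
    have h8 : g * (t * t) * g⁻¹ = 1 := by rw [← h]; group
    rw [mul_inv_eq_one] at h8
    exact mul_eq_left.1 h8
  have h8 : hom x * hom x * (hom x * hom x) = 1 := by
    rw [hx]
    calc g * t * g⁻¹ * (g * t * g⁻¹) * (g * t * g⁻¹ * (g * t * g⁻¹)) = g * (t * t * (t * t)) * g⁻¹ := by group
      _ = 1 := by rw [h4]; group
  rcases x with ⟨i, j, e, d⟩
  rw [hom_apply] at h7 h8 ⊢
  rcases check i j e d with h | h | h
  · exact absurd (ext_M12 h) h7
  · exfalso
    apply h
    intro p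
    exact congrArg (fun y : Spor.M12 => y.1 p) h8
  · exact h

/-- **Outer automorphisms of `M₁₂` fix no element of order 4.** -/
theorem four_ne {t : Spor.M12} (h2 : t * t ≠ 1) (h4 : t * t * (t * t) = 1) (m : Spor.M12) :
    m * bt t * m⁻¹ ≠ t := by
  intro h
  apply cD_ne h2 h4
  calc cD (t : Equiv.Perm GolayPt) = cD ((m * bt t * m⁻¹ : Spor.M12) : Equiv.Perm GolayPt) := by rw [h]
    _ = cD ((bt t : Spor.M12) : Equiv.Perm GolayPt) := cD_conj m _
    _ = cC (t : Equiv.Perm GolayPt) := cD_bt t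

/-- an automorphism fixing an element of order 4 is inner -/
theorem inner_of_four {K : Type*} [Group K] (e : K ≃* Spor.M12) (α : MulAut K) {t : K} (h2 : t * t ≠ 1)
    (h4 : t * t * (t * t) = 1) (h : α t = t) : ∃ k : K, ∀ x, α x = k * x * k⁻¹ := by
  rcases mem_or (MulAut.congr e α) with ⟨m, hm⟩ | ⟨m, hm⟩
  · refine ⟨e.symm m, fun x => e.injective ?_⟩
    have h1 := DFunLike.congr_fun hm (e x)
    have h3 : (MulAut.congr e α) (e x) = e (α x) := by
      change e (α (e.symm (e x))) = _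
      rw [e.symm_apply_apply]
    rw [h3] at h1
    rw [h1, map_mul, map_mul, map_inv, e.apply_symm_apply]
    rfl
  · exfalso
    have h1 := DFunLike.congr_fun hm (e t)
    have h3 : (MulAut.congr e α) (e t) = e (α t) := by
      change e (α (e.symm (e t))) = _
      rw [e.symm_apply_apply]
    rw [h3, h] at h1
    refine four_ne (t := e t) (fun h5 => h2 ?_) ?_ m h1.symm
    · apply e.injective
      rw [map_mul, h5, map_one]
    · rw [← map_mul, ← map_mul, h4, map_one]

end Cfsg.Agent.H395.TallRow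
end

-- part: H395/TallRow/MTwelve
section
prune_inst 0x404306404082200000018001220000060120001020043000111e005020806906109022600f8f00f12110080e4400a006001100019421000002a000200411c01a0002072c4937cbd0033000040f807180c00000000000000000000000000041000000000000
set_option linter.all false
open scoped Cfsg.Agent.FastGrp

/-!
# S2927: `M₁₂` (helper395)

`no1_m12`, `rowTwo_m12`.
-/

set_option autoImplicit false

namespace Cfsg.Agent.H395.TallRow

open Subgroup Cfsg Cfsg.Agent.H226.Tall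
open Cfsg.Agent.H239.CharPLocal (CP cp_centralizer_conj)
open Cfsg.Agent.CoThreeStd.M12 (G12)
open scoped Pointwise

universe u

theorem card_g12 : Nat.card G12 = 95040 := by
  rw [← Nat.card_congr CoThreeStd.M12.equiv.toEquiv]
  exact MTwelveType.SylowModel.card_M12

/-- a model in which the given 2-central involution is the standard one -/
theorem exists_equiv {K : Type*} [Group K] [Finite K] (e : K ≃* G12) {z : K} (hz1 : z ≠ 1) (hzz : z * z = 1)
    (hP : ∃ P : Sylow 2 K, ∀ p ∈ P, p * z = z * p) :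
    ∃ f : K ≃* G12, f z = Omega.Quasithin.M12.z := by
  obtain ⟨P, hP⟩ := hP
  obtain ⟨g, hg⟩ := Md.conj_z (t := e z) (by rw [← map_mul, hzz, map_one]) (fun h => hz1 (by
    apply e.injective
    rw [h, map_one])) ⟨P.mapSurjective (f := e.toMonoidHom) e.surjective, by
      rintro _ ⟨p, hp, rfl⟩
      show e p * e z = e z * e p
      rw [← map_mul, hP p hp, map_mul]⟩
  exact ⟨e.trans (MulAut.conj g), hg⟩

/-- a power of order 4 -/
theorem exists_four {G : Type*} [Group G] {t : G} {n : ℕ} (hn : t ^ 2 ^ n = 1) (h2 : t * t ≠ 1) :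
    ∃ j : ℕ, t ^ j * t ^ j ≠ 1 ∧ t ^ j * t ^ j * (t ^ j * t ^ j) = 1 := by
  obtain ⟨k, -, hk⟩ := (Nat.dvd_prime_pow Nat.prime_two).1 (orderOf_dvd_of_pow_eq_one hn)
  have hk2 : 2 ≤ k := by
    by_contra h
    apply h2
    rw [← pow_two, ← orderOf_dvd_iff_pow_eq_one, hk]
    interval_cases k
    · simp
    · simp
  obtain ⟨i, rfl⟩ : ∃ i, k = i + 2 := ⟨k - 2, by omega⟩
  refine ⟨2 ^ i, ?_, ?_⟩
  · rw [← pow_add, ← two_mul, ← pow_succ', Ne, ← orderOf_dvd_iff_pow_eq_one, hk,
      Nat.pow_dvd_pow_iff_le_right (le_refl 2)]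
    omega
  · rw [← pow_add, ← two_mul, ← pow_succ', ← pow_add, ← two_mul, ← pow_succ', ← orderOf_dvd_iff_pow_eq_one, hk]

/-- an element inducing an inner automorphism on `K` is in `K` -/
theorem mem_of_inner {G : Type*} [Group G] {K : Subgroup G} (hC : centralizer (K : Set G) = ⊥) {g : G} {k : G}
    (hk : k ∈ K) (h : ∀ y ∈ K, g * y * g⁻¹ = k * y * k⁻¹) : g ∈ K := by
  have h1 : k⁻¹ * g ∈ centralizer (K : Set G) := by
    rw [mem_centralizer_iff]
    intro y hy
    have h2 := h y hy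
    have h3 : k⁻¹ * (g * y * g⁻¹) * g = k⁻¹ * (k * y * k⁻¹) * g := by rw [h2]
    calc y * (k⁻¹ * g) = k⁻¹ * (k * y * k⁻¹) * g := by group
      _ = k⁻¹ * (g * y * g⁻¹) * g := h3.symm
      _ = k⁻¹ * g * y := by group
  rw [hC, mem_bot, inv_mul_eq_one] at h1
  rw [← h1]
  exact hk

/-- **`F*(G) = M₁₂` does not occur.** -/
theorem no1_m12 : No1.{u} (fun K _ => Spor.IsoM12 K) := by
  intro G _ _ S Q M Y x K h hM
  obtain ⟨e0⟩ := hM
  have hKn := h.nK
  have hT : Tall S Q M Y x := h.toTall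
  have hcK : Nat.card K = 95040 := by
    rw [Nat.card_congr e0.toEquiv]; exact MTwelveType.SylowModel.card_M12
  obtain ⟨z, hzS, hzK, hz1, hzz, hzc⟩ := exists_inv S hKn (by rw [hcK]; norm_num)
  obtain ⟨P, hP⟩ := exists_sylow_sub S hKn
  obtain ⟨f, hf⟩ := exists_equiv (e0.trans CoThreeStd.M12.equiv) (z := (⟨z, hzK⟩ : K))
    (fun h => hz1 (congrArg Subtype.val h)) (Subtype.ext hzz) ⟨P, fun p hp => Subtype.ext (hzc p (hP p hp))⟩
  have hgz := good_z hT hz1 hzz hzc
  obtain ⟨m, hm, hmY, hmz⟩ := h.moves z hzc hzz hz1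
  have hmK : m * z * m⁻¹ ∈ K := hKn.conj_mem z hzK m
  have hzY : z ∈ Y := h.omega z hzc hzz
  have hYW := one_le_wc Q Y
  have hm1 : m * z * m⁻¹ ≠ 1 := by
    intro h1
    rw [mul_inv_eq_one] at h1
    exact hz1 (mul_eq_left.1 h1)
  let E : Subgroup G12 := ((Wc Q Y).subgroupOf K).map f.toMonoidHom
  have memE : ∀ k : K, f k ∈ E ↔ (k : G) ∈ Wc Q Y := by
    intro k
    constructor
    · rintro ⟨k', hk', he⟩
      have : k' = k := f.injective he
      rw [← this]
      exact mem_subgroupOf.1 hk'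
    · intro hk
      exact ⟨k, mem_subgroupOf.2 hk, rfl⟩
  have hne1 : f ⟨m * z * m⁻¹, hmK⟩ ≠ 1 := by
    intro h1
    rw [← map_one f] at h1
    exact hm1 (congrArg Subtype.val (f.injective h1))
  have hnez : f ⟨m * z * m⁻¹, hmK⟩ ≠ Omega.Quasithin.M12.z := by
    intro h1
    rw [← hf] at h1
    exact hmz (congrArg Subtype.val (f.injective h1))
  have hE : Md.NE E := by
    refine ⟨?_, ?_, ?_, ⟨f ⟨m * z * m⁻¹, hmK⟩, (memE _).2 (hYW hmY), hne1, hnez⟩⟩
    · rintro _ ⟨k, hk, rfl⟩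
      show f k * f k = 1
      rw [← map_mul, show k * k = 1 from Subtype.ext (h.W_sq _ (mem_subgroupOf.1 hk)), map_one]
    · rw [← hf]
      exact (memE _).2 (hYW hzY)
    · rintro g hg _ ⟨w, hw, rfl⟩
      obtain ⟨k, rfl⟩ := f.surjective g
      show f k * f w * (f k)⁻¹ ∈ E
      rw [← map_mul, ← map_inv, ← map_mul, memE]
      have hk : (k : G) ∈ centralizer ({z} : Set G) := by
        rw [mem_centralizer_singleton_iff]
        rw [← hf, ← map_mul, ← map_mul] at hg
        exact congrArg Subtype.val (f.injective hg)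
      exact wc_norm (hgz.1 hk) (mem_subgroupOf.1 hw)
  -- all involutions of `W ∩ K` are conjugate to `z`
  have hconj : ∀ w ∈ Wc Q Y, w ∈ K → w ≠ 1 → ∃ g : G, w = g * z * g⁻¹ := by
    intro w hw hwK hw1
    by_cases hwz : w = z
    · exact ⟨1, by rw [hwz]; group⟩
    · obtain ⟨g, -, hg⟩ := hE.trans ((memE _).2 (hYW hmY)) hne1 hnez ((memE ⟨w, hwK⟩).2 hw) (by
        intro h1
        rw [← map_one f] at h1
        exact hw1 (congrArg Subtype.val (f.injective h1))) (by
        intro h1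
        rw [← hf] at h1
        exact hwz (congrArg Subtype.val (f.injective h1)))
      obtain ⟨k, rfl⟩ := f.surjective g
      rw [← map_mul, ← map_inv, ← map_mul] at hg
      have h1 : (k : G) * (m * z * m⁻¹) * (k : G)⁻¹ = w := congrArg Subtype.val (f.injective hg)
      exact ⟨k * m, by rw [← h1]; group⟩
  have hx1 : x ≠ 1 := by
    rintro rfl
    have := h.x_ord
    rw [orderOf_one] at this
    omega
  have hxK : x ∉ K := by
    intro hxK
    obtain ⟨g, hg⟩ := hconj x (hYW h.x_mem) hxK hx1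
    exact x_not_conj hT hz1 hzz hzc g hg.symm
  -- the elements of `T ∩ K` are involutions
  have hTsq : ∀ t ∈ O2 M, t ∈ K → t * t = 1 := by
    intro t ht htK
    by_contra h2
    rw [h.T_eq] at ht
    obtain ⟨n, hn⟩ := S.isPGroup' ⟨t, ht.1⟩
    have hn' : t ^ 2 ^ n = 1 := congrArg Subtype.val hn
    obtain ⟨j, hj2, hj4⟩ := exists_four hn' h2
    have htx : x * t = t * x := mem_centralizer_iff.1 ht.2 x h.x_mem
    have hc : x * t ^ j * x⁻¹ = t ^ j := by
      have : Commute x t := htx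
      rw [(this.pow_right j).eq, mul_inv_cancel_right]
    obtain ⟨k, hk⟩ := inner_of_four e0 (MulAut.conjNormal x : MulAut K) (t := ⟨t ^ j, pow_mem htK j⟩)
      (fun h3 => hj2 (congrArg Subtype.val h3)) (Subtype.ext hj4) (Subtype.ext hc)
    exact hxK (mem_of_inner h.cent k.2 fun y hy => congrArg Subtype.val (hk ⟨y, hy⟩))
  -- `T ∩ K = W ∩ K`
  have hTW : ∀ t ∈ O2 M, t ∈ K → t ∈ Wc Q Y := by
    intro t ht htK
    have h1 : ((O2 M).subgroupOf K).map f.toMonoidHom ≤ E := by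
      refine hE.max ?_ ?_
      · rintro _ ⟨w, hw, rfl⟩
        exact ⟨w, mem_subgroupOf.2 (wc_le hT (mem_subgroupOf.1 hw)), rfl⟩
      · rintro _ ⟨w, hw, rfl⟩
        show f w * f w = 1
        rw [← map_mul, show w * w = 1 from Subtype.ext (hTsq _ (mem_subgroupOf.1 hw) w.2), map_one]
    exact (memE ⟨t, htK⟩).1 (h1 ⟨⟨t, htK⟩, mem_subgroupOf.2 ht, rfl⟩)
  -- the normaliser of `W ∩ K`
  set A : Subgroup G := Wc Q Y ⊓ K with hA
  have hnormA : ∀ g : G, (∀ w ∈ A, g * w * g⁻¹ ∈ A) → g ∈ normalizer (A : Set G) := by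
    intro g hg
    have hle : A.map (MulAut.conj g).toMonoidHom ≤ A := by
      rintro _ ⟨w, hw, rfl⟩
      exact hg w hw
    have heq : A.map (MulAut.conj g).toMonoidHom = A := by
      apply Subgroup.eq_of_le_of_card_ge hle
      exact (Nat.card_congr (A.equivMapOfInjective (MulAut.conj g).toMonoidHom (MulAut.conj g).injective).toEquiv).le
    rw [mem_normalizer_iff]
    intro w
    constructor
    · exact hg w
    · intro hw
      rw [← heq] at hw
      obtain ⟨w', hw', he⟩ := hw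
      have : w' = w := (MulAut.conj g).injective he
      rw [← this]
      exact hw'
  have hmN : m ∈ normalizer (A : Set G) := hnormA m fun w hw => by
    have h1 := o2_norm hm (wc_le hT hw.1)
    have h2 := hKn.conj_mem w hw.2 m
    exact ⟨hTW _ h1 h2, h2⟩
  have hkN : ∀ k ∈ K, k * z = z * k → k ∈ normalizer (A : Set G) := fun k hk hkz => hnormA k fun w hw =>
    ⟨wc_norm (hgz.1 (mem_centralizer_singleton_iff.2 hkz)) hw.1, hKn.conj_mem w hw.2 k⟩
  have hcA : Nat.card A = 8 := by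
    rw [← hE.card]
    have e1 : A = ((Wc Q Y).subgroupOf K).map K.subtype := by
      rw [subgroupOf_map_subtype]
    rw [e1, Nat.card_congr (((Wc Q Y).subgroupOf K).equivMapOfInjective _ K.subtype_injective).symm.toEquiv]
    exact Nat.card_congr (((Wc Q Y).subgroupOf K).equivMapOfInjective f.toMonoidHom f.injective).toEquiv
  have hzA : z ∈ A := ⟨hYW hzY, hzK⟩
  -- seven conjugates
  have hzN : z ∈ normalizer (A : Set G) := le_normalizer hzA
  have h7 : 7 ∣ Nat.card ↥(normalizer (A : Set G)) := by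
    let N := normalizer (A : Set G)
    have horb : MulAction.orbit (ConjAct N) (⟨z, hzN⟩ : N) = {w : N | (w : G) ∈ A ∧ (w : G) ≠ 1} := by
      ext w
      constructor
      · rintro ⟨g, rfl⟩
        refine ⟨?_, ?_⟩
        · show ((ConjAct.ofConjAct g : N) : G) * z * ((ConjAct.ofConjAct g : N) : G)⁻¹ ∈ A
          exact (mem_normalizer_iff.1 (ConjAct.ofConjAct g : N).2 z).1 hzA
        · show ((ConjAct.ofConjAct g : N) : G) * z * ((ConjAct.ofConjAct g : N) : G)⁻¹ ≠ 1
          intro h1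
          rw [mul_inv_eq_one] at h1
          exact hz1 (mul_eq_left.1 h1)
      · rintro ⟨hwA, hw1⟩
        by_cases hwz : (w : G) = z
        · refine ⟨1, ?_⟩
          show (1 : ConjAct N) • (⟨z, hzN⟩ : N) = w
          rw [one_smul]
          exact Subtype.ext hwz.symm
        · obtain ⟨g, hgz', hg⟩ := hE.trans ((memE _).2 (hYW hmY)) hne1 hnez ((memE ⟨w, hwA.2⟩).2 hwA.1) (by
            intro h1
            rw [← map_one f] at h1
            exact hw1 (congrArg Subtype.val (f.injective h1))) (by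
            intro h1
            rw [← hf] at h1
            exact hwz (congrArg Subtype.val (f.injective h1)))
          obtain ⟨k, rfl⟩ := f.surjective g
          rw [← map_mul, ← map_inv, ← map_mul] at hg
          have h1 : (k : G) * (m * z * m⁻¹) * (k : G)⁻¹ = w := congrArg Subtype.val (f.injective hg)
          have h2 : (k : G) * z = z * k := by
            rw [← hf, ← map_mul, ← map_mul] at hgz'
            exact congrArg Subtype.val (f.injective hgz')
          refine ⟨ConjAct.toConjAct ⟨k * m, mul_mem (hkN k k.2 h2) hmN⟩, Subtype.ext ?_⟩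
          show (k : G) * m * z * ((k : G) * m)⁻¹ = w
          rw [← h1]
          group
    have h1 := MulAction.index_stabilizer (ConjAct N) (⟨z, hzN⟩ : N)
    rw [horb] at h1
    have h2 : ({w : N | (w : G) ∈ A ∧ (w : G) ≠ 1}).ncard = 7 := by
      have h3 : ({w : N | (w : G) ∈ A ∧ (w : G) ≠ 1}).ncard = ((A : Set G) \ {1}).ncard := by
        rw [← Set.ncard_image_of_injective _ N.subtype_injective]
        congr 1
        ext w
        constructor
        · rintro ⟨w', ⟨h3, h4⟩, rfl⟩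
          exact ⟨h3, h4⟩
        · rintro ⟨h3, h4⟩
          exact ⟨⟨w, le_normalizer h3⟩, ⟨h3, h4⟩, rfl⟩
      rw [h3, Set.ncard_diff_singleton_of_mem (one_mem A), ← Nat.card_coe_set_eq]
      have : Nat.card (A : Set G) = 8 := hcA
      rw [this]
    rw [h2] at h1
    have h3 := Subgroup.index_dvd_card (MulAction.stabilizer (ConjAct N) (⟨z, hzN⟩ : N))
    rw [h1] at h3
    have h4 : Nat.card (ConjAct N) = Nat.card N := Nat.card_congr ConjAct.ofConjAct.toEquiv
    rwa [h4] at h3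
  have : Fact (Nat.Prime 7) := ⟨by norm_num⟩
  obtain ⟨g, hg⟩ := exists_prime_orderOf_dvd_card' (G := ↥(normalizer (A : Set G))) 7 h7
  have hgo : orderOf (g : G) = 7 := by rw [Subgroup.orderOf_coe]; exact hg
  obtain ⟨k, hk⟩ := CoThreeStd.M12.Out.inner_of_odd_of_equiv (e0.trans CoThreeStd.M12.equiv)
    (φ := (MulAut.conjNormal (g : G) : MulAut K)) (k := 7) (by decide) (by
      rw [← map_pow, ← hgo, pow_orderOf_eq_one, map_one])
  have hgK : (g : G) ∈ K := mem_of_inner h.cent k.2 fun y hy => by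
    have := DFunLike.congr_fun hk (⟨y, hy⟩ : K)
    exact (congrArg Subtype.val this).symm
  have h8 : 7 ∣ Nat.card K := by
    have h9 : orderOf (⟨g, hgK⟩ : K) ∣ Nat.card K := orderOf_dvd_natCard _
    rwa [← Subgroup.orderOf_coe, hgo] at h9
  rw [hcK] at h8
  norm_num at h8

/-- **`RowTwo`** -/
theorem rowTwo_m12 {K : Type u} [Group K] (h : Spor.IsoM12 K) : RowTwo K := by
  obtain ⟨e0⟩ := h
  have hfin : Finite K := Nat.finite_of_card_ne_zero (by
    rw [Nat.card_congr e0.toEquiv, MTwelveType.SylowModel.card_M12]; norm_num)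
  rintro z ⟨hz, P, hP⟩ hC
  have hzz : z * z = 1 := by
    have h1 := pow_orderOf_eq_one z
    rwa [hz, pow_two] at h1
  have hz1 : z ≠ 1 := by
    rintro rfl
    rw [orderOf_one] at hz
    omega
  obtain ⟨f, hf⟩ := exists_equiv (e0.trans CoThreeStd.M12.equiv) hz1 hzz
    ⟨P, fun p hp => mem_centralizer_singleton_iff.1 (hP hp)⟩
  have h1 : (centralizer ({z} : Set K)).map f.toMonoidHom = centralizer ({Omega.Quasithin.M12.z} : Set G12) := by
    ext g
    rw [mem_centralizer_singleton_iff]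
    constructor
    · rintro ⟨k, hk, rfl⟩
      have hk' := mem_centralizer_singleton_iff.1 hk
      show f k * _ = _ * f k
      rw [← hf, ← map_mul, hk', map_mul]
    · intro hg
      obtain ⟨k, rfl⟩ := f.surjective g
      refine ⟨k, mem_centralizer_singleton_iff.2 (f.injective ?_), rfl⟩
      rw [map_mul, map_mul, hf]
      exact hg
  have h2 : Nat.card (centralizer ({z} : Set K)) = Nat.card (centralizer ({Omega.Quasithin.M12.z} : Set G12)) := by
    rw [← h1]
    exact Nat.card_congr ((centralizer ({z} : Set K)).equivMapOfInjective f.toMonoidHom f.injective).toEquiv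
  have h3 := Subgroup.card_mul_index (centralizer ({Omega.Quasithin.M12.z} : Set G12))
  rw [Omega.Quasithin.M12.index_eq, card_g12, ← h2] at h3
  have h4 : Nat.card (centralizer ({z} : Set K)) = 192 := by omega
  obtain ⟨n, hn⟩ := IsPGroup.iff_card.1 hC
  rw [h4] at hn
  have h5 : 3 ∣ 2 ^ n := by rw [← hn]; norm_num
  have h6 := Nat.prime_three.dvd_of_dvd_pow h5
  norm_num at h6

end Cfsg.Agent.H395.TallRow
end

-- part: H215/LT/LieTwo
section
prune_inst 0x404002004080000000000001200000000120001000003000011a004000006902009022600c8200d020000880000000060000000000000000000000000000001200000420083480100220000003004000000000000000000000000000000041000000000000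
set_option linter.all false
open scoped Cfsg.Agent.FastGrp

-- part: H215/L2Out/Cent
section
/-!
`cp_centralizer`: if `K ⊲ G`, `x` is a 2-element, `C_K(x)` has characteristic 2 and `x` commutes with some `z ∈ K` with
`C_G(z)` of characteristic 2, then `C_G(x)` has characteristic 2.
-/

set_option autoImplicit false

namespace Cfsg.Agent.H215.L2Out.Cent

open Subgroup Cfsg Cfsg.Agent.H227.Weak Cfsg.Agent.H228
open Cfsg.Agent.H239.CharPLocal (CP)

variable {G : Type*} [Group G] [Finite G] {p : ℕ} [hp : Fact p.Prime]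

/-- `CP`, in the ambient group -/
theorem cp_iff {H : Subgroup G} : CP p ↥H ↔ H ⊓ centralizer ((pCoreOf p H : Subgroup G) : Set G) ≤ pCoreOf p H := by
  constructor
  · intro h y hy
    have h1 : (⟨y, hy.1⟩ : ↥H) ∈ pCore p ↥H := by
      apply h
      rw [mem_centralizer_iff]
      intro r hr
      apply Subtype.ext
      exact mem_centralizer_iff.1 hy.2 _ ⟨r, hr, rfl⟩
    exact ⟨_, h1, rfl⟩
  · intro h y hy
    have h1 : (y : G) ∈ pCoreOf p H := by
      refine h (mem_inf.2 ⟨y.2, ?_⟩)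
      rw [mem_centralizer_iff]
      rintro _ ⟨r, hr, rfl⟩
      exact congrArg Subtype.val (mem_centralizer_iff.1 hy r hr)
    obtain ⟨r, hr, hry⟩ := h1
    have : r = y := Subtype.ext hry
    rwa [← this]

omit [Finite G] hp in
theorem le_normalizer_of {H D : Subgroup G} (h : ∀ g ∈ H, ∀ d ∈ D, g * d * g⁻¹ ∈ D) :
    H ≤ normalizer (D : Set G) := by
  intro g hg
  rw [mem_normalizer_iff]
  refine fun d => ⟨h g hg d, fun hd => ?_⟩
  have h1 := h g⁻¹ (inv_mem hg) _ hd
  have h2 : g⁻¹ * (g * d * g⁻¹) * g⁻¹⁻¹ = d := by group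
  rwa [h2] at h1

omit [Finite G] hp in
/-- an element of order prime to `p` which commutes with `c = n⁻¹ n^y`, a `p`-element, commutes with `n` -/
theorem comm_of {y n c : G} (hy : (orderOf y).Coprime p) (hc : ∃ k : ℕ, c ^ p ^ k = 1) (hn : y * n * y⁻¹ = n * c)
    (hyc : y * c = c * y) : y * n = n * y := by
  have h1 : ∀ k : ℕ, y ^ k * n * (y ^ k)⁻¹ = n * c ^ k := by
    intro k
    induction k with
    | zero => simp
    | succ k ih =>
      have h2 : y ^ (k + 1) * n * (y ^ (k + 1))⁻¹ = y ^ k * (y * n * y⁻¹) * (y ^ k)⁻¹ := by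
        rw [pow_succ]; group
      have h3 : y ^ k * c = c * y ^ k := (Commute.pow_left (show Commute y c from hyc) k)
      have h4 : y ^ k * (n * c) * (y ^ k)⁻¹ = y ^ k * n * (y ^ k)⁻¹ * c := by
        calc y ^ k * (n * c) * (y ^ k)⁻¹ = y ^ k * n * (c * (y ^ k)⁻¹) := by group
          _ = y ^ k * n * ((y ^ k)⁻¹ * (y ^ k * c) * (y ^ k)⁻¹) := by group
          _ = y ^ k * n * ((y ^ k)⁻¹ * (c * y ^ k) * (y ^ k)⁻¹) := by rw [h3]
          _ = _ := by group
      rw [h2, hn, h4, ih, mul_assoc, ← pow_succ]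
  have h2 := h1 (orderOf y)
  rw [pow_orderOf_eq_one, one_mul, inv_one, mul_one] at h2
  have h3 : c ^ orderOf y = 1 := by
    have h4 := h2.symm
    rwa [mul_eq_left] at h4
  obtain ⟨k, hk⟩ := hc
  have h4 : orderOf c ∣ p ^ k := orderOf_dvd_of_pow_eq_one hk
  have h5 : orderOf c ∣ orderOf y := orderOf_dvd_of_pow_eq_one h3
  have h6 : orderOf c = 1 := Nat.eq_one_of_dvd_coprimes (Nat.Coprime.pow_right k hy) h5 h4
  rw [orderOf_eq_one_iff] at h6
  rw [h6, mul_one] at hn
  calc y * n = y * n * y⁻¹ * y := by group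
    _ = n * y := by rw [hn]

/-- **Centralizers of characteristic `p`.** -/
theorem cp_centralizer (K : Subgroup G) [hK : K.Normal] {x z : G} (hx : ∃ k : ℕ, x ^ p ^ k = 1) (hzK : z ∈ K)
    (hxz : x * z = z * x) (hN : CP p ↥(K ⊓ centralizer ({x} : Set G) : Subgroup G))
    (hz : CP p ↥(centralizer ({z} : Set G))) : CP p ↥(centralizer ({x} : Set G)) := by
  obtain ⟨L, hL⟩ : ∃ L, L = centralizer ({x} : Set G) := ⟨_, rfl⟩
  obtain ⟨C, hC⟩ : ∃ C, C = centralizer ({z} : Set G) := ⟨_, rfl⟩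
  rw [← hL] at hN ⊢
  rw [← hC] at hz
  rw [cp_iff] at hN hz
  have hmemL : ∀ g : G, g ∈ L ↔ g * x = x * g := by
    intro g; rw [hL, mem_centralizer_singleton_iff]
  have hmemC : ∀ g : G, g ∈ C ↔ g * z = z * g := by
    intro g; rw [hC, mem_centralizer_singleton_iff]
  obtain ⟨N, hNdef⟩ : ∃ N : Subgroup G, N = K ⊓ L := ⟨_, rfl⟩
  rw [← hNdef] at hN
  have hNL : N ≤ L := by rw [hNdef]; exact inf_le_right
  have hLN : L ≤ normalizer (N : Set G) := by
    refine le_normalizer_of fun g hg n hn => ?_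
    rw [hNdef, mem_inf] at hn ⊢
    exact ⟨hK.conj_mem n hn.1 g, L.mul_mem (L.mul_mem hg hn.2) (L.inv_mem hg)⟩
  have hRNL : pCoreOf p N ≤ pCoreOf p L :=
    le_pCoreOf (isPGroup_pCoreOf N) ((pCoreOf_le p N).trans hNL) (hLN.trans (normalizer_le_normalizer_pCoreOf p N))
  -- the normal subgroup `B = C_L(O_p(L))`
  obtain ⟨B, hB⟩ : ∃ B : Subgroup G, B = L ⊓ centralizer ((pCoreOf p L : Subgroup G) : Set G) := ⟨_, rfl⟩
  have hBL : B ≤ L := by rw [hB]; exact inf_le_left
  have hLR : L ≤ normalizer ((pCoreOf p L : Subgroup G) : Set G) := le_normalizer.trans (normalizer_le_normalizer_pCoreOf p L)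
  have hBR : ∀ b ∈ B, ∀ r ∈ pCoreOf p L, b * r = r * b := by
    intro b hb r hr
    rw [hB] at hb
    exact (mem_centralizer_iff.1 hb.2 r hr).symm
  have hconj : ∀ g ∈ L, ∀ r ∈ pCoreOf p L, g * r * g⁻¹ ∈ pCoreOf p L := fun g hg r hr =>
    (mem_normalizer_iff.1 (hLR hg) r).1 hr
  have hBn : ∀ g ∈ L, ∀ b ∈ B, g * b * g⁻¹ ∈ B := by
    intro g hg b hb
    rw [hB, mem_inf]
    refine ⟨L.mul_mem (L.mul_mem hg (hBL hb)) (L.inv_mem hg), ?_⟩
    rw [mem_centralizer_iff]
    intro r hr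
    have h2 := hBR b hb (g⁻¹ * r * g) (by
      have := hconj g⁻¹ (L.inv_mem hg) r hr
      rwa [inv_inv] at this)
    calc r * (g * b * g⁻¹) = g * (g⁻¹ * r * g * b) * g⁻¹ := by group
      _ = g * (b * (g⁻¹ * r * g)) * g⁻¹ := by rw [h2]
      _ = _ := by group
  have hLB : L ≤ normalizer (B : Set G) := le_normalizer_of hBn
  have hpow : ∀ {H : Subgroup G}, IsPGroup p H → ∀ c ∈ H, ∃ k : ℕ, c ^ p ^ k = 1 := by
    intro H hH c hc
    obtain ⟨k, hk⟩ := hH ⟨c, hc⟩
    exact ⟨k, congrArg Subtype.val hk⟩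
  -- (1) elements of order prime to `p` of `B` centralise `N`
  have h1 : ∀ y ∈ B, (orderOf y).Coprime p → ∀ n ∈ N, y * n = n * y := by
    intro y hy hyo n hn
    have hyn : y * n * y⁻¹ ∈ N := (mem_normalizer_iff.1 (hLN (hBL hy)) n).1 hn
    obtain ⟨c, hc⟩ : ∃ c, c = n⁻¹ * (y * n * y⁻¹) := ⟨_, rfl⟩
    have hcN : c ∈ N := by rw [hc]; exact mul_mem (inv_mem hn) hyn
    have hcR : c ∈ pCoreOf p N := by
      refine hN (mem_inf.2 ⟨hcN, ?_⟩)
      rw [mem_centralizer_iff]
      intro r hr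
      have e1 : y * r = r * y := hBR y hy r (hRNL hr)
      have e2 : n * r * n⁻¹ ∈ pCoreOf p N :=
        (mem_normalizer_iff.1 ((le_normalizer.trans (normalizer_le_normalizer_pCoreOf p N)) hn) r).1 hr
      have e3 : y * (n * r * n⁻¹) = n * r * n⁻¹ * y := hBR y hy _ (hRNL e2)
      have e4 : y⁻¹ * r * y = r := by
        calc y⁻¹ * r * y = y⁻¹ * (r * y) := by group
          _ = y⁻¹ * (y * r) := by rw [e1]
          _ = r := by group
      have e5 : c * r * c⁻¹ = r := by
        calc c * r * c⁻¹ = n⁻¹ * (y * (n * (y⁻¹ * r * y) * n⁻¹)) * y⁻¹ * n := by rw [hc]; group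
          _ = n⁻¹ * (y * (n * r * n⁻¹)) * y⁻¹ * n := by rw [e4]
          _ = n⁻¹ * (n * r * n⁻¹ * y) * y⁻¹ * n := by rw [e3]
          _ = r := by group
      calc r * c = c * r * c⁻¹ * c := by rw [e5]
        _ = c * r := by group
    refine comm_of (p := p) (c := c) hyo (hpow (isPGroup_pCoreOf N) c hcR) (by rw [hc]; group) ?_
    exact hBR y hy c (hRNL hcR)
  have hzN : z ∈ N := by
    rw [hNdef, mem_inf]
    exact ⟨hzK, (hmemL z).2 hxz.symm⟩
  -- the subgroup generated by the elements of order prime to `p` of `B`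
  obtain ⟨B₁, hB₁⟩ : ∃ B₁ : Subgroup G, B₁ = closure {y | y ∈ B ∧ (orderOf y).Coprime p} := ⟨_, rfl⟩
  have hB₁B : B₁ ≤ B := by
    rw [hB₁, closure_le]
    exact fun y hy => hy.1
  have hB₁n : L ≤ normalizer (B₁ : Set G) := by
    refine le_normalizer_of fun g hg b hb => ?_
    have e1 : B₁ ≤ B₁.comap (MulAut.conj g).toMonoidHom := by
      conv_lhs => rw [hB₁]
      rw [closure_le]
      rintro y ⟨hy, hyo⟩
      show g * y * g⁻¹ ∈ B₁
      rw [hB₁]
      refine subset_closure ⟨hBn g hg y hy, ?_⟩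
      rwa [show g * y * g⁻¹ = MulAut.conj g y from rfl, MulEquiv.orderOf_eq]
    exact e1 hb
  have hB₁C : B₁ ≤ C := by
    rw [hB₁, closure_le]
    rintro y ⟨hy, hyo⟩
    exact (hmemC y).2 (h1 y hy hyo z hzN)
  have hRC : C ≤ normalizer ((pCoreOf p C : Subgroup G) : Set G) :=
    le_normalizer.trans (normalizer_le_normalizer_pCoreOf p C)
  -- `W = C_{O_p(C)}(x)`
  obtain ⟨W, hW⟩ : ∃ W : Subgroup G, W = pCoreOf p C ⊓ L := ⟨_, rfl⟩
  have hWp : IsPGroup p W := (isPGroup_pCoreOf C).to_le (by rw [hW]; exact inf_le_left)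
  have hWn : C ⊓ L ≤ normalizer (W : Set G) := by
    refine le_normalizer_of fun g hg w hw => ?_
    rw [mem_inf] at hg
    rw [hW, mem_inf] at hw ⊢
    exact ⟨(mem_normalizer_iff.1 (hRC hg.1) w).1 hw.1, L.mul_mem (L.mul_mem hg.2 hw.2) (L.inv_mem hg.2)⟩
  have hE : W ⊓ B₁ ≤ pCoreOf p L := by
    have e1 : W ⊓ B₁ ≤ pCoreOf p B₁ := by
      refine le_pCoreOf (hWp.to_le inf_le_left) inf_le_right (le_normalizer_of fun g hg w hw => ?_)
      rw [mem_inf] at hw ⊢
      exact ⟨(mem_normalizer_iff.1 (hWn (mem_inf.2 ⟨hB₁C hg, hBL (hB₁B hg)⟩)) w).1 hw.1,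
        B₁.mul_mem (B₁.mul_mem hg hw.2) (B₁.inv_mem hg)⟩
    refine e1.trans ?_
    exact le_pCoreOf (isPGroup_pCoreOf B₁) ((pCoreOf_le p B₁).trans (hB₁B.trans hBL))
      (hB₁n.trans (normalizer_le_normalizer_pCoreOf p B₁))
  -- (2) elements of order prime to `p` of `B` are trivial
  have h2 : ∀ y ∈ B, (orderOf y).Coprime p → y = 1 := by
    intro y hy hyo
    have hyB₁ : y ∈ B₁ := by rw [hB₁]; exact subset_closure ⟨hy, hyo⟩
    have hyC := hB₁C hyB₁
    have hyL := hBL hy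
    -- `y` centralises `W`
    have hyW : ∀ w ∈ W, y * w = w * y := by
      intro w hw
      have hwL : w ∈ L := by rw [hW, mem_inf] at hw; exact hw.2
      have hyw : y * w * y⁻¹ ∈ W := (mem_normalizer_iff.1 (hWn (mem_inf.2 ⟨hyC, hyL⟩)) w).1 hw
      have hcW : w⁻¹ * (y * w * y⁻¹) ∈ W := mul_mem (inv_mem hw) hyw
      have hcB : w⁻¹ * (y * w * y⁻¹) ∈ B₁ := by
        have e1 : w⁻¹ * y * w⁻¹⁻¹ ∈ B₁ := (mem_normalizer_iff.1 (hB₁n (L.inv_mem hwL)) y).1 hyB₁
        have e2 : w⁻¹ * (y * w * y⁻¹) = w⁻¹ * y * w⁻¹⁻¹ * y⁻¹ := by group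
        rw [e2]
        exact mul_mem e1 (inv_mem hyB₁)
      refine comm_of (p := p) (c := w⁻¹ * (y * w * y⁻¹)) hyo (hpow hWp _ hcW) (by group) ?_
      exact hBR y hy _ (hE (mem_inf.2 ⟨hcW, hcB⟩))
    have hc : Subgroup.zpowers y ≤ Subgroup.centralizer ((pCoreOf p C : Subgroup G) : Set G) := by
      have hcomm : x * y = y * x := ((hmemL y).1 hyL).symm
      refine Lib.ThompsonPQ.thompson_p_times_q p (zpowers x) (zpowers y) (pCoreOf p C) ?_ ?_ (isPGroup_pCoreOf C)
        ?_ ?_ ?_ ?_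
      · obtain ⟨k, hk⟩ := hx
        rintro ⟨_, j, rfl⟩
        refine ⟨k, Subtype.ext ?_⟩
        show (x ^ j) ^ p ^ k = 1
        rw [← zpow_natCast, ← zpow_mul, mul_comm, zpow_mul, zpow_natCast, hk, one_zpow]
      · rw [Nat.card_zpowers]
        exact hyo
      · rw [zpowers_le, mem_centralizer_iff]
        rintro _ ⟨j, rfl⟩
        exact ((show Commute y x from hcomm.symm).zpow_left j).eq
      · rw [zpowers_le]
        exact hRC ((hmemC x).2 hxz)
      · rw [zpowers_le]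
        exact hRC hyC
      · intro w hw
        rw [mem_inf] at hw
        have hwL : w ∈ L := by
          rw [hmemL]
          exact (mem_centralizer_iff.1 hw.2 x (mem_zpowers x)).symm
        have hwW : w ∈ W := by rw [hW, mem_inf]; exact ⟨hw.1, hwL⟩
        rw [mem_centralizer_iff]
        rintro _ ⟨j, rfl⟩
        exact ((show Commute y w from hyW w hwW).zpow_left j).eq
    have h3 : y ∈ pCoreOf p C := hz (mem_inf.2 ⟨hyC, hc (mem_zpowers y)⟩)
    obtain ⟨k, hk⟩ := hpow (isPGroup_pCoreOf C) y h3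
    have h4 : orderOf y ∣ p ^ k := orderOf_dvd_of_pow_eq_one hk
    have h6 : orderOf y = 1 := Nat.eq_one_of_dvd_coprimes (Nat.Coprime.pow_right k hyo) dvd_rfl h4
    exact orderOf_eq_one_iff.1 h6
  -- the end
  intro b hb
  have hn : (centralizer (pCore p ↥L : Set ↥L)).Normal := by
    have := Lib.Cores.pCore_normal (G := ↥L) p
    infer_instance
  refine SignalizersComponents.CharP.le_pCore_of_forall hn (fun y hy hyo => ?_) hb
  apply Subtype.ext
  refine h2 y ?_ (by rwa [Subgroup.orderOf_coe])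
  rw [hB, mem_inf]
  refine ⟨y.2, ?_⟩
  rw [mem_centralizer_iff]
  rintro _ ⟨r, hr, rfl⟩
  exact congrArg Subtype.val (mem_centralizer_iff.1 hy r hr)

end Cfsg.Agent.H215.L2Out.Cent
end

-- part: H215/LT/Good
section
/-!
# S2927: good elements of `Y` (lemma G) and the rows with `|Y ∩ K| = 4`

* `exists_z`: a normal subgroup of even order contains an involution central in the Sylow subgroup `S`;
* `Cx.chP_cent`: for `x ∈ Y` and `K` normal with `C_K(x)` of characteristic 2 the group `C_G(x)` has characteristic 2;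
* `Cx.good_of_KG`: if all involution centralizers of `K` have characteristic 2, all elements of `Y ∩ K` are good;
* `Cx.Y_le_of_card_four`: if `G/K` is an abelian 2-group and `|Y ∩ K| = 4` then `Y ≤ K`.
-/

set_option autoImplicit false
set_option linter.unusedSectionVars false
open Cfsg Subgroup
open Cfsg.Agent.H229 Cfsg.Agent.H230 Cfsg.Agent.H252.LT

namespace Cfsg.Agent.H215.LT

universe u

variable {G : Type u} [Group G] [Finite G] {S : Sylow 2 G} {Q M : Subgroup G}

theorem normal_norm {K : Subgroup G} (hK : K.Normal) (H : Subgroup G) : H ≤ normalizer (K : Set G) := by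
  rw [Subgroup.normalizer_eq_top_iff.2 hK]; exact le_top

/-- an involution of the normal subgroup `K` central in `S` -/
theorem exists_z (S : Sylow 2 G) (K : Subgroup G) [hK : K.Normal] (h2 : 2 ∣ Nat.card ↥K) :
    ∃ z ∈ K, z ∈ (S : Subgroup G) ∧ z ∈ centralizer ((S : Subgroup G) : Set G) ∧ z ^ 2 = 1 ∧ z ≠ 1 := by
  have hfact : Fact (Nat.Prime 2) := ⟨Nat.prime_two⟩
  -- `S ∩ K ≠ 1`
  have h1 : (S : Subgroup G) ⊓ K ≠ ⊥ := by
    obtain ⟨t, ht⟩ := exists_prime_orderOf_dvd_card' (G := ↥K) 2 h2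
    have ht' : orderOf (t : G) = 2 := by rw [Subgroup.orderOf_coe, ht]
    have hp : IsPGroup 2 (zpowers (t : G)) := by
      rw [IsPGroup.iff_card]
      exact ⟨1, by rw [Nat.card_zpowers, ht', pow_one]⟩
    obtain ⟨P, hP⟩ := hp.exists_le_sylow
    obtain ⟨g, hg⟩ := MulAction.exists_smul_eq G P S
    have h3 : g * t * g⁻¹ ∈ (S : Subgroup G) := by
      rw [← hg, Sylow.coe_subgroup_smul]
      exact Subgroup.smul_mem_pointwise_smul (t : G) (MulAut.conj g) _ (hP (mem_zpowers _))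
    intro h4
    have h5 : g * t * g⁻¹ ∈ (S : Subgroup G) ⊓ K := ⟨h3, hK.conj_mem _ t.2 g⟩
    rw [h4, mem_bot] at h5
    have h6 : (t : G) = 1 := by
      have : (t : G) = g⁻¹ * (g * t * g⁻¹) * g := by group
      rw [this, h5]; group
    rw [h6, orderOf_one] at ht'
    omega
  have h3 := PLocal.OffenderStep.inf_centralizer_ne_bot ((S : Subgroup G) ⊓ K) (S : Subgroup G)
    (S.2.to_le inf_le_left) S.2 ((le_inf le_normalizer (normal_norm hK _)).trans (norm_inf_le _ _)) h1
  obtain ⟨⟨w, hw⟩, hw1⟩ := Subgroup.ne_bot_iff_exists_ne_one.1 h3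
  have hw1' : w ≠ 1 := fun h => hw1 (Subtype.ext h)
  have hp : IsPGroup 2 ↥((S : Subgroup G) ⊓ K ⊓ centralizer ((S : Subgroup G) : Set G)) :=
    S.2.to_le (inf_le_left.trans inf_le_left)
  obtain ⟨k, hk⟩ := hp ⟨w, hw⟩
  have hk' : w ^ 2 ^ k = 1 := congrArg Subtype.val hk
  have ho : ∃ n : ℕ, w ^ n ≠ 1 ∧ (w ^ n) ^ 2 = 1 := by
    induction k with
    | zero => exact absurd (by simpa using hk') hw1'
    | succ k ih =>
      by_cases h5 : w ^ 2 ^ k = 1
      · exact ih (Subtype.ext h5) h5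
      · exact ⟨2 ^ k, h5, by rw [← pow_mul, ← pow_succ]; exact hk'⟩
  obtain ⟨n, hn1, hn2⟩ := ho
  have hmem : w ^ n ∈ (S : Subgroup G) ⊓ K ⊓ centralizer ((S : Subgroup G) : Set G) := pow_mem hw n
  exact ⟨w ^ n, hmem.1.2, hmem.1.1, hmem.2, hn2, hn1⟩

/-- elements of `Y` have square 1 and commute with `O₂(M)` -/
theorem pow_two_of_mem (c : Cx S Q M) {x : G} (hx : x ∈ largestPReducedOf 2 M) : x ^ 2 = 1 := c.Y_ea.2 _ hx

theorem mem_S_of_mem (c : Cx S Q M) {x : G} (hx : x ∈ largestPReducedOf 2 M) : x ∈ (S : Subgroup G) :=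
  c.T_le_S (c.Y_le_T hx)

/-- **Lemma G.** -/
theorem chP_cent (c : Cx S Q M) {K : Subgroup G} [hK : K.Normal] (h2 : 2 ∣ Nat.card ↥K) {x : G}
    (hx : x ∈ largestPReducedOf 2 M) (hN : ChP 2 (K ⊓ centralizer ({x} : Set G))) :
    ChP 2 (centralizer ({x} : Set G)) := by
  have hfact : Fact (Nat.Prime 2) := ⟨Nat.prime_two⟩
  obtain ⟨z, hzK, hzS, hzc, hz2, hz1⟩ := exists_z S K h2
  have hxS := mem_S_of_mem c hx
  have hxz : x * z = z * x := mem_centralizer_iff.1 hzc x hxS
  have hSC : (S : Subgroup G) ≤ centralizer ({z} : Set G) := by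
    intro s hs
    rw [mem_centralizer_singleton_iff]
    exact mem_centralizer_iff.1 hzc s hs
  have hC : ChP 2 (centralizer ({z} : Set G)) := by
    refine c.chP_of_S hSC fun h => ?_
    have h3 : zpowers z ≤ pCoreOf 2 (centralizer ({z} : Set G)) := by
      refine H229.le_pCoreOf ?_ ?_ ?_
      · rw [zpowers_le, mem_centralizer_singleton_iff]
      · exact (centralizer_singleton_le_zpowers z).trans (centralizer_le_norm _)
      · rw [IsPGroup.iff_card]
        exact ⟨1, by rw [Nat.card_zpowers, pow_one]; exact orderOf_eq_prime hz2 hz1⟩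
    rw [h, le_bot_iff, zpowers_eq_bot] at h3
    exact hz1 h3
  rw [chP_iff] at hN hC ⊢
  exact L2Out.Cent.cp_centralizer K (p := 2) ⟨1, by rw [pow_one]; exact pow_two_of_mem c hx⟩ hzK hxz hN hC

/-- `ChP` for a subgroup of a subgroup -/
theorem chP_map {K : Subgroup G} {L : Subgroup ↥K} (h : ChP 2 L) : ChP 2 (L.map K.subtype) := by
  rw [chP_iff] at h ⊢
  exact H239.CharPLocal.CP.of_equiv (p := 2) (L.equivMapOfInjective K.subtype K.subtype_injective) h

theorem map_centralizer {K : Subgroup G} {x : G} (hx : x ∈ K) :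
    (centralizer ({(⟨x, hx⟩ : ↥K)} : Set ↥K)).map K.subtype = K ⊓ centralizer ({x} : Set G) := by
  ext g
  rw [mem_inf, mem_centralizer_singleton_iff]
  constructor
  · rintro ⟨y, hy, rfl⟩
    have hy' := mem_centralizer_singleton_iff.1 hy
    exact ⟨y.2, congrArg Subtype.val hy'⟩
  · rintro ⟨hg, hc⟩
    exact ⟨⟨g, hg⟩, mem_centralizer_singleton_iff.2 (Subtype.ext hc), rfl⟩

/-- if all involution centralizers of `K` have characteristic 2, the elements of `Y ∩ K` are good -/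
theorem good_of_KG (c : Cx S Q M) {K : Subgroup G} [hK : K.Normal] (h2 : 2 ∣ Nat.card ↥K) (h : KG ↥K) {x : G}
    (hx : x ∈ largestPReducedOf 2 M) (hxK : x ∈ K) (hx1 : x ≠ 1) : ChP 2 (centralizer ({x} : Set G)) := by
  refine chP_cent c h2 hx ?_
  rw [← map_centralizer hxK]
  refine chP_map (h ⟨x, hxK⟩ (fun h3 => hx1 (congrArg Subtype.val h3)) (Subtype.ext ?_))
  exact pow_two_of_mem c hx

/-- a bad element outside `K` -/
theorem exists_bad_of_KG (c : Cx S Q M) {K : Subgroup G} [hK : K.Normal] (h2 : 2 ∣ Nat.card ↥K) (h : KG ↥K) :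
    ∃ x ∈ largestPReducedOf 2 M, x ∉ K ∧ ¬ ChP 2 (centralizer ({x} : Set G)) := by
  obtain ⟨x, hx, hx1, hb⟩ := c.bad
  exact ⟨x, hx, fun hxK => hb (good_of_KG c h2 h hx hxK hx1), hb⟩

/-! ### `|Y ∩ K| = 4` -/

/-- `g` acts on `W` without fixed points -/
def Fpf (W : Subgroup G) (g : G) : Prop := ∀ y ∈ W, g * y * g⁻¹ = y → y = 1

section four

variable {W : Subgroup G}

theorem four_cases (h4 : Nat.card ↥W ≤ 4) (h2 : ∀ w ∈ W, w ^ 2 = 1) {a b : G} (ha : a ∈ W) (hb : b ∈ W)
    (ha1 : a ≠ 1) (hb1 : b ≠ 1) (hab : a ≠ b) {y : G} (hy : y ∈ W) : y = 1 ∨ y = a ∨ y = b ∨ y = a * b := by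
  classical
  have hfin : Fintype ↥W := Fintype.ofFinite _
  have e2 : a * a = 1 := by rw [← pow_two]; exact h2 a ha
  have hab1 : a * b ≠ 1 := fun h => hab (by
    calc a = a * (a * b) := by rw [h, mul_one]
      _ = b := by rw [← mul_assoc, e2, one_mul])
  have hab2 : a * b ≠ a := fun h => hb1 (mul_eq_left.1 h)
  have hab3 : a * b ≠ b := fun h => ha1 (mul_eq_right.1 h)
  by_contra hcon
  push Not at hcon
  obtain ⟨h0, h1, h3, h5⟩ := hcon
  have hs : ({⟨1, one_mem W⟩, ⟨a, ha⟩, ⟨b, hb⟩, ⟨a * b, mul_mem ha hb⟩, ⟨y, hy⟩} : Finset ↥W).card = 5 := by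
    rw [Finset.card_insert_of_notMem, Finset.card_insert_of_notMem, Finset.card_insert_of_notMem,
      Finset.card_insert_of_notMem, Finset.card_singleton]
    · simp only [Finset.mem_singleton, Subtype.mk.injEq]; exact fun h => h5 h.symm
    · simp only [Finset.mem_insert, Finset.mem_singleton, Subtype.mk.injEq]
      rintro (h | h)
      · exact hab3 h.symm
      · exact h3 h.symm
    · simp only [Finset.mem_insert, Finset.mem_singleton, Subtype.mk.injEq]
      rintro (h | h | h)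
      · exact hab h
      · exact hab2 h.symm
      · exact h1 h.symm
    · simp only [Finset.mem_insert, Finset.mem_singleton, Subtype.mk.injEq]
      rintro (h | h | h | h)
      · exact ha1 h.symm
      · exact hb1 h.symm
      · exact hab1 h.symm
      · exact h0 h.symm
  have h6 := Finset.card_le_univ ({⟨1, one_mem W⟩, ⟨a, ha⟩, ⟨b, hb⟩, ⟨a * b, mul_mem ha hb⟩, ⟨y, hy⟩} : Finset ↥W)
  rw [hs, ← Nat.card_eq_fintype_card] at h6
  omega

variable (h4 : Nat.card ↥W ≤ 4) (h2 : ∀ w ∈ W, w ^ 2 = 1) (hcom : ∀ a ∈ W, ∀ b ∈ W, a * b = b * a)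

include h4 h2 hcom

/-- `y^{g²} = y y^g` -/
theorem Fpf.sq {g : G} (hg : ∀ w ∈ W, g * w * g⁻¹ ∈ W) (h : Fpf W g) {y : G} (hy : y ∈ W) :
    g ^ 2 * y * (g ^ 2)⁻¹ = y * (g * y * g⁻¹) := by
  have e0 : g ^ 2 * y * (g ^ 2)⁻¹ = g * (g * y * g⁻¹) * g⁻¹ := by rw [pow_two]; group
  rw [e0]
  by_cases hy1 : y = 1
  · rw [hy1]; group
  obtain ⟨a, ha⟩ : ∃ a, a = g * y * g⁻¹ := ⟨_, rfl⟩
  rw [← ha]
  have haW : a ∈ W := by rw [ha]; exact hg y hy
  have ha1 : a ≠ 1 := by
    intro h1
    apply hy1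
    have : y = g⁻¹ * (g * y * g⁻¹) * g := by group
    rw [this, ← ha, h1]; group
  have hya : y ≠ a := fun h1 => hy1 (h y hy (by rw [← ha, ← h1]))
  rcases four_cases h4 h2 hy haW hy1 ha1 hya (hg a haW) with h1 | h1 | h1 | h1
  · exfalso
    apply ha1
    have : a = g⁻¹ * (g * a * g⁻¹) * g := by group
    rw [this, h1]; group
  · exfalso
    have e1 : g * (y * a) * g⁻¹ = y * a := by
      have : g * (y * a) * g⁻¹ = (g * y * g⁻¹) * (g * a * g⁻¹) := by group
      rw [this, ← ha, h1, hcom a haW y hy]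
    have e2 := h _ (mul_mem hy haW) e1
    apply hya
    calc y = y * (y * a) := by rw [e2, mul_one]
      _ = y ^ 2 * a := by rw [pow_two, mul_assoc]
      _ = a := by rw [h2 y hy, one_mul]
  · exfalso
    exact ha1 (h a haW h1)
  · exact h1

/-- the square of a fixed-point-free element is fixed-point-free -/
theorem Fpf.sq_fpf {g : G} (hg : ∀ w ∈ W, g * w * g⁻¹ ∈ W) (h : Fpf W g) : Fpf W (g ^ 2) := by
  intro y hy h1
  rw [Fpf.sq h4 h2 hcom hg h hy] at h1
  have h3 : g * y * g⁻¹ = 1 := mul_eq_left.1 h1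
  calc y = g⁻¹ * (g * y * g⁻¹) * g := by group
    _ = 1 := by rw [h3]; group

theorem Fpf.cube {g : G} (hg : ∀ w ∈ W, g * w * g⁻¹ ∈ W) (h : Fpf W g) {y : G} (hy : y ∈ W) :
    g ^ 3 * y * (g ^ 3)⁻¹ = y := by
  have e1 : g ^ 3 * y * (g ^ 3)⁻¹ = g * (g ^ 2 * y * (g ^ 2)⁻¹) * g⁻¹ := by
    rw [pow_succ' g 2]; group
  have e2 : g * (y * (g * y * g⁻¹)) * g⁻¹ = (g * y * g⁻¹) * (g ^ 2 * y * (g ^ 2)⁻¹) := by rw [pow_two]; group
  rw [e1, Fpf.sq h4 h2 hcom hg h hy, e2, Fpf.sq h4 h2 hcom hg h hy, ← mul_assoc, hcom _ (hg y hy) y hy, mul_assoc,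
    ← pow_two, h2 _ (hg y hy), mul_one]

/-- two fixed-point-free elements agreeing in one element agree -/
theorem Fpf.eq_of_eq {g k : G} (hg : ∀ w ∈ W, g * w * g⁻¹ ∈ W) (hk : ∀ w ∈ W, k * w * k⁻¹ ∈ W) (h : Fpf W g)
    (h' : Fpf W k) {a : G} (ha : a ∈ W) (ha1 : a ≠ 1) (he : k * a * k⁻¹ = g * a * g⁻¹) {y : G} (hy : y ∈ W) :
    k * y * k⁻¹ = g * y * g⁻¹ := by
  obtain ⟨b, hb⟩ : ∃ b, b = g * a * g⁻¹ := ⟨_, rfl⟩
  have hbW : b ∈ W := by rw [hb]; exact hg a ha
  have hb1 : b ≠ 1 := by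
    intro h1
    apply ha1
    have : a = g⁻¹ * (g * a * g⁻¹) * g := by group
    rw [this, ← hb, h1]; group
  have hab : a ≠ b := fun h1 => ha1 (h a ha (by rw [← hb, ← h1]))
  have e1 : k * b * k⁻¹ = g * b * g⁻¹ := by
    have e2 := Fpf.sq h4 h2 hcom hg h ha
    have e3 := Fpf.sq h4 h2 hcom hk h' ha
    have e4 : g ^ 2 * a * (g ^ 2)⁻¹ = g * b * g⁻¹ := by rw [hb, pow_two]; group
    have e5 : k ^ 2 * a * (k ^ 2)⁻¹ = k * b * k⁻¹ := by rw [hb, ← he, pow_two]; group
    rw [← e4, ← e5, e2, e3, he]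
  rcases four_cases h4 h2 ha hbW ha1 hb1 hab hy with rfl | rfl | rfl | rfl
  · group
  · exact he
  · exact e1
  · have e6 : k * (a * b) * k⁻¹ = (k * a * k⁻¹) * (k * b * k⁻¹) := by group
    rw [e6, he, e1]; group

/-- two fixed-point-free elements agree or one agrees with the square of the other -/
theorem Fpf.dichotomy {g k : G} (hg : ∀ w ∈ W, g * w * g⁻¹ ∈ W) (hk : ∀ w ∈ W, k * w * k⁻¹ ∈ W) (h : Fpf W g)
    (h' : Fpf W k) {a : G} (ha : a ∈ W) (ha1 : a ≠ 1) :
    (∀ y ∈ W, k * y * k⁻¹ = g * y * g⁻¹) ∨ (∀ y ∈ W, k * y * k⁻¹ = g ^ 2 * y * (g ^ 2)⁻¹) := by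
  have hg2 : ∀ w ∈ W, g ^ 2 * w * (g ^ 2)⁻¹ ∈ W := by
    intro w hw
    have e : g ^ 2 * w * (g ^ 2)⁻¹ = g * (g * w * g⁻¹) * g⁻¹ := by rw [pow_two]; group
    rw [e]
    exact hg _ (hg w hw)
  have hbW := hg a ha
  have hb1 : g * a * g⁻¹ ≠ 1 := by
    intro h1
    apply ha1
    have : a = g⁻¹ * (g * a * g⁻¹) * g := by group
    rw [this, h1]; group
  have hab : a ≠ g * a * g⁻¹ := fun h1 => ha1 (h a ha h1.symm)
  rcases four_cases h4 h2 ha hbW ha1 hb1 hab (hk a ha) with h1 | h1 | h1 | h1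
  · exfalso
    apply ha1
    have : a = k⁻¹ * (k * a * k⁻¹) * k := by group
    rw [this, h1]; group
  · exact absurd (h' a ha h1) ha1
  · left
    exact fun y hy => Fpf.eq_of_eq h4 h2 hcom hg hk h h' ha ha1 h1 hy
  · right
    intro y hy
    refine Fpf.eq_of_eq h4 h2 hcom hg2 hk (Fpf.sq_fpf h4 h2 hcom hg h) h' ha ha1 ?_ hy
    rw [h1, Fpf.sq h4 h2 hcom hg h ha]

end four

/-- `M` acts on `Y ∩ K` -/
theorem conj_mem_inf (_c : Cx S Q M) {K : Subgroup G} (hK : K.Normal) {m : G} (hm : m ∈ M) :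
    ∀ w ∈ largestPReducedOf 2 M ⊓ K, m * w * m⁻¹ ∈ largestPReducedOf 2 M ⊓ K := by
  rintro w ⟨hw, hwK⟩
  exact ⟨(mem_normalizer_iff.1 (largest_normal 2 M hm) w).1 hw, hK.conj_mem w hwK m⟩

/-- some element of `M` acts fixed-point-freely on `Y ∩ K` -/
theorem exists_fpf (c : Cx S Q M) {K : Subgroup G} (hK : K.Normal) (h2 : 2 ∣ Nat.card ↥K)
    (h4 : Nat.card ↥(largestPReducedOf 2 M ⊓ K : Subgroup G) ≤ 4) :
    ∃ e ∈ M, Fpf (largestPReducedOf 2 M ⊓ K) e := by
  have hfact : Fact (Nat.Prime 2) := ⟨Nat.prime_two⟩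
  obtain ⟨z, hzK, hzS, hzc, hz2, hz1⟩ := exists_z S K h2
  obtain ⟨W, hW⟩ : ∃ W, W = largestPReducedOf 2 M ⊓ K := ⟨_, rfl⟩
  have hact : ∀ m ∈ M, ∀ w ∈ W, m * w * m⁻¹ ∈ W := fun m hm => by rw [hW]; exact conj_mem_inf c hK hm
  rw [← hW] at h4 ⊢
  have hsq : ∀ w ∈ W, w ^ 2 = 1 := fun w hw => by rw [hW] at hw; exact c.Y_ea.2 _ hw.1
  have hcom : ∀ a ∈ W, ∀ b ∈ W, a * b = b * a := fun a ha b hb => by
    rw [hW] at ha hb; exact ea_comm c.Y_ea ha.1 hb.1
  have hzW : z ∈ W := by rw [hW]; exact ⟨c.center_mem_Y hzc hz2, hzK⟩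
  have hne : ∀ m ∈ M, ∀ w ∈ W, w ≠ 1 → m * w * m⁻¹ ≠ 1 := by
    intro m _ w _ hw1 h
    apply hw1
    calc w = m⁻¹ * (m * w * m⁻¹) * m := by group
      _ = 1 := by rw [h]; group
  have hinj : ∀ m a b : G, m * a * m⁻¹ = m * b * m⁻¹ → a = b := by
    intro m a b h
    calc a = m⁻¹ * (m * a * m⁻¹) * m := by group
      _ = m⁻¹ * (m * b * m⁻¹) * m := by rw [h]
      _ = b := by group
  -- `z` is moved
  obtain ⟨m₁, hm₁, hmz⟩ : ∃ m ∈ M, m * z * m⁻¹ ≠ z := by
    by_contra hcon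
    push Not at hcon
    apply c.not_M_le hzc hz2 hz1
    intro m hm
    rw [mem_centralizer_singleton_iff]
    calc m * z = m * z * m⁻¹ * m := by group
      _ = z * m := by rw [hcon m hm]
  obtain ⟨w, hw⟩ : ∃ w, w = m₁ * z * m₁⁻¹ := ⟨_, rfl⟩
  have hwW : w ∈ W := by rw [hw]; exact hact m₁ hm₁ z hzW
  have hw1 : w ≠ 1 := by rw [hw]; exact hne m₁ hm₁ z hzW hz1
  have hzw : z ≠ w := by rw [hw]; exact hmz.symm
  have cases := fun {y : G} (hy : y ∈ W) => four_cases h4 hsq hzW hwW hz1 hw1 hzw hy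
  have hzz : z * z = 1 := by rw [← pow_two]; exact hz2
  have hww : w * w = 1 := by rw [← pow_two]; exact hsq w hwW
  have hwz : w * z = z * w := hcom w hwW z hzW
  have hzw1 : z * w ≠ 1 := fun h => hzw (by
    calc z = z * (z * w) := by rw [h, mul_one]
      _ = w := by rw [← mul_assoc, hzz, one_mul])
  -- the orbit of `z` is not `{z, w}`
  obtain ⟨m₂, hm₂, hmzw⟩ : ∃ m ∈ M, m * z * m⁻¹ = z * w := by
    by_contra hcon
    push Not at hcon
    have horb : ∀ m ∈ M, m * z * m⁻¹ = z ∨ m * z * m⁻¹ = w := by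
      intro m hm
      rcases cases (hact m hm z hzW) with h | h | h | h
      · exact absurd h (hne m hm z hzW hz1)
      · exact Or.inl h
      · exact Or.inr h
      · exact absurd h (hcon m hm)
    have hSle : (S : Subgroup G) ≤ centralizer ({z} : Set G) := by
      intro s hs
      rw [mem_centralizer_singleton_iff]
      exact mem_centralizer_iff.1 hzc s hs
    have hodd : ¬ 2 ∣ (centralizer ({z} : Set G)).relIndex M := by
      intro hdv
      refine S.not_dvd_index (hdv.trans ?_)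
      refine (relIndex_dvd_of_le_left M hSle).trans ?_
      exact relIndex_dvd_index_of_le c.st.SM
    apply hodd
    have hidx : ((centralizer ({z} : Set G)).subgroupOf M).index = 2 := by
      rw [Subgroup.index_eq_two_iff']
      refine ⟨⟨m₁, hm₁⟩⁻¹, fun b => ?_⟩
      rw [mem_subgroupOf, mem_subgroupOf, mem_centralizer_singleton_iff, mem_centralizer_singleton_iff]
      have e1 : ((⟨m₁, hm₁⟩⁻¹ * b : ↥M) : G) = m₁⁻¹ * b := rfl
      rw [e1]
      have hcz : ∀ g : G, g * z = z * g ↔ g * z * g⁻¹ = z := fun g => by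
        constructor
        · intro h; rw [h]; group
        · intro h
          calc g * z = g * z * g⁻¹ * g := by group
            _ = z * g := by rw [h]
      rw [hcz, hcz]
      have e2 : m₁⁻¹ * b * z * (m₁⁻¹ * b)⁻¹ = z ↔ (b : G) * z * (b : G)⁻¹ = w := by
        constructor
        · intro h
          calc (b : G) * z * (b : G)⁻¹ = m₁ * (m₁⁻¹ * b * z * (m₁⁻¹ * b)⁻¹) * m₁⁻¹ := by group
            _ = w := by rw [h, hw]
        · intro h
          calc m₁⁻¹ * b * z * (m₁⁻¹ * b)⁻¹ = m₁⁻¹ * ((b : G) * z * (b : G)⁻¹) * m₁ := by group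
            _ = z := by rw [h, hw]; group
      rw [e2]
      rcases horb b b.2 with h | h
      · exact Or.inr ⟨h, fun h' => hzw (h.symm.trans h')⟩
      · exact Or.inl ⟨h, fun h' => hzw (h'.symm.trans h)⟩
    unfold relIndex
    rw [hidx]
  -- if `m ∈ M` is not fixed-point-free it fixes one of `w`, `z w`
  have hmul : ∀ m a b : G, m * (a * b) * m⁻¹ = (m * a * m⁻¹) * (m * b * m⁻¹) := by intro m a b; group
  by_contra hcon
  push Not at hcon
  have hfix : ∀ m ∈ M, ∃ y ∈ W, m * y * m⁻¹ = y ∧ y ≠ 1 := by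
    intro m hm
    have := hcon m hm
    unfold Fpf at this
    push Not at this
    exact this
  -- `m₁` interchanges `z` and `w`
  have h1 : m₁ * w * m₁⁻¹ = z := by
    obtain ⟨y, hy, hyf, hy1⟩ := hfix m₁ hm₁
    rcases cases hy with rfl | rfl | rfl | rfl
    · exact absurd rfl hy1
    · exact absurd hyf hmz
    · exfalso
      exact hzw (hinj m₁ _ _ (by rw [hyf, ← hw]))
    · rw [hmul, ← hw] at hyf
      calc m₁ * w * m₁⁻¹ = w * (w * (m₁ * w * m₁⁻¹)) := by rw [← mul_assoc, hww, one_mul]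
        _ = w * (z * w) := by rw [hyf]
        _ = w * (w * z) := by rw [hwz]
        _ = z := by rw [← mul_assoc, hww, one_mul]
  -- `m₂` interchanges `z` and `z w`, fixes `w`
  have h2' : m₂ * w * m₂⁻¹ = w := by
    obtain ⟨y, hy, hyf, hy1⟩ := hfix m₂ hm₂
    rcases cases hy with rfl | rfl | rfl | rfl
    · exact absurd rfl hy1
    · exfalso
      rw [hmzw] at hyf
      exact hw1 (mul_eq_left.1 hyf)
    · exact hyf
    · exfalso
      rw [hmul, hmzw] at hyf
      have h5 : m₂ * w * m₂⁻¹ = 1 := mul_eq_left.1 hyf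
      exact hne m₂ hm₂ w hwW hw1 h5
  -- the product is fixed-point-free
  obtain ⟨y, hy, hyf, hy1⟩ := hfix (m₁ * m₂) (M.mul_mem hm₁ hm₂)
  have h6 : ∀ y : G, m₁ * m₂ * y * (m₁ * m₂)⁻¹ = m₁ * (m₂ * y * m₂⁻¹) * m₁⁻¹ := by intro y; group
  rw [h6] at hyf
  rcases cases hy with rfl | rfl | rfl | rfl
  · exact absurd rfl hy1
  · rw [hmzw, hmul, ← hw, h1] at hyf
    rw [hwz] at hyf
    exact hw1 (mul_eq_left.1 hyf)
  · rw [h2', h1] at hyf
    exact hzw hyf
  · have h7 : m₂ * (z * w) * m₂⁻¹ = z := by rw [hmul, hmzw, h2', mul_assoc, hww, mul_one]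
    rw [h7, ← hw] at hyf
    exact hz1 (mul_eq_right.1 hyf.symm)

/-- **If `G/K` is an abelian 2-group and `|Y ∩ K| ≤ 4` then `Y ≤ K`.** -/
theorem Y_le_of_card_four (c : Cx S Q M) {K : Subgroup G} (hK : K.Normal) (h2 : 2 ∣ Nat.card ↥K)
    (h4 : Nat.card ↥(largestPReducedOf 2 M ⊓ K : Subgroup G) ≤ 4)
    (hab : ∀ a b : G, a * b * a⁻¹ * b⁻¹ ∈ K) (hG2 : ∀ g : G, ∃ k : ℕ, g ^ 2 ^ k ∈ K) :
    largestPReducedOf 2 M ≤ K := by
  obtain ⟨e, heM, he⟩ := exists_fpf c hK h2 h4
  obtain ⟨Y, hY⟩ : ∃ Y, Y = largestPReducedOf 2 M := ⟨_, rfl⟩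
  obtain ⟨W, hW⟩ : ∃ W, W = largestPReducedOf 2 M ⊓ K := ⟨_, rfl⟩
  have hact : ∀ m ∈ M, ∀ w ∈ W, m * w * m⁻¹ ∈ W := fun m hm => by rw [hW]; exact conj_mem_inf c hK hm
  have hWY : W ≤ Y := by rw [hW, hY]; exact inf_le_left
  have hactY : ∀ m ∈ M, ∀ w ∈ Y, m * w * m⁻¹ ∈ Y := fun m hm w hw => by
    rw [hY] at hw ⊢; exact (mem_normalizer_iff.1 (largest_normal 2 M hm) w).1 hw
  have hsqY : ∀ w ∈ Y, w ^ 2 = 1 := fun w hw => by rw [hY] at hw; exact c.Y_ea.2 _ hw
  have hcomY : ∀ a ∈ Y, ∀ b ∈ Y, a * b = b * a := fun a ha b hb => by rw [hY] at ha hb; exact ea_comm c.Y_ea ha hb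
  have hcl := c.cent_inf_le (K := K)
  rw [← hW] at h4 he hcl
  rw [← hY] at hcl ⊢
  have hsq : ∀ w ∈ W, w ^ 2 = 1 := fun w hw => hsqY w (hWY hw)
  have hcom : ∀ a ∈ W, ∀ b ∈ W, a * b = b * a := fun a ha b hb => hcomY a (hWY ha) b (hWY hb)
  -- a fixed-point-free element of `M ∩ K`
  obtain ⟨d, hdM, hdK, hd⟩ : ∃ d ∈ M, d ∈ K ∧ Fpf W d := by
    obtain ⟨k, hk⟩ := hG2 e
    refine ⟨e ^ 2 ^ k, pow_mem heM _, hk, ?_⟩
    clear hk
    induction k with
    | zero => rw [pow_zero, pow_one]; exact he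
    | succ k ih =>
      rw [pow_succ, pow_mul]
      exact Fpf.sq_fpf h4 hsq hcom (hact _ (pow_mem heM _)) ih
  -- elements of `M ∩ K` centralising `W` centralise `Y`
  have hcent : ∀ b ∈ M, b ∈ K → (∀ w ∈ W, b * w * b⁻¹ = w) → ∀ y ∈ Y, b * y * b⁻¹ = y := by
    intro b hbM hbK hb y hy
    have h1 : b ∈ centralizer (Y : Set G) := by
      refine hcl (mem_inf.2 ⟨mem_inf.2 ⟨hbM, hbK⟩, ?_⟩)
      rw [mem_centralizer_iff]
      intro w hw
      calc w * b = b * w * b⁻¹ * b := by rw [hb w hw]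
        _ = b * w := by group
    rw [← mem_centralizer_iff.1 h1 y hy]; group
  have hd3 : ∀ y ∈ Y, d ^ 3 * y * (d ^ 3)⁻¹ = y :=
    hcent _ (pow_mem hdM 3) (pow_mem hdK 3) fun w hw => Fpf.cube h4 hsq hcom (hact d hdM) hd hw
  intro x hx
  by_contra hxK
  -- the fixed point of `d`
  obtain ⟨x₁, hx₁⟩ : ∃ x₁, x₁ = d * x * d⁻¹ := ⟨_, rfl⟩
  obtain ⟨x₂, hx₂⟩ : ∃ x₂, x₂ = d * x₁ * d⁻¹ := ⟨_, rfl⟩
  have hx₁Y : x₁ ∈ Y := by rw [hx₁]; exact hactY d hdM x hx
  have hx₂Y : x₂ ∈ Y := by rw [hx₂]; exact hactY d hdM x₁ hx₁Y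
  have hx₃ : d * x₂ * d⁻¹ = x := by
    rw [← hd3 x hx, hx₂, hx₁, pow_succ' d 2, pow_two]; group
  obtain ⟨f, hf⟩ : ∃ f, f = x * x₁ * x₂ := ⟨_, rfl⟩
  have hfY : f ∈ Y := by rw [hf]; exact mul_mem (mul_mem hx hx₁Y) hx₂Y
  have hfd : d * f * d⁻¹ = f := by
    calc d * f * d⁻¹ = (d * x * d⁻¹) * (d * x₁ * d⁻¹) * (d * x₂ * d⁻¹) := by rw [hf]; group
      _ = x₁ * x₂ * x := by rw [← hx₁, ← hx₂, hx₃]
      _ = x * (x₁ * x₂) := hcomY _ (mul_mem hx₁Y hx₂Y) x hx
      _ = f := by rw [hf, mul_assoc]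
  have hfK : f ∉ K := by
    intro h
    apply hxK
    -- `x₁ x⁻¹`, `x₂ x₁⁻¹ ∈ K`
    have e1 : x₁ * x⁻¹ ∈ K := by
      have : x₁ * x⁻¹ = d * (x * d⁻¹ * x⁻¹) := by rw [hx₁]; group
      rw [this]
      exact mul_mem hdK (hK.conj_mem _ (inv_mem hdK) x)
    have e2 : x₂ * x₁⁻¹ ∈ K := by
      have : x₂ * x₁⁻¹ = d * (x₁ * d⁻¹ * x₁⁻¹) := by rw [hx₂]; group
      rw [this]
      exact mul_mem hdK (hK.conj_mem _ (inv_mem hdK) x₁)
    -- `x = f (x₁ x₂)⁻¹`, `x₁ x₂ ∈ K` since `x₁² = 1`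
    have e3 : x₁ * x₂ ∈ K := by
      have h5 : x₁ * x₁ = 1 := by rw [← pow_two]; exact hsqY x₁ hx₁Y
      have : x₁ * x₂ = x₂ * x₁⁻¹ := by
        rw [hcomY x₁ hx₁Y x₂ hx₂Y, inv_eq_of_mul_eq_one_left h5]
      rw [this]
      exact e2
    have e4 : x = f * (x₁ * x₂)⁻¹ := by rw [hf]; group
    rw [e4]
    exact mul_mem h (inv_mem e3)
  -- `f` is centralised by `M`
  have hzne : ∃ a ∈ W, a ≠ 1 := by
    obtain ⟨z, hzK, hzS, hzc, hz2, hz1⟩ := exists_z S K h2
    exact ⟨z, by rw [hW]; exact ⟨c.center_mem_Y hzc hz2, hzK⟩, hz1⟩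
  obtain ⟨a, haW, ha1⟩ := hzne
  have hfM : M ≤ centralizer ({f} : Set G) := by
    intro m hm
    rw [mem_centralizer_singleton_iff]
    obtain ⟨k, hk⟩ : ∃ k, k = m * d * m⁻¹ := ⟨_, rfl⟩
    have hkM : k ∈ M := by rw [hk]; exact mul_mem (mul_mem hm hdM) (inv_mem hm)
    have hkK : k ∈ K := by rw [hk]; exact hK.conj_mem d hdK m
    have hkf : Fpf W k := by
      intro y hy h
      have hy' : m⁻¹ * y * m ∈ W := by
        have := hact m⁻¹ (inv_mem hm) y hy
        rwa [inv_inv] at this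
      have e1 : d * (m⁻¹ * y * m) * d⁻¹ = m⁻¹ * y * m := by
        calc d * (m⁻¹ * y * m) * d⁻¹ = m⁻¹ * (k * y * k⁻¹) * m := by rw [hk]; group
          _ = _ := by rw [h]
      have e2 := hd _ hy' e1
      calc y = m * (m⁻¹ * y * m) * m⁻¹ := by group
        _ = 1 := by rw [e2]; group
    obtain ⟨f', hf'⟩ : ∃ f', f' = m * f * m⁻¹ := ⟨_, rfl⟩
    have hf'Y : f' ∈ Y := by rw [hf']; exact hactY m hm f hfY
    have hkf' : k * f' * k⁻¹ = f' := by
      calc k * f' * k⁻¹ = m * (d * f * d⁻¹) * m⁻¹ := by rw [hk, hf']; group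
        _ = f' := by rw [hfd, hf']
    have hdf' : d * f' * d⁻¹ = f' := by
      rcases Fpf.dichotomy h4 hsq hcom (hact d hdM) (hact k hkM) hd hkf haW ha1 with h | h
      · have e1 : ∀ y ∈ Y, (d⁻¹ * k) * y * (d⁻¹ * k)⁻¹ = y := by
          refine hcent _ (mul_mem (inv_mem hdM) hkM) (mul_mem (inv_mem hdK) hkK) fun w hw => ?_
          calc d⁻¹ * k * w * (d⁻¹ * k)⁻¹ = d⁻¹ * (k * w * k⁻¹) * d := by group
            _ = w := by rw [h w hw]; group
        have e2 := e1 f' hf'Y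
        calc d * f' * d⁻¹ = d * (d⁻¹ * k * f' * (d⁻¹ * k)⁻¹) * d⁻¹ := by rw [e2]
          _ = k * f' * k⁻¹ := by group
          _ = f' := hkf'
      · have e1 : ∀ y ∈ Y, ((d ^ 2)⁻¹ * k) * y * ((d ^ 2)⁻¹ * k)⁻¹ = y := by
          refine hcent _ (mul_mem (inv_mem (pow_mem hdM 2)) hkM) (mul_mem (inv_mem (pow_mem hdK 2)) hkK) fun w hw => ?_
          calc (d ^ 2)⁻¹ * k * w * ((d ^ 2)⁻¹ * k)⁻¹ = (d ^ 2)⁻¹ * (k * w * k⁻¹) * d ^ 2 := by group
            _ = w := by rw [h w hw]; group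
        have e2 := e1 f' hf'Y
        have e3 : d ^ 2 * f' * (d ^ 2)⁻¹ = f' := by
          calc d ^ 2 * f' * (d ^ 2)⁻¹ = d ^ 2 * ((d ^ 2)⁻¹ * k * f' * ((d ^ 2)⁻¹ * k)⁻¹) * (d ^ 2)⁻¹ := by rw [e2]
            _ = k * f' * k⁻¹ := by group
            _ = f' := hkf'
        calc d * f' * d⁻¹ = d * (d ^ 2 * f' * (d ^ 2)⁻¹) * d⁻¹ := by rw [e3]
          _ = d ^ 3 * f' * (d ^ 3)⁻¹ := by rw [pow_succ' d 2]; group
          _ = f' := hd3 f' hf'Y
    have e1 : f' * f⁻¹ ∈ W := by
      rw [hW, ← hY]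
      refine mem_inf.2 ⟨mul_mem hf'Y (inv_mem hfY), ?_⟩
      rw [hf']
      exact hab m f
    have e2 := hd _ e1 (by
      calc d * (f' * f⁻¹) * d⁻¹ = (d * f' * d⁻¹) * (d * f * d⁻¹)⁻¹ := by group
        _ = f' * f⁻¹ := by rw [hdf', hfd])
    have e3 : f' = f := mul_inv_eq_one.1 e2
    calc m * f = m * f * m⁻¹ * m := by group
      _ = f * m := by rw [← hf', e3]
  have h7 := c.fix f (by rw [← hY]; exact hfY) hfM
  exact hfK (h7 ▸ one_mem K)

end Cfsg.Agent.H215.LT
end

-- part: H215/L2Out/Rgd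
section
/-!
Characteristic two: an automorphism of order two of a group with a root group datum which is trivial on the unipotent
radical `V_J` of a proper parabolic subgroup is inner.
-/

set_option autoImplicit false
set_option linter.unusedSectionVars false

namespace Cfsg.Agent.H215.L2Out.Rgd

open CoxeterSystem Cfsg.Agent.ChevalleyStructure.CoxeterGeom Cfsg.Agent.Tits.Roots Cfsg.Agent.Tits.Core
  Cfsg.Agent.Tits.Exchange Cfsg.Agent.Nodes.Reps Cfsg.Agent.Nodes.BNOf Cfsg.Agent.Nodes.StabComb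
  Cfsg.Agent.Nodes.Bruhat Cfsg.Agent.Nodes.OppDec Cfsg.Agent.Nodes.LeviDec Cfsg.Agent.Nodes.NormalForm
  Cfsg.Agent.Nodes.NormX Cfsg.Agent.KFacts.RgdCent Cfsg.Agent.KFacts.RgdVJ
  Cfsg.Agent.KFacts.RgdOpp Cfsg.Agent.KFacts.RgdAut Cfsg.Agent.KFacts.RgdDiag Cfsg.Agent.KFacts.RgdRigid
  Cfsg.Agent.KFacts.RgdFixU Cfsg.Agent.H246.RgdFixUTwo Cfsg.Agent.KFacts.RgdCharP
open scoped commutatorElement

variable {I W Y : Type*} [Fintype I] [DecidableEq I] [Group W] [Group Y] {M : CoxeterMatrix I}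
  {cs : CoxeterSystem M W} {A : I → I → ℤ} {h : IsCartan M A} {T : Subgroup Y} {n : I → Y}
  {X : (I → ℤ) → Subgroup Y}

theorem VJ_le_PosNe {i : I} {J : Set I} (hi : i ∈ J) : VJ cs h X J ≤ RGD.Sup X (RGD.PosNe cs h i) := by
  refine RGD.Sup_mono ?_
  rintro x ⟨h1, h2, k, hk, hk0⟩
  refine ⟨h1, h2, ?_⟩
  rintro rfl
  have hne : k ≠ i := by
    rintro rfl
    exact hk hi
  rw [sr_ne hne] at hk0
  exact absurd hk0 (lt_irrefl 0)

variable (R : RGD cs h 2 T n X)

include R

/-- **An automorphism of order two trivial on `V_J` is inner.** -/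
theorem eq_conj_of_fix_VJ [Finite W] [Finite Y] (hG1 : RGD.Sup X {x | IsRoot cs h x} = ⊤)
    (hN : NoCent cs h T X) (hconn : Conn M) {J : Set I} (hJ : J ≠ Set.univ) {α : MulAut Y}
    (hα2 : α * α = 1) (hα : ∀ x ∈ VJ cs h X J, α x = x) :
    ∃ z ∈ RGD.Sup X (RGD.Pos cs h), α = MulAut.conj z := by
  have hG := GG_eq_top (T := T) hG1
  -- `α g ∈ g V_J` for `g ∈ P_J`
  have hcoset : ∀ g ∈ PJ cs h T X J, g⁻¹ * α g ∈ VJ cs h X J := by
    intro g hg
    have hgN := PJ_le_normalizer_VJ R J hg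
    refine cent_VJ_le R hN hconn hJ (Subgroup.mem_inf.2 ⟨?_, by rw [hG]; trivial⟩)
    rw [Subgroup.mem_centralizer_iff]
    intro v hv
    have h1 : g * v * g⁻¹ ∈ VJ cs h X J := (Subgroup.mem_normalizer_iff.1 hgN v).1 hv
    have h2 : α g * v * (α g)⁻¹ = g * v * g⁻¹ := by
      have h3 := hα _ h1
      rw [map_mul, map_mul, map_inv, hα v hv] at h3
      exact h3
    calc v * (g⁻¹ * α g) = g⁻¹ * (g * v * g⁻¹) * α g := by group
      _ = g⁻¹ * (α g * v * (α g)⁻¹) * α g := by rw [h2]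
      _ = _ := by group
  have hUP : RGD.Sup X (RGD.Pos cs h) ≤ PJ cs h T X J := le_trans RGD.U_le_B B_le_PJ
  have hVU : VJ cs h X J ≤ RGD.Sup X (RGD.Pos cs h) := RGD.Sup_mono fun _ hx => ⟨hx.1, hx.2.1⟩
  have hUU : ∀ x ∈ RGD.Sup X (RGD.Pos cs h), α x ∈ RGD.Sup X (RGD.Pos cs h) := by
    intro x hx
    have h1 := mul_mem hx (hVU (hcoset x (hUP hx)))
    rwa [mul_inv_cancel_left] at h1
  have hαα : ∀ x, α (α x) = x := by
    intro x
    rw [← MulAut.mul_apply, hα2, MulAut.one_apply]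
  have hfix : Fix α (RGD.Sup X (RGD.Pos cs h)) := by
    intro x
    constructor
    · intro hx
      have h1 := hUU _ hx
      rwa [hαα] at h1
    · exact hUU x
  obtain ⟨u, hu, hU, hUN, hpow, σ, D⟩ := exists_frame_pow R hG hfix
  have hX : ∀ i, X (sr i) ≤ RGD.Sup X (RGD.Pos cs h) := fun i =>
    RGD.le_Sup (S := RGD.Pos cs h) ⟨isRoot_sr cs h i, sr_nonneg i⟩
  have hβ : ∀ x, (MulAut.conj u * α) x = u * α x * u⁻¹ := by
    intro x
    rw [MulAut.mul_apply, MulAut.conj_apply]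
  -- `α` is trivial on `X_i` modulo `V_i`
  have hA : ∀ i, ∀ x ∈ X (sr i), x⁻¹ * α x ∈ RGD.Sup X (RGD.PosNe cs h i) := by
    intro i x hx
    by_cases hi : i ∈ J
    · exact VJ_le_PosNe hi (hcoset x (hUP (hX i hx)))
    · have h1 : x ∈ VJ cs h X J := RGD.le_Sup (S := NotJ cs h J) (sr_mem_NotJ hi) hx
      rw [hα x h1, inv_mul_cancel]
      exact one_mem _
  -- `u * α u = 1`
  have huu : u * α u = 1 := by
    apply eq_one_of_fix_conj R hG (mul_mem hu (hUU u hu))
    have h1 := hpow 2 (by rw [pow_two, hα2])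
    have h2 : (MulAut.conj (u * α u) : MulAut Y) = 1 := by
      rw [← h1, pow_two]
      ext x
      simp only [MulAut.mul_apply, MulAut.conj_apply, map_mul, map_inv, mul_inv_rev]
      rw [hαα]
    rw [h2]
    intro x
    rfl
  -- `σ = 1`
  have hσ : ∀ i, σ i = i := by
    intro i
    by_contra hne
    obtain ⟨x, hx, hx1⟩ := exists_ne_one R i
    have h1 := (D.pos i x).2 hx
    rw [hβ x] at h1
    have h2 : u * α x * u⁻¹ ∈ RGD.Sup X (RGD.PosNe cs h i) := by
      refine RGD.le_Sup (S := RGD.PosNe cs h i) ⟨isRoot_sr cs h (σ i), sr_nonneg _, ?_⟩ h1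
      intro h3
      have h4 := congrFun h3 (σ i)
      rw [sr_self, sr_ne hne] at h4
      exact one_ne_zero h4
    have h3 : α x ∈ RGD.Sup X (RGD.PosNe cs h i) :=
      (Subgroup.mem_normalizer_iff.1 (U_le_normalizer_V R i hu) _).2 h2
    have h4 : x ∈ RGD.Sup X (RGD.PosNe cs h i) := by
      have h5 := mul_mem h3 (inv_mem (hA i x hx))
      have h6 : α x * (x⁻¹ * α x)⁻¹ = x := by group
      rwa [h6] at h5
    exact hx1 (eq_one_of_mem_PosNe R hx h4)
  have hσ1 : σ = 1 := Equiv.ext hσ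
  subst hσ1
  -- `α` preserves `V_i`
  have hB : ∀ i, ∀ v ∈ RGD.Sup X (RGD.PosNe cs h i), α v ∈ RGD.Sup X (RGD.PosNe cs h i) := by
    intro i v hv
    have h1 : RGD.Sup X (RGD.PosNe cs h i) ≤
        (RGD.Sup X (RGD.PosNe cs h i)).comap (MulAut.conj u * α : MulAut Y).toMonoidHom := by
      refine RGD.Sup_le fun r hr x hx => ?_
      rw [Subgroup.mem_comap]
      have h2 := (D.root_comp R (fun i j => rfl) hr.1 x).2 hx
      exact RGD.le_Sup (S := RGD.PosNe cs h i) hr h2
    have h2 : u * α v * u⁻¹ ∈ RGD.Sup X (RGD.PosNe cs h i) := by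
      rw [← hβ]
      exact h1 hv
    exact (Subgroup.mem_normalizer_iff.1 (U_le_normalizer_V R i hu) _).2 h2
  -- `β` is trivial on the simple root groups
  have hpos : ∀ i, ∀ x ∈ X (sr i), (MulAut.conj u * α) x = x := by
    intro i x hx
    have h1 := (D.pos i x).2 hx
    rw [Equiv.Perm.one_apply, hβ x] at h1
    rw [hβ x]
    obtain ⟨a, ha, v, hv, rfl⟩ := exists_mul_V R i hu
    have hVn : ∀ g ∈ RGD.Sup X (RGD.Pos cs h), ∀ w ∈ RGD.Sup X (RGD.PosNe cs h i),
        g * w * g⁻¹ ∈ RGD.Sup X (RGD.PosNe cs h i) := fun g hg w hw =>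
      (Subgroup.mem_normalizer_iff.1 (U_le_normalizer_V R i hg) w).1 hw
    -- `a² = 1`
    have haU := hX i ha
    have hvU := V_le_U R i hv
    have haa : a * a = 1 := by
      refine eq_one_of_mem_PosNe R (mul_mem ha ha) ?_
      have h4 : a * a = (a⁻¹ * v * a * (a⁻¹ * α a) * α v)⁻¹ := by
        have h5 : a * a * (a⁻¹ * v * a * (a⁻¹ * α a) * α v) = a * v * α (a * v) := by
          rw [map_mul]; group
        exact eq_inv_of_mul_eq_one_left (h5.trans huu)
      rw [h4]
      refine inv_mem (mul_mem (mul_mem ?_ (hA i a ha)) (hB i v hv))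
      have h5 := hVn a⁻¹ (inv_mem haU) v hv
      rwa [inv_inv] at h5
    -- `a` is central in `X i`
    have hax : a * x = x * a := (ro R i).central ha haa hx
    obtain ⟨w, hw⟩ : ∃ w, w = x⁻¹ * α x := ⟨_, rfl⟩
    have hwV : w ∈ RGD.Sup X (RGD.PosNe cs h i) := by rw [hw]; exact hA i x hx
    have hαx : α x = x * w := by rw [hw]; group
    have h2 : a * v * α x * (a * v)⁻¹ * x⁻¹ ∈ X (sr i) := mul_mem h1 (inv_mem hx)
    have h3 : a * v * α x * (a * v)⁻¹ * x⁻¹ = a * v * a⁻¹ * (a * x * w * (a * x)⁻¹) * (a * x * v⁻¹ * (a * x)⁻¹) := by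
      have h4 : (a * x)⁻¹ = a⁻¹ * x⁻¹ := by rw [hax, mul_inv_rev]
      have h5 : a * v * α x * (a * v)⁻¹ * x⁻¹ = a * v * a⁻¹ * (a * x * w * (a * x)⁻¹) * (a * x * v⁻¹) * (a⁻¹ * x⁻¹) := by
        rw [hαx]; group
      rw [h5, h4]; group
    have h4 : a * v * α x * (a * v)⁻¹ * x⁻¹ ∈ RGD.Sup X (RGD.PosNe cs h i) := by
      rw [h3]
      exact mul_mem (mul_mem (hVn a haU v hv) (hVn _ (mul_mem haU (hX i hx)) w hwV))
        (hVn _ (mul_mem haU (hX i hx)) _ (inv_mem hv))
    exact mul_inv_eq_one.1 (eq_one_of_mem_PosNe R h2 h4)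
  have h1 := Diag.eq_one R hG1 D hpos
  refine ⟨u⁻¹, inv_mem hu, ?_⟩
  rw [map_inv]
  exact eq_inv_of_mul_eq_one_right h1

end Cfsg.Agent.H215.L2Out.Rgd
end

-- part: H215/L2Out/Filt
section
/-!
Simple groups of Lie type in characteristic two: an automorphism of order two which is trivial on `O_2(H)`, where the
subgroup `H` contains a Sylow 2-subgroup and `O_2(H) ≠ 1`, is inner.
-/

set_option autoImplicit false

namespace Cfsg.Agent.H215.L2Out.Filt

open CoxeterSystem Cfsg.Agent.ChevalleyStructure.CoxeterGeom Cfsg.Agent.Tits.Roots Cfsg.Agent.Tits.Core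
  Cfsg.Agent.Tits.Exchange Cfsg.Agent.Nodes.Reps Cfsg.Agent.Nodes.BNOf Cfsg.Agent.Nodes.StabComb
  Cfsg.Agent.Nodes.Bruhat Cfsg.Agent.Nodes.OppDec Cfsg.Agent.Nodes.LeviDec Cfsg.Agent.Nodes.NormalForm
  Cfsg.Agent.Nodes.NormX Cfsg.Agent.KFacts.RgdCent Cfsg.Agent.KFacts.RgdVJ
  Cfsg.Agent.KFacts.RgdOpp Cfsg.Agent.KFacts.RgdAut Cfsg.Agent.KFacts.RgdDiag Cfsg.Agent.KFacts.RgdRigid
  Cfsg.Agent.KFacts.RgdFixU Cfsg.Agent.H246.RgdFixUTwo Cfsg.Agent.KFacts.RgdCharP Cfsg.Agent.KFacts.RgdFilt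

/-- `D = O_2(H)` for a subgroup `H` containing the Sylow subgroup `S`, in terms of subgroups of the whole group. -/
structure Core {G : Type*} [Group G] (S : Subgroup G) (H D : Subgroup G) : Prop where
  syl : S ≤ H
  le : D ≤ H
  two : IsPGroup 2 D
  nml : ∀ g ∈ H, ∀ d ∈ D, g * d * g⁻¹ ∈ D
  max : ∀ E : Subgroup G, E ≤ H → IsPGroup 2 E → (∀ g ∈ H, ∀ e ∈ E, g * e * g⁻¹ ∈ E) → E ≤ D

theorem le_normalizer_of {G : Type*} [Group G] {H D : Subgroup G} (h : ∀ g ∈ H, ∀ d ∈ D, g * d * g⁻¹ ∈ D) :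
    H ≤ Subgroup.normalizer (D : Set G) := by
  intro g hg
  rw [Subgroup.mem_normalizer_iff]
  refine fun d => ⟨h g hg d, fun hd => ?_⟩
  have h1 := h g⁻¹ (inv_mem hg) _ hd
  have h2 : g⁻¹ * (g * d * g⁻¹) * g⁻¹⁻¹ = d := by group
  rwa [h2] at h1

theorem le_sylow_of {G : Type*} [Group G] [Finite G] {S : Sylow 2 G} {V : Subgroup G} (hV : IsPGroup 2 V)
    (h : (S : Subgroup G) ≤ Subgroup.normalizer (V : Set G)) : V ≤ S := by
  have h1 : IsPGroup 2 ↥((S : Subgroup G) ⊔ V) := IsPGroup.to_sup_of_normal_right' S.2 hV h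
  have h2 := S.3 h1 le_sup_left
  rw [← h2]
  exact le_sup_right

variable {G : Type*} [Group G] [Finite G] [IsSimpleGroup G]

/-- **The case of a root group datum with filtration.** -/
theorem inner_of_filt (hG : HasFilt 2 G) (hc : ∃ a b : G, a * b ≠ b * a) {α : MulAut G} (hα2 : α * α = 1)
    {S : Sylow 2 G} {H D : Subgroup G} (hD : Core (S : Subgroup G) H D) (hD1 : D ≠ ⊥) (hα : ∀ d ∈ D, α d = d) :
    ∃ z, α = MulAut.conj z := by
  have : Fact (Nat.Prime 2) := ⟨Nat.prime_two⟩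
  obtain ⟨l, M, A, h, T, n, X, R, hW, hBT, hGG, hN, hconn, hX, hl⟩ := hG.data hc
  obtain ⟨g, J, hJ, h1, h2⟩ := hBT D hD.two hD1
  set V := cj g (VJ M.toCoxeterSystem h X J) with hV
  have hVp : IsPGroup 2 V := by
    rw [hV]; unfold cj
    exact (isPGroup_VJ R J).map _
  have hPN : ∀ y ∈ cj g (PJ M.toCoxeterSystem h T X J), ∀ v ∈ V, y * v * y⁻¹ ∈ V := by
    intro y hy v hv
    rw [hV, mem_cj] at hv ⊢
    rw [mem_cj] at hy
    have h1 := (Subgroup.mem_normalizer_iff.1 (PJ_le_normalizer_VJ R J hy) _).1 hv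
    have h2 : g⁻¹ * y * g * (g⁻¹ * v * g) * (g⁻¹ * y * g)⁻¹ = g⁻¹ * (y * v * y⁻¹) * g := by group
    rwa [h2] at h1
  have hHN : H ≤ Subgroup.normalizer (D : Set G) := le_normalizer_of hD.nml
  have hHV : ∀ y ∈ H, ∀ v ∈ V, y * v * y⁻¹ ∈ V := fun y hy => hPN y (h2 (hHN hy))
  have hVS : V ≤ S := le_sylow_of hVp (le_trans hD.syl (le_normalizer_of hHV))
  have hVD : V ≤ D := hD.max V (le_trans hVS hD.syl) hVp hHV
  obtain ⟨z, -, hz⟩ := Rgd.eq_conj_of_fix_VJ R hX hN hconn hJ (α := MulAut.conj g⁻¹ * α * MulAut.conj g) (by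
      calc MulAut.conj g⁻¹ * α * MulAut.conj g * (MulAut.conj g⁻¹ * α * MulAut.conj g)
          = MulAut.conj g⁻¹ * (α * α) * MulAut.conj g := by rw [map_inv]; group
        _ = 1 := by rw [hα2, mul_one, ← map_mul, inv_mul_cancel, map_one]) (fun x hx => by
      have h2 := hα (g * x * g⁻¹) (hVD (conj_mem_cj.2 hx))
      show g⁻¹ * α (g * x * g⁻¹) * g⁻¹⁻¹ = x
      rw [h2]; group)
  refine ⟨g * z * g⁻¹, ?_⟩
  rw [map_mul, map_mul, ← hz, map_inv]; group

end Cfsg.Agent.H215.L2Out.Filt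
end

-- part: H215/L2Out/UThree
section
/-! The case of `U₃(3)`. -/

set_option autoImplicit false

namespace Cfsg.Agent.H215.L2Out.UThree

open Cfsg Matrix Cfsg.Agent.OddHalf.Small.U33
open Cfsg.Agent.Classification.RTwo.UThreeThree (K9 card_k9 psuEquiv IsGood)
open Cfsg.Agent.ClassicalGeometry.PSUAutBasic (pr pr_surjective)
open Cfsg.Agent.LieClassical.GUOrder
open Cfsg.Agent.H215.L2Out.Filt

/-- In a group of characteristic 2 type `O_2(H)` is self-centralising, if `H` contains a Sylow 2-subgroup. -/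
theorem cent_le_of_charTwo {X : Type*} [Group X] [Finite X] (h : IsCharacteristicTwoType X) {S : Sylow 2 X}
    {H D : Subgroup X} (hD : Core (S : Subgroup X) H D) (hD1 : D ≠ ⊥) : Subgroup.centralizer (D : Set X) ≤ D := by
  have hN := h.2 D hD.two hD1
  have hHN : H ≤ Subgroup.normalizer (D : Set X) := le_normalizer_of hD.nml
  obtain ⟨N, hNdef⟩ : ∃ N, N = Subgroup.normalizer (D : Set X) := ⟨_, rfl⟩
  rw [← hNdef] at hN hHN
  have hpn : (pCore 2 ↥N).Normal := Lib.Cores.pCore_normal 2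
  have hE2 : IsPGroup 2 ((pCore 2 ↥N).map N.subtype) := (Lib.Cores.pCore_isPGroup 2).map _
  have hEN : ∀ g ∈ N, ∀ e ∈ (pCore 2 ↥N).map N.subtype, g * e * g⁻¹ ∈ (pCore 2 ↥N).map N.subtype := by
    rintro g hg e ⟨e, he, rfl⟩
    exact ⟨⟨g, hg⟩ * e * ⟨g, hg⟩⁻¹, hpn.conj_mem e he ⟨g, hg⟩, rfl⟩
  have hES : (pCore 2 ↥N).map N.subtype ≤ S :=
    le_sylow_of hE2 (le_trans (le_trans hD.syl hHN) (le_normalizer_of hEN))
  have hED := hD.max _ (le_trans hES hD.syl) hE2 (fun g hg => hEN g (hHN hg))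
  intro y hy
  have hyN : y ∈ N := by rw [hNdef]; exact Subgroup.centralizer_le_normalizer _ hy
  have h1 : (⟨y, hyN⟩ : ↥N) ∈ pCore 2 ↥N := by
    apply hN
    rw [Subgroup.mem_centralizer_iff]
    rintro e he
    apply Subtype.ext
    exact Subgroup.mem_centralizer_iff.1 hy _ (hED ⟨e, he, rfl⟩)
  exact hED ⟨_, h1, rfl⟩

theorem pr_inj {x y : SU33} (h : pr 3 K9 3 x = pr 3 K9 3 y) : x = y :=
  congrArg (psuEquiv card_k9) h

def ii : K9 := ⟨0, 1⟩

theorem ii_mul : ii * ii = -1 := by decide +kernel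

/-- the matrix `diag(-1, i, i)` -/
def tauM : Matrix (Fin 3) (Fin 3) K9 := !![-1, 0, 0; 0, ⟨0, 1⟩, 0; 0, 0, ⟨0, 1⟩]

theorem isGood_tauM : IsGood tauM := by decide +kernel

def tau : SU33 := isGood_tauM.su

theorem mt_tau : mt tau = tauM := rfl

/-- the matrix of the cyclic permutation -/
def permM : Matrix (Fin 3) (Fin 3) K9 := !![0, 0, 1; 1, 0, 0; 0, 1, 0]

theorem isGood_permM : IsGood permM := by decide +kernel

def perm : SU33 := isGood_permM.su

theorem tau_pow : tau ^ 4 = 1 := by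
  apply mt_ext
  have h1 : tau ^ 4 = tau * tau * (tau * tau) := by rw [show 4 = 2 + 2 by norm_num, pow_add, pow_two]
  rw [h1, mt_mul, mt_mul, mt_tau, mt_one]
  decide +kernel

theorem comm_tau {x : SU33} (h : x * t0 = t0 * x) : x * tau = tau * x := by
  obtain ⟨h01, h02, h10, h20⟩ := pattern h
  apply mt_ext
  rw [mt_mul, mt_mul, mt_tau]
  refine Matrix.ext fun i j => ?_
  simp only [Matrix.mul_apply, Fin.sum_univ_three]
  fin_cases i <;> fin_cases j <;> simp [tauM, h01, h02, h10, h20, mul_comm]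

theorem exists_t0 {T : SU33} (hT : T * T = 1) (h1 : T ≠ 1) : ∃ g : SU33, g⁻¹ * T * g = t0 := by
  obtain ⟨v, hv, hTv⟩ := exists_fixed hT h1
  obtain ⟨g, hg⟩ := exists_su hv
  have hgi : mt g⁻¹ * mt g = 1 := by rw [← mt_mul, inv_mul_cancel, mt_one]
  refine ⟨g, ?_⟩
  apply eq_t0
  · calc g⁻¹ * T * g * (g⁻¹ * T * g) = g⁻¹ * (T * T) * g := by group
      _ = 1 := by rw [hT]; group
  · intro h
    apply h1
    calc T = g * (g⁻¹ * T * g) * g⁻¹ := by group
      _ = 1 := by rw [h]; group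
  · rw [mt_mul, mt_mul, ← Matrix.mulVec_mulVec, ← Matrix.mulVec_mulVec, hg, hTv, ← hg,
      Matrix.mulVec_mulVec, hgi, Matrix.one_mulVec]

theorem perm_conj : perm * H246.UThreeThree.dg ii_mul * perm⁻¹ = tau := by
  have h1 : perm * H246.UThreeThree.dg ii_mul = tau * perm := by
    apply mt_ext
    rw [mt_mul, mt_mul]
    show permM * Matrix.diagonal ![ii, ii, -1] = tauM * permM
    decide +kernel
  rw [h1, mul_inv_cancel_right]

theorem conj_perm (g : SU33) : g * perm * H246.UThreeThree.dg ii_mul * (g * perm)⁻¹ = g * tau * g⁻¹ := by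
  rw [← perm_conj]
  generalize H246.UThreeThree.dg ii_mul = d
  generalize perm = p
  group

theorem inner_of_fix_equiv {X : Type*} [Group X] (e : X ≃* PSU 3 K9 3) (α : MulAut X) (x : PSU 3 K9 3)
    (hx : α (e.symm (x * pr 3 K9 3 (H246.UThreeThree.dg ii_mul) * x⁻¹)) =
      e.symm (x * pr 3 K9 3 (H246.UThreeThree.dg ii_mul) * x⁻¹)) : ∃ z, α = MulAut.conj z := by
  have h9 : Fintype.card K9 = 3 ^ 2 := card_k9.trans (by norm_num)
  obtain ⟨y, hy⟩ := H246.UThreeThree.inner_of_fix h9 ii_mul (MulAut.congr e α) x (by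
    have h1 : (MulAut.congr e α) (x * pr 3 K9 3 (H246.UThreeThree.dg ii_mul) * x⁻¹) =
      e (α (e.symm (x * pr 3 K9 3 (H246.UThreeThree.dg ii_mul) * x⁻¹))) := rfl
    rw [h1, hx, MulEquiv.apply_symm_apply])
  refine ⟨e.symm y, ?_⟩
  ext x
  have h4 : e (α (e.symm (e x))) = y * e x * y⁻¹ := congrArg (fun φ : MulAut (PSU 3 K9 3) => φ (e x)) hy
  rw [MulEquiv.symm_apply_apply] at h4
  apply e.injective
  rw [h4, MulAut.conj_apply, map_mul, map_mul, map_inv, MulEquiv.apply_symm_apply]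

theorem inner_of_core {X : Type*} [Group X] [Finite X] (e : X ≃* PSU 3 K9 3)
    {α : MulAut X} {S : Sylow 2 X} {H D : Subgroup X} (hD : Core (S : Subgroup X) H D) (hD1 : D ≠ ⊥)
    (hα : ∀ d ∈ D, α d = d) : ∃ z, α = MulAut.conj z := by
  have hfact : Fact (Nat.Prime 2) := ⟨Nat.prime_two⟩
  have hch : IsCharacteristicTwoType X := charTwo (Fintype.card_eq.2 ⟨Equiv.refl _⟩ |>.trans card_k9) e
  have hDS : D ≤ S := le_sylow_of hD.two (le_trans hD.syl (le_normalizer_of hD.nml))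
  have hCD := cent_le_of_charTwo hch hD hD1
  -- an involution in the centre of `S`
  have hS1 : Nontrivial ↥(S : Subgroup X) := by
    rw [Subgroup.nontrivial_iff_ne_bot]
    intro h1
    apply hD1
    rw [eq_bot_iff, ← h1]
    exact hDS
  have hZ := S.2.center_nontrivial
  obtain ⟨z, hz2⟩ := exists_prime_orderOf_dvd_card' (G := Subgroup.center ↥(S : Subgroup X)) 2 (by
    have h1 : IsPGroup 2 (Subgroup.center ↥(S : Subgroup X)) := S.2.to_subgroup _
    obtain ⟨k, hk⟩ := (IsPGroup.iff_card).1 h1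
    have h2 : 1 < Nat.card (Subgroup.center ↥(S : Subgroup X)) := Finite.one_lt_card
    rw [hk] at h2 ⊢
    refine dvd_pow_self 2 ?_
    rintro rfl
    simp at h2)
  obtain ⟨T, hT⟩ := pr_surjective (e (z : ↥(S : Subgroup X)))
  have hzz : ((z : ↥(S : Subgroup X)) : X) * ((z : ↥(S : Subgroup X)) : X) = 1 := by
    have h1 : z * z = 1 := by
      have h0 := pow_orderOf_eq_one z
      rwa [hz2, pow_two] at h0
    have h2 := congrArg (fun w : Subgroup.center ↥(S : Subgroup X) => ((w : ↥(S : Subgroup X)) : X)) h1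
    exact h2
  have hz1 : ((z : ↥(S : Subgroup X)) : X) ≠ 1 := by
    intro h1
    have h2 : z = 1 := by
      apply Subtype.ext
      apply Subtype.ext
      exact h1
    rw [h2, orderOf_one] at hz2
    omega
  have hTT : T * T = 1 := by
    apply pr_inj
    rw [map_mul, hT, map_one, ← map_mul, hzz, map_one]
  have hT1 : T ≠ 1 := by
    rintro rfl
    apply hz1
    apply e.injective
    rw [← hT, map_one, map_one]
  obtain ⟨g, hg⟩ := exists_t0 hTT hT1
  -- the element of order four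
  obtain ⟨t, ht⟩ : ∃ t, t = e.symm (pr 3 K9 3 (g * tau * g⁻¹)) := ⟨_, rfl⟩
  have hts : ∀ s ∈ (S : Subgroup X), s * t = t * s := by
    intro s hs
    obtain ⟨s', hs'⟩ := pr_surjective (e s)
    have h1 : s' * T = T * s' := by
      apply pr_inj
      rw [map_mul, map_mul, hs', hT, ← map_mul, ← map_mul]
      congr 1
      have h2 := Subgroup.mem_center_iff.1 z.2 ⟨s, hs⟩
      exact congrArg Subtype.val h2
    have h2 : g⁻¹ * s' * g * t0 = t0 * (g⁻¹ * s' * g) := by
      rw [← hg]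
      calc g⁻¹ * s' * g * (g⁻¹ * T * g) = g⁻¹ * (s' * T) * g := by group
        _ = g⁻¹ * (T * s') * g := by rw [h1]
        _ = _ := by group
    have h3 := comm_tau h2
    have h4 : s' * (g * tau * g⁻¹) = g * tau * g⁻¹ * s' := by
      calc s' * (g * tau * g⁻¹) = g * (g⁻¹ * s' * g * tau) * g⁻¹ := by group
        _ = g * (tau * (g⁻¹ * s' * g)) * g⁻¹ := by rw [h3]
        _ = _ := by group
    apply e.injective
    rw [map_mul, map_mul, ht, MulEquiv.apply_symm_apply, ← hs', ← map_mul, ← map_mul, h4]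
  have ht4 : t ^ 4 = 1 := by
    rw [ht, ← map_pow, ← map_pow]
    have h1 : (g * tau * g⁻¹) ^ 4 = 1 := by
      rw [conj_pow, tau_pow]; group
    rw [h1, map_one, map_one]
  have htD : t ∈ D := by
    apply hCD
    rw [Subgroup.mem_centralizer_iff]
    intro d hd
    exact hts d (hDS hd)
  have h2 := hα _ htD
  have hpt : pr 3 K9 3 (g * perm) * pr 3 K9 3 (H246.UThreeThree.dg ii_mul) * (pr 3 K9 3 (g * perm))⁻¹ =
      pr 3 K9 3 (g * tau * g⁻¹) := by
    rw [← map_inv, ← map_mul, ← map_mul, conj_perm]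
  refine inner_of_fix_equiv e α (pr 3 K9 3 (g * perm)) ?_
  rw [hpt, ← ht, h2]

/-- **The case of `U₃(3)`.** -/
theorem inner_iso {X : Type*} [Group X] [Finite X] {F : Type*} [Field F] [Fintype F] (h9 : Fintype.card F = 9)
    (e : X ≃* PSU 3 F 3) {α : MulAut X} {S : Sylow 2 X} {H D : Subgroup X} (hD : Core (S : Subgroup X) H D)
    (hD1 : D ≠ ⊥) (hα : ∀ d ∈ D, α d = d) : ∃ z, α = MulAut.conj z := by
  have hcard : Fintype.card F = Fintype.card K9 := by rw [h9, card_k9]
  obtain ⟨ε⟩ : Nonempty (F ≃+* K9) := ⟨FiniteField.ringEquivOfCardEq hcard⟩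
  exact inner_of_core (e.trans (LieClassical.FieldTransfer.psuCongr 3 3 ε)) hD hD1 hα

end Cfsg.Agent.H215.L2Out.UThree
end

-- part: H215/L2Out/Main
section
/-!
Simple groups of Lie type in characteristic two: an automorphism of order two which is trivial on `O_2(H)`, where the
subgroup `H` contains a Sylow 2-subgroup and `O_2(H) ≠ 1`, is inner (or the group is `A₆`).
-/

set_option autoImplicit false

namespace Cfsg.Agent.H215.L2Out.Main

open Cfsg Cfsg.Agent.H215.L2Out.Filt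

variable {G : Type*} [Group G] [Finite G] [IsSimpleGroup G]

/-- **The main theorem.** -/
theorem inner_or (hc : ¬ IsMulCommutative G) (h : IsChevSimple 2 G) {α : MulAut G} (hα2 : α * α = 1)
    {S : Sylow 2 G} {H D : Subgroup G} (hD : Core (S : Subgroup G) H D) (hD1 : D ≠ ⊥) (hα : ∀ d ∈ D, α d = d) :
    (∃ z, α = MulAut.conj z) ∨ Nonempty (G ≃* ↥(alternatingGroup (Fin 6))) := by
  have hc' : ∃ a b : G, a * b ≠ b * a := by
    by_contra hcon
    push Not at hcon
    exact hc ⟨⟨hcon⟩⟩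
  have h21 : α ^ 2 ^ 1 = 1 := by rw [pow_one, pow_two, hα2]
  have filt : KFacts.RgdLieCharP.IsLieFilt 2 G → (∃ z, α = MulAut.conj z) := fun h1 =>
    inner_of_filt (KFacts.RgdLieCharP.hasFilt_of_lie h1) hc' hα2 hD hD1 hα
  rcases h with h | ⟨-, h⟩ | ⟨h, -⟩
  · left
    rcases h with h | h | h | h | h | h | h | h | ⟨-, h⟩ | ⟨-, h⟩ | ⟨h, -⟩
    · exact filt (Or.inl h)
    · exact filt (Or.inr (Or.inl h))
    · exact filt (Or.inr (Or.inr (Or.inl h)))
    · exact filt (Or.inr (Or.inr (Or.inr (Or.inl h))))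
    · exact filt (Or.inr (Or.inr (Or.inr (Or.inr (Or.inl h)))))
    · exact filt (Or.inr (Or.inr (Or.inr (Or.inr (Or.inr (Or.inl h))))))
    · exact filt (Or.inr (Or.inr (Or.inr (Or.inr (Or.inr (Or.inr (Or.inl h)))))))
    · exact filt (Or.inr (Or.inr (Or.inr (Or.inr (Or.inr (Or.inr (Or.inr h)))))))
    · exact Cfsg.Agent.H246.SzInner.inner_iso h α h21
    · exact Cfsg.Agent.H246.TwF4Inner.inner_iso h α h21
    · exact absurd h (by norm_num)
  · rcases h with h | ⟨F, _, _, hF, ⟨e⟩⟩ | h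
    · exact Or.inr h
    · exact Or.inl (UThree.inner_iso hF e hD hD1 hα)
    · exact Or.inl (Cfsg.Agent.H246.TitsInner.inner_iso h α hα2)
  · exact absurd h (by norm_num)

end Cfsg.Agent.H215.L2Out.Main
end

-- part: H215/LT/LieTwo
section
/-!
# S2927: the row of the groups of Lie type in characteristic 2

`deadL_chevTwo : DeadL (fun K _ => IsChevSimple 2 K)`.
-/

set_option autoImplicit false
set_option linter.unusedSectionVars false
open Cfsg Subgroup
open Cfsg.Agent.H229 Cfsg.Agent.H230 Cfsg.Agent.H252.LT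

namespace Cfsg.Agent.H215.LT

universe u

/-- the centralizer of an involution is the normalizer of the group generated by it -/
theorem normalizer_zpowers {K : Type*} [Group K] {z : K} (hz2 : z ^ 2 = 1) (hz1 : z ≠ 1) :
    normalizer ((zpowers z : Subgroup K) : Set K) = centralizer ({z} : Set K) := by
  have hmem : ∀ y : K, y ∈ zpowers z ↔ y = 1 ∨ y = z := by
    intro y
    constructor
    · rintro ⟨k, rfl⟩
      rcases Int.even_or_odd' k with ⟨m, rfl | rfl⟩
      · left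
        change z ^ (2 * m) = 1
        rw [zpow_mul, zpow_ofNat, hz2, one_zpow]
      · right
        change z ^ (2 * m + 1) = z
        rw [zpow_add, zpow_mul, zpow_ofNat, hz2, one_zpow, one_mul, zpow_one]
    · rintro (rfl | rfl)
      · exact one_mem _
      · exact mem_zpowers _
  apply le_antisymm
  · intro g hg
    rw [mem_centralizer_singleton_iff]
    rcases (hmem _).1 ((mem_normalizer_iff.1 hg z).1 (mem_zpowers z)) with h | h
    · exact absurd (conj_eq_one_iff.1 h) hz1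
    · calc g * z = g * z * g⁻¹ * g := by group
        _ = z * g := by rw [h]
  · exact (centralizer_singleton_le_zpowers z).trans (centralizer_le_norm _)

/-- groups of characteristic 2 type satisfy `KG` -/
theorem kg_of_charTwo {K : Type u} [Group K] (h : IsCharacteristicTwoType K) : KG K := by
  intro z hz1 hz2
  have h1 := h.2 (zpowers z) (IsPGroup.of_card (n := 1) (by
    rw [Nat.card_zpowers, pow_one]; exact orderOf_eq_prime hz2 hz1)) (by rwa [Ne, zpowers_eq_bot])
  rw [chP_iff, ← normalizer_zpowers hz2 hz1]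
  exact h1

variable {G : Type u} [Group G] [Finite G] {S : Sylow 2 G} {Q M : Subgroup G}

/-- elements of `Y` commute with `O₂(M)` -/
theorem Y_comm_T (_c : Cx S Q M) {x t : G} (hx : x ∈ largestPReducedOf 2 M) (ht : t ∈ pCoreOf 2 M) :
    x * t = t * x := mem_centralizer_iff.1 (pCoreOf_le_centralizer_largest 2 M ht) x hx

/-- a Sylow 2-subgroup of the normal subgroup `K` -/
theorem exists_sylow_subgroupOf (S : Sylow 2 G) (K : Subgroup G) [hK : K.Normal] :
    ∃ S' : Sylow 2 ↥K, (S' : Subgroup ↥K) = (S : Subgroup G).subgroupOf K := by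
  have hfact : Fact (Nat.Prime 2) := ⟨Nat.prime_two⟩
  have h1 : IsPGroup 2 ↥((S : Subgroup G).subgroupOf K) := by
    have := S.2.comap_of_injective K.subtype K.subtype_injective
    exact this
  have h2 : ¬ 2 ∣ ((S : Subgroup G).subgroupOf K).index := Lib.SylowNormalInf.not_dvd_relIndex S K
  exact ⟨h1.toSylow h2, rfl⟩

/-- `O₂(M) ∩ K = O₂(M ∩ K)`, as subgroups of `K` -/
theorem core_subgroupOf (c : Cx S Q M) (K : Subgroup G) [hK : K.Normal] :
    L2Out.Filt.Core ((S : Subgroup G).subgroupOf K) (M.subgroupOf K) ((pCoreOf 2 M).subgroupOf K) where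
  syl := fun k hk => c.st.SM hk
  le := fun k hk => pCoreOf_le 2 M hk
  two := (isPGroup_pCoreOf 2 M).comap_of_injective K.subtype K.subtype_injective
  nml := by
    intro g hg d hd
    exact (mem_normalizer_iff.1 (le_norm_pCoreOf 2 M hg) (d : G)).1 hd
  max := by
    intro E hE hE2 hEn e he
    have h1 : E.map K.subtype ≤ M ⊓ K := by
      rintro _ ⟨y, hy, rfl⟩
      exact ⟨hE hy, y.2⟩
    have h2 : M ⊓ K ≤ normalizer (E.map K.subtype : Set G) := by
      have h3 : ∀ m ∈ M ⊓ K, ∀ y ∈ E.map K.subtype, m * y * m⁻¹ ∈ E.map K.subtype := by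
        rintro m ⟨hmM, hmK⟩ _ ⟨y, hy, rfl⟩
        exact ⟨_, hEn ⟨m, hmK⟩ hmM y hy, rfl⟩
      exact L2Out.Filt.le_normalizer_of h3
    have h4 : E.map K.subtype ≤ pCoreOf 2 (M ⊓ K) := H229.le_pCoreOf h1 h2 (hE2.map _)
    have h5 : pCoreOf 2 (M ⊓ K) ≤ pCoreOf 2 M :=
      H229.pCoreOf_le_pCoreOf inf_le_left ((le_inf le_normalizer (normal_norm hK _)).trans (norm_inf_le _ _))
    exact h5 (h4 ⟨e, he, rfl⟩)

/-- the image of `x` in `Aut(K)` is inner only if `x ∈ K` -/
theorem mem_of_inner {K : Subgroup G} [hK : K.Normal] (hC : centralizer (K : Set G) = ⊥) {x : G} {z : ↥K}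
    (h : (MulAut.conjNormal x : MulAut ↥K) = MulAut.conj z) : x ∈ K := by
  have h1 : x⁻¹ * z ∈ centralizer (K : Set G) := by
    rw [mem_centralizer_iff]
    intro k hk
    have h2 : (MulAut.conjNormal x : MulAut ↥K) ⟨k, hk⟩ = z * ⟨k, hk⟩ * z⁻¹ := by rw [h]; rfl
    have h3 : x * k * x⁻¹ = z * k * (z : G)⁻¹ := by
      have := congrArg Subtype.val h2
      rwa [MulAut.conjNormal_apply] at this
    calc k * (x⁻¹ * z) = x⁻¹ * (x * k * x⁻¹) * z := by group
      _ = x⁻¹ * z * k := by rw [h3]; group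
  rw [hC, mem_bot] at h1
  have h2 : x = z := by rw [← mul_one x, ← h1]; group
  rw [h2]
  exact z.2

/-- `G` embeds into `Aut(K)` -/
theorem card_dvd_aut {K : Subgroup G} [hK : K.Normal] (hC : centralizer (K : Set G) = ⊥) :
    Nat.card G ∣ Nat.card (MulAut ↥K) := by
  refine Subgroup.card_dvd_of_injective (MulAut.conjNormal : G →* MulAut ↥K) ?_
  rw [injective_iff_map_eq_one]
  intro g hg
  have h1 : g ∈ centralizer (K : Set G) := by
    rw [mem_centralizer_iff]
    intro k hk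
    have h2 := congrArg Subtype.val (DFunLike.congr_fun hg (⟨k, hk⟩ : ↥K))
    rw [MulAut.conjNormal_apply] at h2
    calc k * g = g * k * g⁻¹ * g := by rw [h2]; rfl
      _ = g * k := by group
  rwa [hC, mem_bot] at h1

/-- a normal subgroup of index dividing four -/
theorem comm_mem_of_index {K : Subgroup G} [hK : K.Normal] (h : K.index ∣ 4) :
    (∀ a b : G, a * b * a⁻¹ * b⁻¹ ∈ K) ∧ (∀ g : G, ∃ k : ℕ, g ^ 2 ^ k ∈ K) := by
  have hfact : Fact (Nat.Prime 2) := ⟨Nat.prime_two⟩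
  have hcard : Nat.card (G ⧸ K) ∣ 4 := h
  constructor
  · have hcomm : ∀ a b : G ⧸ K, a * b = b * a := by
      have h1 : Nat.card (G ⧸ K) = 1 ∨ Nat.card (G ⧸ K) = 2 ∨ Nat.card (G ⧸ K) = 4 := by
        have h2 : Nat.card (G ⧸ K) ∈ Nat.divisors 4 := Nat.mem_divisors.2 ⟨hcard, by norm_num⟩
        have h3 : Nat.divisors 4 = {1, 2, 4} := by decide
        rw [h3] at h2
        simpa using h2
      rcases h1 with h1 | h1 | h1
      · have := (Nat.card_eq_one_iff_unique.1 h1).1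
        exact fun a b => Subsingleton.elim _ _
      · have := isCyclic_of_prime_card h1
        have hm : IsMulCommutative (G ⧸ K) := IsCyclic.isMulCommutative
        exact hm.is_comm.comm
      · exact (IsPGroup.isMulCommutative_of_card_eq_prime_sq (p := 2) (G := G ⧸ K) (by rw [h1]; norm_num)).is_comm.comm
    intro a b
    rw [← QuotientGroup.eq_one_iff]
    have := hcomm (a : G ⧸ K) b
    rw [QuotientGroup.mk_mul, QuotientGroup.mk_mul, QuotientGroup.mk_mul, this, QuotientGroup.mk_inv,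
      QuotientGroup.mk_inv]
    group
  · intro g
    refine ⟨2, ?_⟩
    rw [← QuotientGroup.eq_one_iff, QuotientGroup.mk_pow]
    exact orderOf_dvd_iff_pow_eq_one.1 ((_root_.orderOf_dvd_natCard _).trans hcard)

/-- an element of order four in `A₆` -/
def tA : ↥(alternatingGroup (Fin 6)) :=
  ⟨Equiv.swap 0 1 * Equiv.swap 1 2 * Equiv.swap 2 3 * Equiv.swap 4 5, by
    rw [Equiv.Perm.mem_alternatingGroup]; decide +kernel⟩

theorem tA_four : tA ^ 4 = 1 := by decide +kernel

theorem tA_two : tA ^ 2 ≠ 1 := by decide +kernel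

/-- elementary abelian 2-subgroups of `A₆` have order at most 4 -/
theorem card_le_four_of_a6 {K : Type*} [Group K] [Finite K] (e : K ≃* ↥(alternatingGroup (Fin 6))) {W : Subgroup K}
    (hW : IsPGroup 2 ↥W) (h2 : ∀ w ∈ W, w ^ 2 = 1) : Nat.card ↥W ≤ 4 := by
  have hfact : Fact (Nat.Prime 2) := ⟨Nat.prime_two⟩
  have hc : Nat.card K = 360 := by
    rw [Nat.card_congr e.toEquiv]
    have h3 := nat_card_alternatingGroup (α := Fin 6)
    rw [h3, Nat.card_fin]
    rfl
  obtain ⟨n, hn⟩ := IsPGroup.iff_card.1 hW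
  have hdvd : 2 ^ n ∣ 360 := by rw [← hn, ← hc]; exact card_subgroup_dvd_card W
  have hn3 : n ≤ 3 := by
    by_contra h
    have : 2 ^ 4 ∣ 360 := (pow_dvd_pow 2 (by omega)).trans hdvd
    omega
  by_contra hcon
  rw [hn] at hcon
  have hn' : n = 3 := by
    interval_cases n <;> omega
  subst hn'
  have hidx : ¬ 2 ∣ W.index := by
    have h3 := W.card_mul_index
    rw [hn, hc] at h3
    omega
  obtain ⟨P, hP⟩ : ∃ P : Sylow 2 K, (P : Subgroup K) = W := ⟨hW.toSylow hidx, rfl⟩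
  obtain ⟨t, ht⟩ : ∃ t : K, t = e.symm tA := ⟨_, rfl⟩
  have ht4 : t ^ 2 ^ 2 = 1 := by
    rw [ht, ← map_pow, show (2 : ℕ) ^ 2 = 4 by norm_num, tA_four, map_one]
  have ht2 : t ^ 2 ≠ 1 := by
    intro h
    apply tA_two
    apply e.symm.injective
    rw [map_pow, ← ht, h, map_one]
  have hp : IsPGroup 2 ↥(zpowers t) := by
    rw [IsPGroup.iff_card]
    rw [Nat.card_zpowers]
    obtain ⟨m, -, hm⟩ := (Nat.dvd_prime_pow Nat.prime_two).1 (orderOf_dvd_iff_pow_eq_one.2 ht4)
    exact ⟨m, hm⟩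
  obtain ⟨P', hP'⟩ := hp.exists_le_sylow
  obtain ⟨g, hg⟩ := MulAction.exists_smul_eq K P' P
  have h3 : g * t * g⁻¹ ∈ W := by
    rw [← hP, ← hg, Sylow.coe_subgroup_smul]
    exact Subgroup.smul_mem_pointwise_smul t (MulAut.conj g) _ (hP' (mem_zpowers _))
  have h4 := h2 _ h3
  rw [conj_pow] at h4
  exact ht2 (conj_eq_one_iff.1 h4)

/-- **The row of the groups of Lie type in characteristic 2.** -/
theorem deadL_chevTwo : DeadL.{u} (fun K _ => IsChevSimple 2 K) := by
  intro G _ _ S Q M c K hK hKs hKc hC hP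
  have hfact : Fact (Nat.Prime 2) := ⟨Nat.prime_two⟩
  have hct : IsCharacteristicTwoType ↥K := EvenType.ChevTwo.charTwo hKc hP
  have h2 : 2 ∣ Nat.card ↥K := hct.1.two_dvd
  obtain ⟨x, hx, hxK, hb⟩ := exists_bad_of_KG c h2 (kg_of_charTwo hct)
  obtain ⟨S', hS'⟩ := exists_sylow_subgroupOf S K
  obtain ⟨z, hzK, hzS, hzc, hz2, hz1⟩ := exists_z S K h2
  have hx2 : x * x = 1 := by rw [← pow_two]; exact pow_two_of_mem c hx
  have hα2 : (MulAut.conjNormal x : MulAut ↥K) * MulAut.conjNormal x = 1 := by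
    rw [← map_mul, hx2, map_one]
  have hcore := core_subgroupOf c K
  rw [← hS'] at hcore
  have hD1 : (pCoreOf 2 M).subgroupOf K ≠ ⊥ := by
    intro h
    have h3 : (⟨z, hzK⟩ : ↥K) ∈ (pCoreOf 2 M).subgroupOf K := c.Y_le_T (c.center_mem_Y hzc hz2)
    rw [h, mem_bot] at h3
    exact hz1 (congrArg Subtype.val h3)
  have hα : ∀ d ∈ (pCoreOf 2 M).subgroupOf K, (MulAut.conjNormal x : MulAut ↥K) d = d := by
    intro d hd
    apply Subtype.ext
    have h3 : x * (d : G) = d * x := Y_comm_T c hx hd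
    rw [MulAut.conjNormal_apply, h3]
    group
  rcases L2Out.Main.inner_or hKc hP hα2 hcore hD1 hα with ⟨k, hk⟩ | ⟨⟨e⟩⟩
  · exact hxK (mem_of_inner hC hk)
  · -- `A₆`
    have hK360 : Nat.card ↥K = 360 := by
      rw [Nat.card_congr e.toEquiv]
      have h3 := nat_card_alternatingGroup (α := Fin 6)
      rw [h3, Nat.card_fin]
      rfl
    have hA : Nat.card (MulAut ↥K) = 1440 := by
      rw [Nat.card_congr (MulAut.congr e).toEquiv, H824.ProdLem.card_aut_a6]
    have hi : K.index ∣ 4 := by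
      have h3 := card_dvd_aut hC
      rw [hA, ← K.card_mul_index, hK360, show 1440 = 360 * 4 by norm_num] at h3
      exact Nat.dvd_of_mul_dvd_mul_left (by norm_num) h3
    obtain ⟨hab, hG2⟩ := comm_mem_of_index hi
    have h4 : Nat.card ↥(largestPReducedOf 2 M ⊓ K : Subgroup G) ≤ 4 := by
      have h5 := card_le_four_of_a6 e (W := (largestPReducedOf 2 M).subgroupOf K)
        ((S.2.to_le (c.Y_le_T.trans c.T_le_S)).comap_of_injective K.subtype K.subtype_injective)
        (fun w hw => Subtype.ext (pow_two_of_mem c hw))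
      have h6 : Nat.card ↥((largestPReducedOf 2 M).subgroupOf K) =
          Nat.card ↥(largestPReducedOf 2 M ⊓ K : Subgroup G) := by
        rw [← Subgroup.inf_subgroupOf_right]
        exact Nat.card_congr (Subgroup.subgroupOfEquivOfLe inf_le_right).toEquiv
      rwa [h6] at h5
    exact hxK (Y_le_of_card_four c hK h2 h4 hab hG2 hx)

end Cfsg.Agent.H215.LT
end

private theorem dce_c3c18b0d9bf1 : _root_.True := by
  try have : _root_.True := by simp only [_root_.Cfsg.Agent.H215.L2Out.UThree.tauM.eq_1]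
  exact _root_.True.intro
end

-- part: H92/Tall/Exc
section
prune_inst 0x4343021004c0000000000000220000060100000020043000110600100080a90608902260038300b12100088802008006001100010022800000000820040040120042112069158ac00100000407804000000000000000000000000000000041000000000000
set_option linter.all false
open scoped Cfsg.Agent.FastGrp

/-!
# S2927 [LAE]: `RowTwo` for the exceptional Chevalley groups in characteristic 2 (helper92)

* `rowTwo_of_rgd` : `RowTwo` from a root group datum with `p = 2`: it is enough that the elements of `Z(U)` commute with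
  `X_{±α_i}` for a node `i`;
* `rowTwo_of_sys` : for `ChevTwo.Sys`, if every dominant root is orthogonal to `α_i`;
* `rowTwo_F4`, `rowTwo_E6`, `rowTwo_E7`, `rowTwo_E8`, `rowTwo_G2`; `rowTwo_exc`, `no2_exc` (`IsExceptionalChevChar 2`).
-/

set_option autoImplicit false
set_option linter.unusedSectionVars false

namespace Cfsg.Agent.H92.Tall

open Subgroup CoxeterSystem Cfsg.Agent.ChevalleyStructure.CoxeterGeom Cfsg.Agent.Tits.Roots Cfsg.Agent.Tits.Core
  Cfsg.Agent.Tits.RootComb Cfsg.Agent.Nodes.Comb Cfsg.Agent.Nodes.Reps Cfsg.Agent.Nodes.BNOf Cfsg.Agent.Nodes.Bruhat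
  Cfsg.Agent.Nodes.Coroot Cfsg.Agent.Nodes.OppDec Cfsg.Agent.Nodes.RGDLib
  Cfsg.Agent.Nodes Cfsg.Agent.KFacts.RgdPar Cfsg.Agent.KFacts.RgdTI Cfsg.Agent.KFacts.RgdCent
  Cfsg.Agent.KFacts.RgdSyl Cfsg.Agent.KFacts.ChevTwo Cfsg.Agent.KFacts.ChevTwoInst
open Cfsg.Lie Cfsg.Agent.ChevalleyStructure Cfsg.Agent.ChevalleyStructure.Elts
  Cfsg.Agent.ChevalleyStructure.RootVec Cfsg.Agent.ChevalleyStructure.RootVecTab
  Cfsg.Agent.ChevalleyStructure.NPerm Cfsg.Agent.ChevalleyStructure.CoxeterGeomTypes Cfsg.Agent.Nodes.RGDChev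
open Cfsg.Agent.H226.Tall

universe u

/-! ### Position -/

/-- a 2-central involution can be moved to `Z(U)` -/
theorem exists_std {Y : Type*} [Group Y] [Finite Y] {U : Subgroup Y} (hU : IsPGroup 2 ↥U) (hi : ¬ 2 ∣ U.index) {z : Y}
    (hz : TwoC z) : ∃ g : Y, g * z * g⁻¹ ∈ U ∧ ∀ u ∈ U, g * z * g⁻¹ * u = u * (g * z * g⁻¹) := by
  have : Fact (Nat.Prime 2) := ⟨Nat.prime_two⟩
  obtain ⟨h1, P, hP⟩ := hz
  -- `z ∈ P`
  have hzP : z ∈ (P : Subgroup Y) := by
    have h2 : IsPGroup 2 ↥(Subgroup.zpowers z) := by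
      rw [IsPGroup.iff_card]
      exact ⟨1, by rw [Nat.card_zpowers, h1, pow_one]⟩
    have h3 : Subgroup.zpowers z ≤ normalizer ((P : Subgroup Y) : Set Y) := by
      rw [Subgroup.zpowers_le, mem_normalizer_iff]
      intro y
      constructor
      · intro hy
        have h4 := mem_centralizer_singleton_iff.1 (hP hy)
        rwa [← h4, mul_inv_cancel_right]
      · intro hy
        have h4 := mem_centralizer_singleton_iff.1 (hP hy)
        have h5 : y = z * y * z⁻¹ := by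
          calc y = z⁻¹ * (z * y * z⁻¹ * z) := by group
            _ = z⁻¹ * (z * (z * y * z⁻¹)) := by rw [h4]
            _ = z * y * z⁻¹ := by group
        rw [h5]
        exact hy
    have h4 : IsPGroup 2 ↥((P : Subgroup Y) ⊔ Subgroup.zpowers z) := by
      rw [sup_comm]
      exact h2.to_sup_of_normal_right' P.isPGroup' h3
    have h5 := P.is_maximal' h4 le_sup_left
    rw [← h5]
    exact (le_sup_right : Subgroup.zpowers z ≤ _) (Subgroup.mem_zpowers z)
  obtain ⟨g, hg⟩ := MulAction.exists_smul_eq Y P (hU.toSylow hi)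
  have h2 : ∀ u, u ∈ U ↔ g⁻¹ * u * g ∈ (P : Subgroup Y) := by
    intro u
    have h3 : ((g • P : Sylow 2 Y) : Subgroup Y) = U := by rw [hg]; rfl
    rw [← h3, Sylow.coe_subgroup_smul, Subgroup.mem_pointwise_smul_iff_inv_smul_mem, ← map_inv, MulAut.smul_def,
      MulAut.conj_apply, inv_inv]
  refine ⟨g, (h2 _).2 (by rw [show g⁻¹ * (g * z * g⁻¹) * g = z by group]; exact hzP), fun u hu => ?_⟩
  have h3 := mem_centralizer_singleton_iff.1 (hP ((h2 u).1 hu))
  calc g * z * g⁻¹ * u = g * (z * (g⁻¹ * u * g)) * g⁻¹ := by group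
    _ = g * (g⁻¹ * u * g * z) * g⁻¹ := by rw [h3]
    _ = u * (g * z * g⁻¹) := by group

/-- the centralizer of a conjugate -/
theorem isPGroup_conj {Y : Type*} [Group Y] {z : Y} (g : Y) (h : IsPGroup 2 ↥(centralizer ({z} : Set Y))) :
    IsPGroup 2 ↥(centralizer ({g * z * g⁻¹} : Set Y)) :=
  h.of_equiv (centEquiv (MulAut.conj g) z)

section RGD

variable {I W Y : Type*} [Fintype I] [DecidableEq I] [Group W] [Group Y] {M : CoxeterMatrix I}
  {cs : CoxeterSystem M W} {A : I → I → ℤ} {h : IsCartan M A} {T : Subgroup Y} {n : I → Y}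
  {X : (I → ℤ) → Subgroup Y}

/-- **`RowTwo` from a root group datum.** -/
theorem rowTwo_of_rgd [Finite Y] [Finite W] (R : RGD cs h 2 T n X) (hG : GG cs h T X = ⊤) (i : I)
    (H : ∀ z ∈ RGD.Sup X (RGD.Pos cs h), (∀ u ∈ RGD.Sup X (RGD.Pos cs h), z * u = u * z) →
      (∀ v ∈ X (sr i), z * v = v * z) ∧ ∀ v ∈ X (-sr i), z * v = v * z) : RowTwo Y := by
  have : Fact (Nat.Prime 2) := ⟨Nat.prime_two⟩
  intro z hz hp
  have hi : ¬ 2 ∣ (RGD.Sup X (RGD.Pos cs h)).index := by
    have h1 := not_dvd_relIndex R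
    rwa [hG, Subgroup.relIndex_top_right] at h1
  obtain ⟨g, h1, h2⟩ := exists_std R.isPGroup_Upos hi hz
  obtain ⟨h3, h4⟩ := H _ h1 h2
  refine R.notp i ((isPGroup_conj g hp).to_le (sup_le ?_ ?_))
  · intro v hv
    rw [mem_centralizer_singleton_iff]
    exact (h3 v hv).symm
  · intro v hv
    rw [mem_centralizer_singleton_iff]
    exact (h4 v hv).symm

/-- an element of `Z(U)` is a product of elements of dominant root groups (all `X a` in the sense of `Sys`) -/
theorem mem_star_pos {K : Type*} [Field K] {e : (I → ℤ) → K → Y} [Finite W] {R : RGD cs h 2 T n X} (S : Sys R e)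
    (hG : GG cs h T X = ⊤) {z : Y} (hz : z ∈ RGD.Sup X (RGD.Pos cs h))
    (hc : ∀ u ∈ RGD.Sup X (RGD.Pos cs h), z * u = u * z) : z ∈ RGD.Sup X (star cs h (RGD.Pos cs h)) := by
  classical
  have h1 : ∀ a, ∃ v, a ∈ RGD.Pos cs h → v ∈ X a ∧ v ≠ 1 ∧ z * v = v * z := by
    intro a
    by_cases ha : a ∈ RGD.Pos cs h
    · obtain ⟨⟨v, hv⟩, hv1⟩ := (Subgroup.ne_bot_iff_exists_ne_one).1 (X_ne_bot R ha.1)
      exact ⟨v, fun _ => ⟨hv, fun h0 => hv1 (Subtype.ext h0), hc v (RGD.le_Sup ha hv)⟩⟩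
    · exact ⟨1, fun h0 => absurd h0 ha⟩
  choose v hv using h1
  obtain ⟨t, ht, -, q, hq, e1⟩ := S.centralizer (fun a ha => ha.1) (g := z) (by rw [hG]; exact Subgroup.mem_top z) hv
  have hsub : star cs h (RGD.Pos cs h) ⊆ RGD.Pos cs h := by
    rintro b ⟨hb1, hb2⟩
    rcases hb1.pos_or_neg with h0 | h0
    · exact ⟨hb1, h0⟩
    · exfalso
      have h2 := hb2 (-b) ⟨hb1.neg, neg_nonneg.2 h0⟩
      rw [cpr_neg_right cs h b hb1, cpr_self cs h hb1] at h2
      omega
  have hqU : q ∈ RGD.Sup X (RGD.Pos cs h) := RGD.Sup_mono hsub hq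
  have htU : t ∈ RGD.Sup X (RGD.Pos cs h) ⊓ T := by
    refine ⟨?_, ht⟩
    have h5 : t = z * q⁻¹ := by rw [e1]; group
    rw [h5]
    exact Subgroup.mul_mem _ hz (Subgroup.inv_mem _ hqU)
  rw [U_inf_T R, Subgroup.mem_bot] at htU
  rw [e1, htU, one_mul]
  exact hq

/-- **`RowTwo` for `Sys`.** -/
theorem rowTwo_of_sys {K : Type*} [Field K] {e : (I → ℤ) → K → Y} [Finite Y] [Finite W] {R : RGD cs h 2 T n X}
    (S : Sys R e) (hG : GG cs h T X = ⊤) (i : I)
    (hi : ∀ b, IsRoot cs h b → (∀ j, 0 ≤ cpr cs h b (sr j)) → cpr cs h b (sr i) = 0) : RowTwo Y := by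
  refine rowTwo_of_rgd R hG i fun z hz hc => ?_
  have h1 := mem_star_pos S hG hz hc
  have h2 : ∀ b ∈ star cs h (RGD.Pos cs h), cpr cs h b (sr i) = 0 := fun b hb =>
    hi b hb.1 fun j => hb.2 (sr j) ⟨isRoot_sr cs h j, sr_nonneg j⟩
  have h3 : ∀ v ∈ X (sr i), ∀ b ∈ star cs h (RGD.Pos cs h), ∀ u ∈ X b, u * v = v * u := fun v hv b hb u hu =>
    (S.lr (isRoot_sr cs h i)).comm b hb.1 (by rw [h2 b hb]) u hu v hv
  have h4 : ∀ v ∈ X (-sr i), ∀ b ∈ star cs h (RGD.Pos cs h), ∀ u ∈ X b, u * v = v * u := fun v hv b hb u hu =>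
    (S.lr (isRoot_sr cs h i).neg).comm b hb.1 (by
      rw [cpr_neg_right cs h b (isRoot_sr cs h i), h2 b hb, neg_zero]) u hu v hv
  have key : ∀ v, (∀ b ∈ star cs h (RGD.Pos cs h), ∀ u ∈ X b, u * v = v * u) → z * v = v * z := by
    intro v hv
    have h5 : RGD.Sup X (star cs h (RGD.Pos cs h)) ≤ centralizer ({v} : Set Y) :=
      RGD.Sup_le fun b hb u hu => mem_centralizer_singleton_iff.2 (hv b hb u hu)
    exact mem_centralizer_singleton_iff.1 (h5 h1)
  exact ⟨fun v hv => key v (h3 v hv), fun v hv => key v (h4 v hv)⟩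

end RGD

/-! ### The groups -/

/-- the dominant roots are orthogonal to `α_i` -/
def domOrth (D : ChevalleyDatum) (i : ℕ) : Bool :=
  (List.range D.nroots).all fun r =>
    !((List.range D.rank).all fun j => decide (0 ≤ D.cartan j r)) || decide (D.cartan i r = 0)

theorem GG_eq_top {D : ChevalleyDatum} {l : ℕ} {M : CoxeterMatrix (Fin l)} (hp : IsType D l M) (K : Type*) [Field K]
    {T : Subgroup ↥(D.group K)} :
    GG M.toCoxeterSystem hp.isCartan T (fun x => (XV D l K x).subgroupOf (D.group K)) = ⊤ := by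
  rw [eq_top_iff, ← G1_eq_top hp M.toCoxeterSystem]
  exact le_sup_right

theorem rowTwo_group {D : ChevalleyDatum} {l : ℕ} {M : CoxeterMatrix (Fin l)} (hp : IsType D l M) (hOK : TwoOK D)
    (i : Fin l) (ht : domOrth D i = true) (K : Type u) [Field K] [Finite K] [CharP K 2] : RowTwo ↥(D.group K) := by
  have : Fact (Nat.Prime 2) := ⟨Nat.prime_two⟩
  have hW : Finite M.Group := finite_W hp M.toCoxeterSystem
  refine rowTwo_of_sys (sys (K := K) hp hOK M.toCoxeterSystem) (GG_eq_top hp K) i fun b hb hd => ?_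
  obtain ⟨r, hr, rfl⟩ := (isRoot_iff hp _ b).1 hb
  rw [cpr_sr, pairing_vec hp i hr]
  have h1 := List.all_eq_true.1 ht r (List.mem_range.2 hr)
  rw [Bool.or_eq_true, Bool.not_eq_true', decide_eq_true_iff] at h1
  rcases h1 with h1 | h1
  · exfalso
    have h2 : ((List.range D.rank).all fun j => decide (0 ≤ D.cartan j r)) = true := by
      rw [List.all_eq_true]
      intro j hj
      have hj' : j < l := by rw [← hp.rank_eq]; exact List.mem_range.1 hj
      have h3 := hd ⟨j, hj'⟩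
      rw [cpr_sr, pairing_vec hp _ hr] at h3
      exact decide_eq_true h3
    rw [h2] at h1
    exact absurd h1 (by decide)
  · exact h1

theorem orth_F4 : domOrth chevF4 1 = true := by (delta Cfsg.Agent.H92.Tall.domOrth; rewrite [Cfsg.Agent.ChevFast.F4.cartan]; decide +kernel)
theorem orth_E6 : domOrth chevE6 0 = true := by (delta Cfsg.Agent.H92.Tall.domOrth; rewrite [Cfsg.Agent.ChevFast.E6.cartan]; decide +kernel)
theorem orth_E7 : domOrth chevE7 1 = true := by (delta Cfsg.Agent.H92.Tall.domOrth; rewrite [Cfsg.Agent.ChevFast.E7.cartan]; decide +kernel)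
theorem orth_E8 : domOrth chevE8 0 = true := by (delta Cfsg.Agent.H92.Tall.domOrth; rewrite [Cfsg.Agent.ChevFast.E8.cartan]; decide +kernel)

section

variable (K : Type u) [Field K] [Finite K] [CharP K 2]

/-- **`F₄(2ⁿ)`** -/
theorem rowTwo_F4 : RowTwo ↥(chevF4.group K) :=
  rowTwo_group (l := 4) (M := CoxeterMatrix.F₄) (by simp [IsType, typeList]) twoOK_F4 1 orth_F4 K

/-- **`E₆(2ⁿ)`** -/
theorem rowTwo_E6 : RowTwo ↥(chevE6.group K) :=
  rowTwo_group (l := 6) (M := CoxeterMatrix.E₆) (by simp [IsType, typeList]) twoOK_E6 0 orth_E6 K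

/-- **`E₇(2ⁿ)`** -/
theorem rowTwo_E7 : RowTwo ↥(chevE7.group K) :=
  rowTwo_group (l := 7) (M := CoxeterMatrix.E₇) (by simp [IsType, typeList]) twoOK_E7 1 orth_E7 K

/-- **`E₈(2ⁿ)`** -/
theorem rowTwo_E8 : RowTwo ↥(chevE8.group K) :=
  rowTwo_group (l := 8) (M := CoxeterMatrix.E₈) (by simp [IsType, typeList]) twoOK_E8 0 orth_E8 K

end

/-! ### `G₂(2ⁿ)` -/

section GTwo

open Cfsg.Agent.OddHalf.D4.LineGTwo Cfsg.Agent.OddHalf.D4.LineGTwoInst

theorem tab_star : ∀ s ∈ List.range 12, 0 ≤ KFacts.ChevTwoTab.carB chevG2 6 s → 0 ≤ KFacts.ChevTwoTab.carB chevG2 10 s →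
    0 ≤ KFacts.ChevTwoTab.carB chevG2 11 s → s = 8 ∨ s = 9 ∨ s = 11 := by decide +kernel

theorem tab_orth : KFacts.ChevTwoTab.carB chevG2 11 (chevG2.neg 7) = 0 ∧ chevG2.neg 7 < 12 ∧ chevG2.simple 0 = 7 := by
  decide +kernel

variable {K : Type u} [Field K] [CharP K 2]

/-- `x_8(a) x_9(b) x_11(c)` is a subgroup -/
theorem sup_form {q : ↥(chevG2.group K)} (hq : q ∈ RGD.Sup (XX K) ({vec chevG2 2 8, vec chevG2 2 9, vec chevG2 2 11} :
    Set (Fin 2 → ℤ))) : ∃ a b c : K, q = xg K 8 a * xg K 9 b * xg K 11 c := by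
  have h811 : ∀ t u : K, xg K 8 t * xg K 11 u = xg K 11 u * xg K 8 t := 
    comm_rs (r := 8) (s := 11) (by norm_num) (by norm_num) (by norm_num) (by norm_num) (by norm_num)
      (tab_comm (8, 11) (by simp))
  have h911 : ∀ t u : K, xg K 9 t * xg K 11 u = xg K 11 u * xg K 9 t := 
    comm_rs (r := 9) (s := 11) (by norm_num) (by norm_num) (by norm_num) (by norm_num) (by norm_num)
      (tab_comm (9, 11) (by simp))
  have r8 : ∀ a b c t : K, xg K 8 a * xg K 9 b * xg K 11 c * xg K 8 t =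
      xg K 8 (a + t) * xg K 9 b * xg K 11 (t * b + c) := by
    intro a b c t
    calc xg K 8 a * xg K 9 b * xg K 11 c * xg K 8 t = xg K 8 a * xg K 9 b * (xg K 11 c * xg K 8 t) := by group
      _ = xg K 8 a * xg K 9 b * (xg K 8 t * xg K 11 c) := by rw [h811]
      _ = xg K 8 a * (xg K 9 b * xg K 8 t) * xg K 11 c := by group
      _ = xg K 8 a * (xg K 11 (t * b) * (xg K 8 t * xg K 9 b)) * xg K 11 c := by rw [dc]
      _ = xg K 8 a * xg K 11 (t * b) * xg K 8 t * xg K 9 b * xg K 11 c := by group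
      _ = xg K 8 a * (xg K 11 (t * b) * xg K 8 t) * xg K 9 b * xg K 11 c := by group
      _ = xg K 8 a * (xg K 8 t * xg K 11 (t * b)) * xg K 9 b * xg K 11 c := by rw [h811]
      _ = xg K 8 a * xg K 8 t * (xg K 11 (t * b) * xg K 9 b) * xg K 11 c := by group
      _ = xg K 8 a * xg K 8 t * (xg K 9 b * xg K 11 (t * b)) * xg K 11 c := by rw [h911]
      _ = (xg K 8 a * xg K 8 t) * xg K 9 b * (xg K 11 (t * b) * xg K 11 c) := by group
      _ = _ := by rw [← xg_add, ← xg_add]
  have r9 : ∀ a b c t : K, xg K 8 a * xg K 9 b * xg K 11 c * xg K 9 t = xg K 8 a * xg K 9 (b + t) * xg K 11 c := by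
    intro a b c t
    calc xg K 8 a * xg K 9 b * xg K 11 c * xg K 9 t = xg K 8 a * xg K 9 b * (xg K 11 c * xg K 9 t) := by group
      _ = xg K 8 a * xg K 9 b * (xg K 9 t * xg K 11 c) := by rw [h911]
      _ = xg K 8 a * (xg K 9 b * xg K 9 t) * xg K 11 c := by group
      _ = _ := by rw [← xg_add]
  have r11 : ∀ a b c t : K, xg K 8 a * xg K 9 b * xg K 11 c * xg K 11 t = xg K 8 a * xg K 9 b * xg K 11 (c + t) := by
    intro a b c t
    rw [mul_assoc, ← xg_add]
  have hinv : ∀ (r : ℕ) (t : K), (xg K r t)⁻¹ = xg K r t := by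
    intro r t
    rw [inv_eq_iff_mul_eq_one, ← xg_add, two0]
    exact Subtype.ext (xG_zero isType.inList _)
  have hle : RGD.Sup (XX K) ({vec chevG2 2 8, vec chevG2 2 9, vec chevG2 2 11} : Set (Fin 2 → ℤ)) ≤
      closure {g | (∃ t : K, g = xg K 8 t) ∨ (∃ t : K, g = xg K 9 t) ∨ ∃ t : K, g = xg K 11 t} := by
    refine RGD.Sup_le fun x hx u hu => subset_closure ?_
    rcases hx with rfl | rfl | rfl
    · exact Or.inl ((mem_XX (by norm_num)).1 hu)
    · exact Or.inr (Or.inl ((mem_XX (by norm_num)).1 hu))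
    · exact Or.inr (Or.inr ((mem_XX (by norm_num)).1 hu))
  have h0 : (1 : ↥(chevG2.group K)) = xg K 8 0 * xg K 9 0 * xg K 11 0 := by
    have h1 : ∀ r, xg K r 0 = 1 := fun r => Subtype.ext (xG_zero isType.inList _)
    rw [h1, h1, h1, one_mul, one_mul]
  have key : ∀ g ∈ closure {g | (∃ t : K, g = xg K 8 t) ∨ (∃ t : K, g = xg K 9 t) ∨ ∃ t : K, g = xg K 11 t},
      ∃ a b c : K, g = xg K 8 a * xg K 9 b * xg K 11 c := by
    intro g hg
    induction hg using Subgroup.closure_induction_right with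
    | one => exact ⟨0, 0, 0, h0⟩
    | mul_right x _ y hy ih =>
      obtain ⟨a, b, c, rfl⟩ := ih
      rcases hy with ⟨t, rfl⟩ | ⟨t, rfl⟩ | ⟨t, rfl⟩
      · exact ⟨_, _, _, r8 a b c t⟩
      · exact ⟨_, _, _, r9 a b c t⟩
      · exact ⟨_, _, _, r11 a b c t⟩
    | mul_inv_cancel x _ y hy ih =>
      obtain ⟨a, b, c, rfl⟩ := ih
      rcases hy with ⟨t, rfl⟩ | ⟨t, rfl⟩ | ⟨t, rfl⟩
      · rw [hinv]; exact ⟨_, _, _, r8 a b c t⟩
      · rw [hinv]; exact ⟨_, _, _, r9 a b c t⟩
      · rw [hinv]; exact ⟨_, _, _, r11 a b c t⟩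
  exact key q (hle hq)

variable (K) in
/-- `Z(U) ≤ X_h` -/
theorem cen_le [Finite K] {z : ↥(chevG2.group K)} (hz : z ∈ RGD.Sup (XX K) (RGD.Pos CS isType.isCartan))
    (hc : ∀ u ∈ RGD.Sup (XX K) (RGD.Pos CS isType.isCartan), z * u = u * z) : z ∈ XX K (vec chevG2 2 11) := by
  have : Fact (Nat.Prime 2) := ⟨Nat.prime_two⟩
  have hW : Finite CoxeterMatrix.G₂.Group := finite_W isType CS
  have R := rgd (K := K) isType CS 2
  have hU : ∀ r, 6 ≤ r → r < 12 → ∀ t : K, xg K r t ∈ RGD.Sup (XX K) (RGD.Pos CS isType.isCartan) := fun r h1 h2 t =>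
    RGD.le_Sup (pos_vec h1 h2) ((mem_XX h2).2 ⟨t, rfl⟩)
  have h1 : z ∈ PS ((chevG2.diagonalSubgroup K).subgroupOf (chevG2.group K)) (XX K) (Star CS isType.isCartan
      ({vec chevG2 2 6, vec chevG2 2 10, vec chevG2 2 11} : Set (Fin 2 → ℤ))) := by
    refine cent_le R ?_ ?_ ?_
    · rintro a (rfl | rfl | rfl)
      · exact long (by simp)
      · exact long (by simp)
      · exact long (by simp)
    · have h2 := GG_eq_top isType K (T := (chevG2.diagonalSubgroup K).subgroupOf (chevG2.group K))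
      rw [h2]
      exact Subgroup.mem_top z
    · intro a ha v hv
      refine hc v (RGD.le_Sup (S := RGD.Pos CS isType.isCartan) ?_ hv)
      rcases ha with rfl | rfl | rfl
      · exact pos_vec (by norm_num) (by norm_num)
      · exact pos_vec (by norm_num) (by norm_num)
      · exact pos_vec (by norm_num) (by norm_num)
  have hsub : Star CS isType.isCartan ({vec chevG2 2 6, vec chevG2 2 10, vec chevG2 2 11} : Set (Fin 2 → ℤ)) ⊆
      ({vec chevG2 2 8, vec chevG2 2 9, vec chevG2 2 11} : Set (Fin 2 → ℤ)) := by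
    rintro b ⟨hb1, hb2⟩
    obtain ⟨s, hs, rfl⟩ := (isRoot_iff isType CS b).1 hb1
    have hs12 : s < 12 := by rwa [nroots_eq] at hs
    have e : ∀ r, r < 12 → vec chevG2 2 r ∈ ({vec chevG2 2 6, vec chevG2 2 10, vec chevG2 2 11} : Set (Fin 2 → ℤ)) →
        0 ≤ KFacts.ChevTwoTab.carB chevG2 r s := by
      intro r hr hr'
      have h3 := hb2 _ hr'
      rwa [cpr_vec isType CS (lt_nroots hr) s hs, ← carB_eq] at h3
    rcases tab_star s (List.mem_range.2 hs12) (e 6 (by norm_num) (by simp)) (e 10 (by norm_num) (by simp))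
      (e 11 (by norm_num) (by simp)) with rfl | rfl | rfl
    · simp
    · simp
    · simp
  have hsubP : Star CS isType.isCartan ({vec chevG2 2 6, vec chevG2 2 10, vec chevG2 2 11} : Set (Fin 2 → ℤ)) ⊆
      RGD.Pos CS isType.isCartan := by
    intro b hb
    rcases hsub hb with rfl | rfl | rfl
    · exact pos_vec (by norm_num) (by norm_num)
    · exact pos_vec (by norm_num) (by norm_num)
    · exact pos_vec (by norm_num) (by norm_num)
  have hT : ((chevG2.diagonalSubgroup K).subgroupOf (chevG2.group K)) ≤ Subgroup.normalizer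
      (RGD.Sup (XX K) (Star CS isType.isCartan ({vec chevG2 2 6, vec chevG2 2 10, vec chevG2 2 11} :
        Set (Fin 2 → ℤ))) : Set ↥(chevG2.group K)) := R.T_le_normalizer fun x hx => hx.1
  have h3 : z ∈ ((PS ((chevG2.diagonalSubgroup K).subgroupOf (chevG2.group K)) (XX K) (Star CS isType.isCartan
      ({vec chevG2 2 6, vec chevG2 2 10, vec chevG2 2 11} : Set (Fin 2 → ℤ))) : Subgroup ↥(chevG2.group K)) :
        Set ↥(chevG2.group K)) := h1
  unfold PS at h3
  rw [Subgroup.coe_mul_of_left_le_normalizer_right _ _ hT, Set.mem_mul] at h3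
  obtain ⟨t, ht, q, hq, e1⟩ := h3
  have hqU : q ∈ RGD.Sup (XX K) (RGD.Pos CS isType.isCartan) := RGD.Sup_mono hsubP hq
  have htU : t ∈ RGD.Sup (XX K) (RGD.Pos CS isType.isCartan) ⊓
      ((chevG2.diagonalSubgroup K).subgroupOf (chevG2.group K)) := by
    refine ⟨?_, ht⟩
    have h5 : t = z * q⁻¹ := by rw [← e1]; group
    rw [h5]
    exact Subgroup.mul_mem _ hz (Subgroup.inv_mem _ hqU)
  rw [U_inf_T R, Subgroup.mem_bot] at htU
  have hzq : z = q := by rw [← e1, htU, one_mul]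
  obtain ⟨a, b, c, habc⟩ := sup_form (RGD.Sup_mono hsub hq)
  have hzz : z = xg K 8 a * xg K 9 b * xg K 11 c := by rw [hzq, habc]
  have h711 : ∀ t u : K, xg K 7 t * xg K 11 u = xg K 11 u * xg K 7 t := 
    comm_rs (r := 7) (s := 11) (by norm_num) (by norm_num) (by norm_num) (by norm_num) (by norm_num)
      (tab_comm (7, 11) (by simp))
  have h810 : ∀ t u : K, xg K 8 t * xg K 10 u = xg K 10 u * xg K 8 t := 
    comm_rs (r := 8) (s := 10) (by norm_num) (by norm_num) (by norm_num) (by norm_num) (by norm_num)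
      (tab_comm (8, 10) (by simp))
  have h7 : z * xg K 7 1 = xg K 7 1 * z := hc _ (hU 7 (by norm_num) (by norm_num) 1)
  have h8 : z * xg K 7 1 = xg K 10 b * xg K 10 a * xg K 11 (a ^ 2) * (xg K 7 1 * z) := by
    have e2 := da (K := K) 1 b
    have e3 := ca (K := K) 1 a
    rw [one_mul] at e2
    rw [one_pow, one_mul, one_mul] at e3
    rw [hzz]
    calc xg K 8 a * xg K 9 b * xg K 11 c * xg K 7 1 = xg K 8 a * xg K 9 b * (xg K 11 c * xg K 7 1) := by group
      _ = xg K 8 a * xg K 9 b * (xg K 7 1 * xg K 11 c) := by rw [h711]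
      _ = xg K 8 a * (xg K 9 b * xg K 7 1) * xg K 11 c := by group
      _ = xg K 8 a * (xg K 10 b * (xg K 7 1 * xg K 9 b)) * xg K 11 c := by rw [e2]
      _ = (xg K 8 a * xg K 10 b) * xg K 7 1 * xg K 9 b * xg K 11 c := by group
      _ = xg K 10 b * (xg K 8 a * xg K 7 1) * xg K 9 b * xg K 11 c := by rw [h810]; group
      _ = xg K 10 b * (xg K 10 a * xg K 11 (a ^ 2) * (xg K 7 1 * xg K 8 a)) * xg K 9 b * xg K 11 c := by rw [e3]
      _ = _ := by group
  rw [h7] at h8
  have h9 : xg K 10 b * xg K 10 a * xg K 11 (a ^ 2) = 1 := (right_eq_mul.1 h8)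
  rw [← xg_add] at h9
  obtain ⟨h10, h11⟩ := (gu (K := K)).ind4 (b + a) (a ^ 2) h9
  have ha : a = 0 := pow_eq_zero_iff (two_ne_zero) |>.1 h11
  rw [ha, add_zero] at h10
  have h12 : ∀ r, xg K r 0 = 1 := fun r => Subtype.ext (xG_zero isType.inList _)
  rw [hzz, ha, h10, h12, h12, one_mul, one_mul]
  exact (mem_XX (by norm_num)).2 ⟨c, rfl⟩

variable (K) in
/-- **`G₂(2ⁿ)`** -/
theorem rowTwo_G2 [Finite K] : RowTwo ↥(chevG2.group K) := by
  have : Fact (Nat.Prime 2) := ⟨Nat.prime_two⟩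
  have hW : Finite CoxeterMatrix.G₂.Group := finite_W isType CS
  have hsr : (sr 0 : Fin 2 → ℤ) = vec chevG2 2 7 := by
    rw [← vec_simple isType 0]
    show vec chevG2 2 (chevG2.simple 0) = _
    rw [tab_orth.2.2]
  refine rowTwo_of_rgd (rgd (K := K) isType CS 2) (GG_eq_top isType K) 0 fun z hz hc => ?_
  have h1 := cen_le K hz hc
  refine ⟨fun v hv => hc v (RGD.le_Sup (S := RGD.Pos CS isType.isCartan) ⟨isRoot_sr CS isType.isCartan 0, sr_nonneg 0⟩ hv),
    fun v hv => ?_⟩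
  refine ((long (K := K) (r := 11) (by simp)).comm (-sr 0) (isRoot_sr CS isType.isCartan 0).neg ?_ v hv z h1).symm
  rw [hsr, ← vec_neg isType (lt_nroots (by norm_num))]
  have h2 := cpr_vec isType CS (lt_nroots (r := 11) (by norm_num)) _ (lt_nroots tab_orth.2.1)
  rw [← carB_eq, tab_orth.1] at h2
  exact h2.ge

end GTwo

/-! ### Summary -/

/-- **`RowTwo` for the exceptional Chevalley groups in characteristic 2.** -/
theorem rowTwo_exc {G : Type u} [Group G] (hG : IsExceptionalChevChar 2 G) : RowTwo G := by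
  obtain ⟨F, _, _, _, hG⟩ := hG
  rcases hG with ⟨-, ⟨e⟩⟩ | ⟨⟨e⟩⟩ | ⟨⟨e⟩⟩ | ⟨⟨e⟩⟩ | ⟨⟨e⟩⟩
  · exact (rowTwo_G2 F).congr e.symm
  · exact (rowTwo_F4 F).congr e.symm
  · exact (rowTwo_E6 F).congr e.symm
  · exact (rowTwo_E7 F).congr e.symm
  · exact (rowTwo_E8 F).congr e.symm

end Cfsg.Agent.H92.Tall
end

-- part: H252/LT/Asm
section
prune_inst 0x4342021044c0000000018001200000060320001020043000131a00502080e9061a9022600f8b00f12110008f4400a0040000000190010000020000a00411801a0002170e61334ad0033000000f807180c00000000000000000000000000041000000000000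
set_option linter.all false
open scoped Cfsg.Agent.FastGrp

-- part: H252/LT/Tr
section
/-! # S2927: transfer between `G` and the normal subgroup `K` -/

set_option autoImplicit false
set_option linter.unusedSectionVars false
open Cfsg Subgroup
open Cfsg.Agent.H229 Cfsg.Agent.H230

universe u

namespace Cfsg.Agent.H252.LT

variable {G : Type*} [Group G]

theorem le_norm_subgroupOf {A B K : Subgroup G} (h : A ≤ normalizer (B : Set G)) :
    A.subgroupOf K ≤ normalizer ((B.subgroupOf K : Subgroup ↥K) : Set ↥K) := by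
  rw [le_norm_iff] at h ⊢
  intro a ha b hb
  exact h a ha b hb

theorem pCoreOf_subgroupOf {p : ℕ} {K L : Subgroup G} (hL : L ≤ K) :
    pCoreOf p (L.subgroupOf K) = (pCoreOf p L).subgroupOf K := by
  apply le_antisymm
  · intro x hx
    have h1 : (pCoreOf p (L.subgroupOf K)).map K.subtype ≤ pCoreOf p L := by
      apply le_pCoreOf
      · rw [Subgroup.map_le_iff_le_comap]
        exact pCoreOf_le _ _
      · rw [le_norm_iff]
        rintro l hl _ ⟨y, hy, rfl⟩
        refine ⟨⟨l, hL hl⟩ * y * ⟨l, hL hl⟩⁻¹, ?_, rfl⟩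
        exact (le_norm_iff.1 (le_norm_pCoreOf p (L.subgroupOf K))) ⟨l, hL hl⟩ hl y hy
      · exact (isPGroup_pCoreOf p _).map _
    exact h1 ⟨x, hx, rfl⟩
  · apply le_pCoreOf
    · exact fun x hx => pCoreOf_le p L hx
    · exact le_norm_subgroupOf (le_norm_pCoreOf p L)
    · exact (isPGroup_pCoreOf p L).comap_of_injective K.subtype K.subtype_injective

theorem centralizer_singleton_subtype {K : Subgroup G} (z : ↥K) :
    centralizer ({z} : Set ↥K) = (centralizer ({(z : G)} : Set G) ⊓ K).subgroupOf K := by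
  ext x
  rw [mem_subgroupOf, mem_inf, mem_centralizer_singleton_iff, mem_centralizer_singleton_iff, Subtype.ext_iff]
  exact ⟨fun h => ⟨h, x.2⟩, fun h => h.1⟩

/-- `|N : H ∩ N| ∣ |G : H|` for `N` normal. -/
theorem relIndex_dvd_index' [Finite G] (H N : Subgroup G) [N.Normal] : H.relIndex N ∣ H.index := by
  have h1 : (H ⊓ N).relIndex N * N.relIndex (H ⊔ N) = (H ⊓ N).relIndex (H ⊔ N) :=
    relIndex_mul_relIndex _ _ _ inf_le_right le_sup_right
  have h2 : (H ⊓ N).relIndex H * H.relIndex (H ⊔ N) = (H ⊓ N).relIndex (H ⊔ N) :=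
    relIndex_mul_relIndex _ _ _ inf_le_left le_sup_left
  rw [inf_relIndex_right, relIndex_sup_right] at h1
  rw [inf_relIndex_left, ← h1, mul_comm] at h2
  have h3 : 0 < N.relIndex H := Nat.pos_of_ne_zero (by
    unfold relIndex
    exact index_ne_zero_of_finite)
  have h4 : H.relIndex (H ⊔ N) = H.relIndex N := Nat.eq_of_mul_eq_mul_right h3 h2
  rw [← h4]
  exact relIndex_dvd_index_of_le le_sup_left

theorem index_cent_dvd [Finite G] {K : Subgroup G} [hK : K.Normal] (z : ↥K) :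
    (centralizer ({z} : Set ↥K)).index ∣ (centralizer ({(z : G)} : Set G)).index := by
  have h1 : (centralizer ({z} : Set ↥K)).index = (centralizer ({(z : G)} : Set G)).relIndex K := by
    rw [centralizer_singleton_subtype, Subgroup.relIndex, Subgroup.inf_subgroupOf_right]
  rw [h1]
  exact relIndex_dvd_index' _ _

/-! ### central involutions -/

namespace Cx

variable [Finite G] {S : Sylow 2 G} {Q M : Subgroup G}

theorem two_dvd_of_simple {K : Type*} [Group K] [Finite K] [IsSimpleGroup K] (hna : ¬ IsMulCommutative K) :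
    2 ∣ Nat.card K := by
  by_contra h
  have hodd : Odd (Nat.card K) := by
    rw [← Nat.not_even_iff_odd, even_iff_two_dvd]
    exact h
  have hs := S0205.result hodd
  apply hna
  refine ⟨⟨fun a b => ?_⟩⟩
  exact IsSimpleGroup.comm_iff_isSolvable.2 hs a b

/-- an involution of the normal subgroup `K` (of even order) central in `S`. -/
theorem exists_central (S : Sylow 2 G) (K : Subgroup G) [hK : K.Normal] (h2 : 2 ∣ Nat.card ↥K) :
    ∃ z ∈ K, z ∈ centralizer ((S : Subgroup G) : Set G) ∧ z ^ 2 = 1 ∧ z ≠ 1 := by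
  have : Fact (Nat.Prime 2) := ⟨Nat.prime_two⟩
  -- `S ∩ K ≠ 1`
  have h1 : (S : Subgroup G) ⊓ K ≠ ⊥ := by
    intro h
    obtain ⟨t, ht⟩ := exists_prime_orderOf_dvd_card' (G := ↥K) 2 h2
    have ht' : IsPGroup 2 ↥(zpowers (t : G)) := by
      rw [IsPGroup.iff_card]
      refine ⟨1, ?_⟩
      rw [Nat.card_zpowers, Subgroup.orderOf_coe, ht, pow_one]
    obtain ⟨S', hS'⟩ := ht'.exists_le_sylow
    obtain ⟨g, hg⟩ := MulAction.exists_smul_eq G S' S
    have h3 : g * t * g⁻¹ ∈ (S : Subgroup G) := by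
      rw [← hg]
      exact ⟨t, hS' (mem_zpowers _), rfl⟩
    have h4 : g * t * g⁻¹ ∈ (S : Subgroup G) ⊓ K := ⟨h3, hK.conj_mem _ t.2 g⟩
    rw [h, mem_bot] at h4
    have h5 : (t : G) = 1 := by
      calc (t : G) = g⁻¹ * (g * t * g⁻¹) * g := by group
        _ = 1 := by rw [h4]; group
    have h6 : t = 1 := Subtype.ext h5
    rw [h6, orderOf_one] at ht
    exact absurd ht (by norm_num)
  have h2' : (S : Subgroup G) ≤ normalizer (((S : Subgroup G) ⊓ K : Subgroup G) : Set G) := by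
    intro s hs
    refine norm_inf_le _ _ ⟨le_normalizer hs, ?_⟩
    rw [Subgroup.normalizer_eq_top_iff.2 hK]; exact mem_top s
  have h3 := PLocal.OffenderStep.inf_centralizer_ne_bot ((S : Subgroup G) ⊓ K) (S : Subgroup G)
    (isPGroup_mono inf_le_left S.2) S.2 h2' h1
  have h4 : IsPGroup 2 ↥((S : Subgroup G) ⊓ K ⊓ centralizer ((S : Subgroup G) : Set G) : Subgroup G) :=
    isPGroup_mono (inf_le_left.trans inf_le_left) S.2
  have h5 : 2 ∣ Nat.card ↥((S : Subgroup G) ⊓ K ⊓ centralizer ((S : Subgroup G) : Set G) : Subgroup G) := by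
    obtain ⟨n, hn⟩ := IsPGroup.iff_card.1 h4
    rcases Nat.eq_zero_or_pos n with h0 | h0
    · rw [h0, pow_zero, Subgroup.card_eq_one] at hn
      exact absurd hn h3
    · rw [hn]; exact dvd_pow_self 2 h0.ne'
  obtain ⟨z, hz⟩ := exists_prime_orderOf_dvd_card' 2 h5
  refine ⟨z, z.2.1.2, z.2.2, ?_, ?_⟩
  · have := pow_orderOf_eq_one z
    rw [hz] at this
    exact congrArg Subtype.val this
  · intro h
    have h6 : z = 1 := Subtype.ext h
    rw [h6, orderOf_one] at hz
    exact absurd hz (by norm_num)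

theorem odd_index {z : G} (hz : z ∈ centralizer ((S : Subgroup G) : Set G)) :
    ¬ 2 ∣ (centralizer ({z} : Set G)).index := by
  have : Fact (Nat.Prime 2) := ⟨Nat.prime_two⟩
  have h1 : (S : Subgroup G) ≤ centralizer ({z} : Set G) := by
    intro s hs
    rw [mem_centralizer_singleton_iff]
    exact mem_centralizer_iff.1 hz s hs
  intro h2
  exact S.not_dvd_index (h2.trans (index_dvd_of_le h1))

theorem twoCentral {K : Subgroup G} [K.Normal] {z : ↥K} (hz : (z : G) ∈ centralizer ((S : Subgroup G) : Set G))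
    (h2 : (z : G) ^ 2 = 1) (h1 : (z : G) ≠ 1) : TwoCentral z := by
  refine ⟨fun h => h1 (by rw [h]; rfl), Subtype.ext h2, fun h => ?_⟩
  exact odd_index hz (h.trans (index_cent_dvd z))

/-- `C_G(z)` has characteristic 2 for `z` central in `S`. -/
theorem chP_center (c : Cx S Q M) {z : G} (hz : z ∈ centralizer ((S : Subgroup G) : Set G)) (h1 : z ≠ 1) :
    ChP 2 (centralizer ({z} : Set G)) := by
  apply c.chP_of_S
  · intro s hs
    rw [mem_centralizer_singleton_iff]
    exact mem_centralizer_iff.1 hz s hs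
  · intro h
    have hzS : z ∈ (S : Subgroup G) := c.st.QS (c.center_mem_S hz)
    have h2 : zpowers z ≤ pCoreOf 2 (centralizer ({z} : Set G)) := by
      apply le_pCoreOf
      · rw [zpowers_le, mem_centralizer_singleton_iff]
      · exact (centralizer_singleton_le_zpowers z).trans (centralizer_le_norm _)
      · exact isPGroup_mono (by rw [zpowers_le]; exact hzS) S.2
    rw [h, le_bot_iff, zpowers_eq_bot] at h2
    exact h1 h2

end Cx

end Cfsg.Agent.H252.LT
end

-- part: H258/TF/Cx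
section
/-!
# S2927: from the hypotheses to the standing counterexample `Cx` (helper258)

`exists_cx`: the hypotheses of S2927 and `¬ IsCharPTall 2 Y_M` give `Cx S Q M`.
-/

set_option autoImplicit false
open Cfsg Subgroup
open Cfsg.Agent.H229 Cfsg.Agent.H230

namespace Cfsg.Agent.H258.TF

variable {G : Type*} [Group G]

/-- `N_G(R)` has characteristic `p` if `C_G(z)` has, `z ∈ Z(R)`. -/
theorem chP_norm_of_cent [Finite G] {p : ℕ} [Fact p.Prime] {R : Subgroup G} (hR : IsPGroup p ↥R) {z : G}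
    (hz : z ∈ R) (hzc : ∀ x ∈ R, x * z = z * x) (h : ChP p (centralizer ({z} : Set G))) :
    ChP p (normalizer (R : Set G)) :=
  chP_iff.2 (H239.CharPLocal.cp_normalizer_of_centralizer hR hz hzc (chP_iff.1 h))

/-- a `p`-subgroup of a normal subgroup `N` whose image in `M / O_p(M)` lies in the Frattini subgroup is contained in
`O_p(M)`. -/
theorem le_pCore_of_frattini {M : Type*} [Group M] [Finite M] {p : ℕ} [hp : Fact p.Prime] {N : Subgroup M}
    [hN : N.Normal] [hn : (pCore p M).Normal]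
    (h : N.map (QuotientGroup.mk' (pCore p M)) ≤ frattini (M ⧸ pCore p M)) {R : Subgroup M} (hR : IsPGroup p ↥R)
    (hRN : R ≤ N) : R ≤ pCore p M := by
  set π := QuotientGroup.mk' (pCore p M) with hπ
  have hsur : Function.Surjective π := QuotientGroup.mk'_surjective _
  have h1 : Group.IsNilpotent ↥(frattini (M ⧸ pCore p M)) := frattini_nilpotent
  have h2 : Group.IsNilpotent ↥(N.map π) := Group.nilpotent_of_mulEquiv (subgroupOfEquivOfLe h)
  have hNn : (N.map π).Normal := hN.map π hsur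
  -- the image of `R` lies in a Sylow subgroup of the image of `N`
  have hRb : IsPGroup p ↥((R.map π).subgroupOf (N.map π)) :=
    (hR.map π).comap_of_injective _ (Subgroup.subtype_injective _)
  obtain ⟨P, hP⟩ := hRb.exists_le_sylow
  have hPn : (P : Subgroup ↥(N.map π)).Normal := inferInstance
  have hP1 : (P : Subgroup ↥(N.map π)) ≤ pCore p ↥(N.map π) := Lib.Cores.le_pCore hPn P.2
  have h3 : (pCore p ↥(N.map π)).map (N.map π).subtype ≤ pCore p (M ⧸ pCore p M) := by
    rw [Lib.Cores.map_subtype_pCore p hNn]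
    exact inf_le_right
  have h4 : R.map π ≤ pCore p (M ⧸ pCore p M) := by
    refine le_trans ?_ ((Subgroup.map_mono (hP.trans hP1)).trans h3)
    rw [Subgroup.subgroupOf_map_subtype, inf_eq_left.2 (Subgroup.map_mono hRN)]
  rw [Lib.Cores.pCore_quotient_pCore, le_bot_iff, Subgroup.map_eq_bot_iff, QuotientGroup.ker_mk'] at h4
  exact h4

/-- the `p`-subgroups of `C_M(Y)` lie in `O_p(M)` -/
theorem le_core_of_frattini [Finite G] {p : ℕ} [hp : Fact p.Prime] {M Y : Subgroup G} (hMY : M ≤ normalizer (Y : Set G))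
    [hOn : (pCore p ↥M).Normal]
    (hfrat : ((M ⊓ centralizer (Y : Set G)).subgroupOf M).map (QuotientGroup.mk' (pCore p ↥M)) ≤
      frattini (↥M ⧸ pCore p ↥M)) {R : Subgroup G} (hR : IsPGroup p ↥R) (hRM : R ≤ M)
    (hRc : R ≤ centralizer (Y : Set G)) : R ≤ pCoreOf p M := by
  have hKn : ((M ⊓ centralizer (Y : Set G)).subgroupOf M).Normal := by
    refine (normal_subgroupOf_iff_le_normalizer inf_le_left).2 ?_
    refine le_trans ?_ (norm_inf_le _ _)
    exact le_inf le_normalizer (hMY.trans (norm_le_norm_centralizer _))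
  have h1 : R.subgroupOf M ≤ pCore p ↥M := by
    refine le_pCore_of_frattini (hN := hKn) hfrat (hR.comap_of_injective _ (Subgroup.subtype_injective _)) ?_
    intro x hx
    exact mem_subgroupOf.2 ⟨x.2, hRc (mem_subgroupOf.1 hx)⟩
  intro x hx
  exact ⟨⟨x, hRM hx⟩, h1 (mem_subgroupOf.2 hx), rfl⟩

theorem isPClosed_of {p : ℕ} {K T : Subgroup G} (hTK : T ≤ K) (hKT : K ≤ normalizer (T : Set G))
    (hT : IsPGroup p ↥T) (h1 : ∀ R : Subgroup G, IsPGroup p ↥R → R ≤ K → R ≤ T) : IsPClosed p ↥K := by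
  intro P
  have h2 : (P : Subgroup ↥K).map K.subtype = T := by
    have h3 : IsSylowOf p ((P : Subgroup ↥K).map K.subtype) K := ⟨P, rfl⟩
    rw [isSylowOf_iff_maximal] at h3
    exact (h3.2.2 _ hTK hT (h1 _ h3.2.1 h3.1)).symm
  have h4 : (T.subgroupOf K).Normal := (normal_subgroupOf_iff_le_normalizer hTK).2 hKT
  have h5 : (P : Subgroup ↥K) = T.subgroupOf K := by
    rw [← h2, Subgroup.subgroupOf, Subgroup.comap_map_eq_self_of_injective K.subtype_injective]
  rw [h5]
  exact h4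

/-- the basic property from the hypotheses of S2927 -/
theorem isInFrakM [Finite G] {p : ℕ} [hp : Fact p.Prime] {S : Sylow p G} {Q M : Subgroup G} (hl : LargeP p Q)
    (hQS : Q ≤ (S : Subgroup G)) (hSM : (S : Subgroup G) ≤ M)
    (hM : pCoreOf p M ≠ ⊥ ∧ centralizer (pCoreOf p M : Set G) ≤ pCoreOf p M)
    (hbasic : ∀ L : Subgroup G, M ≤ L → (pCoreOf p L ≠ ⊥ ∧ centralizer (pCoreOf p L : Set G) ≤ pCoreOf p L) →
      L ≤ dag p M)
    (hY : largestPReducedOf p M = largestPReducedOf p (dag p M)) [hOn : (pCore p ↥M).Normal]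
    (hfrat : ((M ⊓ centralizer (largestPReducedOf p M : Set G)).subgroupOf M).map
      (QuotientGroup.mk' (pCore p ↥M)) ≤ frattini (↥M ⧸ pCore p ↥M)) : IsInFrakM p M := by
  have hMc : M ∈ charPSubgroups p G := mem_charPSubgroups.2 hM
  have hYne : largestPReducedOf p M ≠ ⊥ := largest_ne_bot (chP_of_mem_charPSubgroups hMc) hM.1
  have hdne : pCoreOf p (dag p M) ≠ ⊥ := by
    intro h
    apply hYne
    rw [hY, ← le_bot_iff, ← h]
    exact largest_le_pCoreOf p _
  have hSd : (S : Subgroup G) ≤ dag p M := hSM.trans le_sup_left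
  have hdc : dag p M ∈ charPSubgroups p G := hl.mem_charPSubgroups S hQS hSd hdne
  refine ⟨hMc, ⟨hdc, ?_⟩, ?_, hY, ?_, hfrat⟩
  · intro L hL hdL
    exact le_antisymm (hbasic L (le_sup_left.trans hdL) (mem_charPSubgroups.1 hL)) hdL
  · intro X hX hMX
    have h1 := hbasic X hMX (mem_charPSubgroups.1 hX.1)
    exact (hX.2 _ hdc h1).symm
  · have hTK : pCoreOf p M ≤ M ⊓ centralizer (largestPReducedOf p M : Set G) :=
      le_inf (pCoreOf_le p M) (pCoreOf_le_centralizer_largest p M)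
    have h1 : ∀ R : Subgroup G, IsPGroup p ↥R → R ≤ M ⊓ centralizer (largestPReducedOf p M : Set G) →
        R ≤ pCoreOf p M := fun R hR hRK =>
      le_core_of_frattini (largest_normal p M) hfrat hR (hRK.trans inf_le_left) (hRK.trans inf_le_right)
    have hMK : M ⊓ centralizer (largestPReducedOf p M : Set G) ≤ normalizer (pCoreOf p M : Set G) :=
      inf_le_left.trans (le_norm_pCoreOf p M)
    exact isPClosed_of hTK hMK (isPGroup_pCoreOf p M) h1

section Setup

variable {p : ℕ} {S : Sylow p G} {Q M : Subgroup G} [Finite G] [hp : Fact p.Prime]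

/-- `O_p(M)` is a Sylow `p`-subgroup of `C_G(Y_M)` -/
theorem isSylowOf_core (h : Setup p S Q M) : IsSylowOf p (pCoreOf p M) (centralizer (largestPReducedOf p M : Set G)) := by
  rw [isSylowOf_iff_maximal]
  refine ⟨pCoreOf_le_centralizer_largest p M, isPGroup_pCoreOf p M, fun R hR hRp hTR => ?_⟩
  have h1 := h.inf_cent_eq hRp (hR.trans le_sup_right) hTR
  rwa [inf_eq_left.2 hR] at h1

/-- `Ω₁(Z(O_p(M))) = Y_M` -/
theorem zOmega_le (h : Setup p S Q M) : zOmega p (pCoreOf p M) ≤ largestPReducedOf p M := by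
  apply le_largest
  have hVT : zOmega p (pCoreOf p M) ≤ pCoreOf p M := fun x hx => hx.1
  refine ⟨hVT.trans (pCoreOf_le p M), (le_norm_pCoreOf p M).trans (norm_le_norm_zOmega p _), ea_zOmega p _, ?_⟩
  intro B hBM hMB hB
  have hBY : B ≤ centralizer (largestPReducedOf p M : Set G) := by
    refine (pRed_largest p M).2.2.2 B hBM hMB fun b hb => ?_
    obtain ⟨k, hk⟩ := hB b hb
    exact ⟨k, centralizer_le (show (largestPReducedOf p M : Set G) ⊆ _ from largest_le_zOmega p M) hk⟩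
  obtain ⟨R, hR⟩ := exists_isSylowOf (p := p) B
  refine le_centralizer_of_sylow le_rfl hB hR ?_
  have h1 : R ≤ pCoreOf p M := by
    have h2 : IsPGroup p ↥(pCoreOf p M ⊔ R : Subgroup G) :=
      isPGroup_sup_of_norm (isPGroup_pCoreOf p M) hR.isPGroup ((hR.le.trans hBM).trans (le_norm_pCoreOf p M))
    have h3 : pCoreOf p M ⊔ R ≤ dag p M := (sup_le (pCoreOf_le p M) (hR.le.trans hBM)).trans le_sup_left
    rw [← h.inf_cent_eq h2 h3 le_sup_left]
    exact le_inf le_sup_right (hR.le.trans hBY)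
  intro x hx
  rw [mem_centralizer_iff]
  intro y hy
  exact (mem_centralizer_iff.1 hy.2.1 x (h1 hx)).symm

end Setup

/-- **The standing counterexample.** -/
theorem exists_cx [Finite G] {S : Sylow 2 G}
    (hmax : ∃ M₁ M₂ : Subgroup G, M₁ ≠ M₂ ∧ Cfsg.IsMaximalTwoLocal M₁ ∧ Cfsg.IsMaximalTwoLocal M₂ ∧
      (S : Subgroup G) ≤ M₁ ∧ (S : Subgroup G) ≤ M₂) {Q M : Subgroup G} (hQS : Q ≤ (S : Subgroup G))
    (hQ1 : ((Cfsg.pCore 2 ↥(Subgroup.normalizer (Q : Set G))).map (Subgroup.normalizer (Q : Set G)).subtype) = Q)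
    (hQ2 : Subgroup.centralizer (Q : Set G) ≤ Q)
    (hQ3 : ∀ A : Subgroup G, A ≤ Q ⊓ Subgroup.centralizer (Q : Set G) → A ≠ ⊥ →
      Subgroup.normalizer (A : Set G) ≤ Subgroup.normalizer (Q : Set G)) (hSM : (S : Subgroup G) ≤ M)
    (hM : (((Cfsg.pCore 2 ↥M).map M.subtype) ≠ ⊥ ∧
      Subgroup.centralizer (((Cfsg.pCore 2 ↥M).map M.subtype) : Set G) ≤ ((Cfsg.pCore 2 ↥M).map M.subtype)))
    (hbasic : ∀ L : Subgroup G, M ≤ L → ((((Cfsg.pCore 2 ↥L).map L.subtype) ≠ ⊥ ∧
      Subgroup.centralizer (((Cfsg.pCore 2 ↥L).map L.subtype) : Set G) ≤ ((Cfsg.pCore 2 ↥L).map L.subtype)) ↔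
      (L ≤ (M ⊔ Subgroup.centralizer ((Cfsg.largestPReducedOf 2 M) : Set G)) ∧
        ((Cfsg.pCore 2 ↥L).map L.subtype) ≠ ⊥ ∧
        (M ⊔ Subgroup.centralizer ((Cfsg.largestPReducedOf 2 M) : Set G)) ⊓
          Subgroup.centralizer (((Cfsg.pCore 2 ↥L).map L.subtype) : Set G) ≤ ((Cfsg.pCore 2 ↥L).map L.subtype))))
    (hY : (Cfsg.largestPReducedOf 2 M) =
      Cfsg.largestPReducedOf 2 (M ⊔ Subgroup.centralizer ((Cfsg.largestPReducedOf 2 M) : Set G)))
    [hOn : (Cfsg.pCore 2 ↥M).Normal]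
    (hfrat : ((M ⊓ Subgroup.centralizer ((Cfsg.largestPReducedOf 2 M) : Set G)).subgroupOf M).map
      (QuotientGroup.mk' (Cfsg.pCore 2 ↥M)) ≤ frattini (↥M ⧸ Cfsg.pCore 2 ↥M))
    (hasym : ¬ Cfsg.IsSymmetricIn (Cfsg.largestPReducedOf 2 M))
    (htall : Cfsg.IsTall 2 (Cfsg.largestPReducedOf 2 M))
    (hnot : ¬ Cfsg.IsCharPTall 2 (Cfsg.largestPReducedOf 2 M)) : H252.LT.Cx S Q M := by
  have hM' : pCoreOf 2 M ≠ ⊥ ∧ centralizer (pCoreOf 2 M : Set G) ≤ pCoreOf 2 M := hM
  have hQne : Q ≠ ⊥ := by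
    rintro rfl
    apply hM'.1
    rw [eq_bot_iff]
    intro x _
    apply hQ2
    rw [mem_centralizer_iff]
    intro y hy
    rw [mem_bot.1 hy]; simp
  have hl : LargeP 2 Q := ⟨isPGroup_mono hQS S.2, hQne, hQ2, fun U hU hU1 => hQ3 U (le_inf (hU.trans hQ2) hU) hU1⟩
  have hst : Setup 2 S Q M :=
    ⟨hl, hQS, hSM, isInFrakM hl hQS hSM hM' (fun L hML hL => ((hbasic L hML).1 hL).1) hY hfrat⟩
  set Y := largestPReducedOf 2 M with hYdef
  set T := pCoreOf 2 M with hTdef
  have hYT : Y ≤ T := largest_le_pCoreOf 2 M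
  have hsyl := isSylowOf_core hst
  -- SHORT
  have hshort : ∀ L : Subgroup G, T ≤ L → ChP 2 L → Y ≤ pCoreOf 2 L := by
    intro L hTL hL
    by_contra hcon
    obtain ⟨P, hP⟩ := hsyl
    exact hnot ⟨P, L, by rw [hP]; exact hTL, chP_iff.1 hL, hcon⟩
  -- TALL
  have htall' : ∃ L : Subgroup G, T ≤ L ∧ pCoreOf 2 L ≠ ⊥ ∧ ¬ Y ≤ pCoreOf 2 L := by
    obtain ⟨P, L, h1, h2, h3⟩ := htall
    obtain ⟨a, ha, haT⟩ := (IsSylowOf.of_sylow P).exists_conj hsyl
    have haY : cj a Y = Y := mem_norm.1 (centralizer_le_norm _ ha)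
    refine ⟨cj a L, ?_, ?_, ?_⟩
    · have haT' : cj a ((P : Subgroup ↥(centralizer (Y : Set G))).map (centralizer (Y : Set G)).subtype) = T := haT
      rw [← haT']; exact cj_mono h1
    · rw [pCoreOf_cj, Ne, cj_eq_bot, pCoreOf_eq_bot_iff]; exact h2
    · rw [pCoreOf_cj, ← haY, cj_le_cj]; exact h3
  -- BAD
  have hbad : ∃ x ∈ Y, x ≠ 1 ∧ ¬ ChP 2 (centralizer ({x} : Set G)) := by
    by_contra hcon
    push Not at hcon
    obtain ⟨L, hTL, hL1, hYL⟩ := htall'
    set R := pCoreOf 2 L with hR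
    have hRp : IsPGroup 2 ↥R := isPGroup_pCoreOf 2 L
    have hTR : T ≤ normalizer (R : Set G) := hTL.trans (le_norm_pCoreOf 2 L)
    have hZ1 : R ⊓ centralizer (R : Set G) ≠ ⊥ :=
      PLocal.OffenderStep.inf_centralizer_ne_bot R R hRp hRp le_normalizer hL1
    have hTZ : T ≤ normalizer ((R ⊓ centralizer (R : Set G) : Subgroup G) : Set G) :=
      (le_inf hTR (hTR.trans (norm_le_norm_centralizer _))).trans (norm_inf_le _ _)
    have hZp : IsPGroup 2 ↥(R ⊓ centralizer (R : Set G) : Subgroup G) := isPGroup_mono inf_le_left hRp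
    have hne : (R ⊓ centralizer (R : Set G)) ⊓ centralizer (T : Set G) ≠ ⊥ :=
      PLocal.OffenderStep.inf_centralizer_ne_bot _ T hZp (isPGroup_pCoreOf 2 M) hTZ hZ1
    obtain ⟨z, hz, hzo⟩ : ∃ z ∈ (R ⊓ centralizer (R : Set G)) ⊓ centralizer (T : Set G), orderOf z = 2 := by
      have h1 : IsPGroup 2 ↥((R ⊓ centralizer (R : Set G)) ⊓ centralizer (T : Set G) : Subgroup G) :=
        isPGroup_mono inf_le_left hZp
      have h2 : 2 ∣ Nat.card ↥((R ⊓ centralizer (R : Set G)) ⊓ centralizer (T : Set G) : Subgroup G) := by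
        obtain ⟨n, hn⟩ := IsPGroup.iff_card.1 h1
        have h3 : n ≠ 0 := by
          rintro rfl
          rw [pow_zero, Subgroup.card_eq_one] at hn
          exact hne hn
        rw [hn]
        exact dvd_pow_self 2 h3
      obtain ⟨w, hw⟩ := exists_prime_orderOf_dvd_card' 2 h2
      exact ⟨w, w.2, by rw [Subgroup.orderOf_coe, hw]⟩
    have hz2 : z ^ 2 = 1 := by rw [← hzo]; exact pow_orderOf_eq_one z
    have hz1 : z ≠ 1 := by
      rintro rfl
      rw [orderOf_one] at hzo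
      omega
    have hzY : z ∈ Y := zOmega_le hst ⟨hst.cent_core hz.2, hz.2, hz2⟩
    have hN : ChP 2 (normalizer (R : Set G)) :=
      chP_norm_of_cent hRp hz.1.1 (fun x hx => mem_centralizer_iff.1 hz.1.2 x hx) (hcon z hzY hz1)
    have h3 : Y ≤ pCoreOf 2 (normalizer (R : Set G)) := hshort _ hTR hN
    apply hYL
    exact (le_inf h3 (hYT.trans hTL)).trans (pCoreOf_inf_le (le_norm_pCoreOf 2 L))
  refine ⟨hst, hQ1, hmax, hasym, hshort, hbad, ?_⟩
  -- FIX
  intro y hy hMy
  by_contra hy1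
  have h1 : zpowers y ≤ centralizer (Q : Set G) := by
    rw [zpowers_le, mem_centralizer_iff]
    intro q hq
    exact mem_centralizer_singleton_iff.1 (hMy (hSM (hQS hq)))
  have h2 : zpowers y ≠ ⊥ := by rwa [Ne, zpowers_eq_bot]
  have h3 : M ≤ normalizer (Q : Set G) := by
    refine hMy.trans (le_trans ?_ (hl.norm h1 h2))
    exact (H252.LT.centralizer_singleton_le_zpowers y).trans (centralizer_le_norm _)
  have hQT : Q ≤ T := le_pCoreOf (hQS.trans hSM) h3 hl.pgroup
  obtain ⟨x, hx, hx1, hxb⟩ := hbad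
  apply hxb
  have hxT := largest_le_zOmega 2 M hx
  have hQx : Q ≤ centralizer ({x} : Set G) := by
    intro q hq
    rw [mem_centralizer_singleton_iff]
    exact mem_centralizer_iff.1 hxT.2.1 q (hQT hq)
  apply hl.chP hQx
  intro h4
  apply hx1
  have h5 : zpowers x ≤ pCoreOf 2 (centralizer ({x} : Set G)) := by
    refine le_pCoreOf ?_ ?_ ?_
    · rw [zpowers_le, mem_centralizer_singleton_iff]
    · exact (H252.LT.centralizer_singleton_le_zpowers x).trans (centralizer_le_norm _)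
    · exact isPGroup_mono (zpowers_le.2 hxT.1) (isPGroup_pCoreOf 2 M)
  rw [h4, le_bot_iff, zpowers_eq_bot] at h5
  exact h5

end Cfsg.Agent.H258.TF
end

-- part: H252/LT/Tall
section
/-! # S2927: the bridge from `Cx` to helper226's `Tall`, `One`, and from `No1` to `DeadL` -/

set_option autoImplicit false
set_option linter.unusedSectionVars false
open Cfsg Subgroup
open Cfsg.Agent.H229 Cfsg.Agent.H230
open Cfsg.Agent.H226.Tall (Tall One No1 O2 Wc)
open Cfsg.Agent.H239.CharPLocal (CP)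

universe u

namespace Cfsg.Agent.H252.LT

variable {G : Type*} [Group G] [Finite G] {S : Sylow 2 G} {Q M : Subgroup G}

namespace Cx

/-- the elements of `Z(Q)` -/
theorem good_of_center (c : Cx S Q M) {a : G} (haQ : a ∈ Q) (ha1 : a ≠ 1) (hac : ∀ q ∈ Q, q * a = a * q) :
    centralizer ({a} : Set G) ≤ normalizer (Q : Set G) ∧ ChP 2 (centralizer ({a} : Set G)) := by
  have hac' : a ∈ centralizer (Q : Set G) := mem_centralizer_iff.2 hac
  have h2 : zpowers a ≤ centralizer (Q : Set G) := by rwa [zpowers_le]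
  have h3 : zpowers a ≠ ⊥ := by rwa [Ne, zpowers_eq_bot]
  refine ⟨?_, ?_⟩
  · refine le_trans ?_ (c.st.large.norm h2 h3)
    refine le_trans ?_ (centralizer_le_norm _)
    exact (centralizer_singleton_le_zpowers a)
  · refine c.st.large.chP (p := 2) ?_ ?_
    · intro q hq
      rw [mem_centralizer_singleton_iff]
      exact hac q hq
    · intro h
      apply ha1
      have hza : zpowers a ≤ pCoreOf 2 (centralizer ({a} : Set G)) := by
        apply le_pCoreOf
        · rw [zpowers_le, mem_centralizer_singleton_iff]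
        · refine le_trans ?_ (centralizer_le_norm _)
          exact (centralizer_singleton_le_zpowers a)
        · exact isPGroup_mono (by rw [zpowers_le]; exact haQ) (isPGroup_mono c.st.QS S.2)
      rw [h, le_bot_iff, zpowers_eq_bot] at hza
      exact hza

theorem mem_Y_iff (c : Cx S Q M) (y : G) : y ∈ largestPReducedOf 2 M ↔
    y ∈ pCoreOf 2 M ∧ y * y = 1 ∧ ∀ t ∈ pCoreOf 2 M, t * y = y * t := by
  constructor
  · intro hy
    have h1 := mem_zOmega.1 (largest_le_zOmega 2 M hy)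
    refine ⟨c.Y_le_T hy, ?_, ?_⟩
    · rw [← pow_two]; exact c.Y_ea.2 _ hy
    · exact fun t ht => mem_centralizer_iff.1 (h1.2.1) t ht
  · rintro ⟨h1, h2, h3⟩
    apply H258.TF.zOmega_le c.st
    rw [mem_zOmega]
    exact ⟨h1, mem_centralizer_iff.2 h3, by rw [pow_two]; exact h2⟩

theorem not_M_le_norm (c : Cx S Q M) : ¬ M ≤ normalizer (Q : Set G) := by
  intro h
  obtain ⟨x, hxY, hx1, hx⟩ := c.bad
  have h1 : Q ≤ pCoreOf 2 M := le_pCoreOf (c.st.QS.trans c.st.SM) h (isPGroup_mono c.st.QS S.2)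
  exact hx (c.good_of_center (c.Y_le_Q hxY) hx1 fun q hq => ((c.mem_Y_iff x).1 hxY).2.2 q (h1 hq)).2

theorem norm_Y (c : Cx S Q M) {L : Subgroup G} (hL : M ≤ L) (h1 : pCoreOf 2 L ≠ ⊥) :
    L ≤ normalizer (largestPReducedOf 2 M : Set G) := by
  have h2 := c.st.large.mem_charPSubgroups S c.st.QS (c.st.SM.trans hL) h1
  obtain ⟨X, hX, hLX⟩ := exists_maxCharP h2
  rw [c.st.dag_unique hX (hL.trans hLX)] at hLX
  exact hLX.trans Setup.dag_le_norm

theorem Wc_le_V (c : Cx S Q M) : Wc Q (largestPReducedOf 2 M) ≤ c.V := by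
  rw [Wc, closure_le]
  rintro _ ⟨n, hn, y, hy, rfl⟩
  exact cj_le_ncl hn ⟨y, hy, rfl⟩

/-- **The bridge.** -/
theorem tall {G : Type u} [Group G] [Finite G] {S : Sylow 2 G} {Q M : Subgroup G} (c : Cx S Q M) :
    ∃ x, Tall S Q M (largestPReducedOf 2 M) x := by
  have hbad := c.bad
  obtain ⟨x, hxY, hx1, hx⟩ := c.bad
  refine ⟨x, ?_⟩
  exact
  { Q_le := c.st.QS
    Q_core := c.bullet
    Q_cent := c.st.large.cent
    Q_norm := fun A hA hA1 => c.st.large.norm (hA.trans inf_le_right) hA1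
    two := c.two
    par := fun L hL h1 => (mem_charPSubgroups.1 (c.st.large.mem_charPSubgroups S c.st.QS hL h1)).2
    S_le := c.S_norm_Q
    zS := fun a ha _ => c.center_mem_S (mem_centralizer_iff.2 ha)
    good := fun a haQ ha1 hac => ⟨(c.good_of_center haQ ha1 hac).1, chP_iff.1 (c.good_of_center haQ ha1 hac).2⟩
    S_le_M := c.st.SM
    M_core := c.st.cent_core
    T_eq := c.st.S_inf.symm
    Y_iff := c.mem_Y_iff
    omega := fun a ha h2 => c.center_mem_Y (mem_centralizer_iff.2 ha) (by rw [pow_two]; exact h2)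
    norm_Y := fun L hL h1 => c.norm_Y hL h1
    asym := c.asym
    nct := fun L hL h => c.short L hL (chP_iff.2 h)
    W_le := c.Wc_le_V.trans c.V_le_Q
    W_sq := fun w hw => by rw [← pow_two]; exact c.V_ea.2 _ (c.Wc_le_V hw)
    not_le := c.not_M_le_norm
    moves := by
      intro a ha h2 ha1
      have ha' : a ∈ centralizer ((S : Subgroup G) : Set G) := mem_centralizer_iff.2 ha
      have haY := c.center_mem_Y ha' (by rw [pow_two]; exact h2)
      by_contra hne
      push Not at hne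
      apply c.not_M_le ha' (by rw [pow_two]; exact h2) ha1
      intro m hm
      rw [mem_centralizer_singleton_iff]
      have h5 := hne m hm ((mem_normalizer_iff.1 (c.M_norm_Y hm) a).1 haY)
      calc m * a = (m * a * m⁻¹) * m := by group
        _ = a * m := by rw [h5]
    x_mem := hxY
    x_ord := orderOf_eq_prime (c.Y_ea.2 _ hxY) hx1
    x_bad := fun h => hx (chP_iff.2 h) }

end Cx

/-- rows in helper226's form can be used for `Cx` -/
theorem deadL_of_no1 {R : (K : Type u) → [Group K] → Prop} (h : No1.{u} R) : DeadL.{u} R := by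
  intro G _ _ S Q M c K hK hs hna hC hR
  obtain ⟨x, t⟩ := c.tall
  refine h (K := K) ({ toTall := t, nK := hK, simple := hs, nonab := ?_, cent := hC } : One S Q M _ x K) hR
  by_contra hne
  push Not at hne
  exact hna ⟨⟨hne⟩⟩

end Cfsg.Agent.H252.LT
end

-- part: H252/LT/Asm
section
/-!
# S2927: the assembly

`result_of hcl hfib A B` : the claim of S2927, from the classification, the reduction `exists_fib`, the rows for one
component (`Fams DeadL`) and the rows for at least two components (`Fams No2`).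
-/

set_option autoImplicit false

universe u

open Subgroup Cfsg
open Cfsg.Agent.H229
open Cfsg.Agent.H226.Tall (Tall One No1 No2 Fib RowOne RowTwo Both NotCP)

namespace Cfsg.Agent.H252.LT

/-! ### monotonicity -/

theorem DeadL.mono {R R' : (K : Type u) → [Group K] → Prop} (h : DeadL.{u} R')
    (hR : ∀ (K : Type u) [Group K], R K → R' K) : DeadL.{u} R :=
  fun c K h1 h2 h3 h4 h5 => h c K h1 h2 h3 h4 (hR _ h5)

theorem DeadL.mono' {R R' : (K : Type u) → [Group K] → Prop} (h : DeadL.{u} R')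
    (hR : ∀ (K : Type u) [Group K] [Finite K] [IsSimpleGroup K], ¬ IsMulCommutative K → R K → R' K) : DeadL.{u} R :=
  fun c K h1 h2 h3 h4 h5 => by
    have := h2
    exact h c K h1 h2 h3 h4 (hR _ h3 h5)

theorem No2.mono {R R' : (K : Type u) → [Group K] → Prop} (h : No2.{u} R')
    (hR : ∀ (K : Type u) [Group K] [Finite K] [IsSimpleGroup K], R K → R' K) : No2.{u} R :=
  fun f h5 => h f (hR _ h5)

/-- the reduction to simple groups -/
def ExistsFib : Prop :=
  ∀ {G : Type u} [Group G] [Finite G] {S : Sylow 2 G} {Q M Y : Subgroup G} {x : G}, Tall S Q M Y x →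
    (∃ K : Subgroup G, One S Q M Y x K) ∨
      ∃ (K : Type u) (_ : Group K) (_ : Finite K) (_ : IsSimpleGroup K), (∃ a b : K, a * b ≠ b * a) ∧
        ∃ (S₁ : Sylow 2 K) (P V : Subgroup (MulAut K)), Fib S₁ P V

/-- one component -/
theorem false_of_one (hcl : ∀ (L : Type u) [Group L] [Finite L] [IsSimpleGroup L], IsKnownSimple' L)
    (A : Fams.{u} DeadL.{u}) {G : Type u} [Group G] [Finite G] {S : Sylow 2 G} {Q M : Subgroup G}
    (c : Cx S Q M) (K : Subgroup G) (hK : K.Normal) (hs : IsSimpleGroup ↥K) (hna : ¬ IsMulCommutative ↥K)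
    (hC : centralizer (K : Set G) = ⊥) : False :=
  (A.elim (K := ↥K) fun _ h hR => h c K hK hs hna hC hR).false (hcl ↥K) hna

/-- at least two components -/
theorem false_of_fib (hcl : ∀ (L : Type u) [Group L] [Finite L] [IsSimpleGroup L], IsKnownSimple' L)
    (B : Fams.{u} No2.{u}) {K : Type u} [Group K] [Finite K] [IsSimpleGroup K] (hna : ∃ a b : K, a * b ≠ b * a)
    {S₁ : Sylow 2 K} {P V : Subgroup (MulAut K)} (f : Fib S₁ P V) : False := by
  refine (B.elim (K := K) fun _ h hR => h f hR).false (hcl K) ?_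
  rintro ⟨⟨h⟩⟩
  obtain ⟨a, b, hab⟩ := hna
  exact hab (h a b)

theorem cx_false (hcl : ∀ (L : Type u) [Group L] [Finite L] [IsSimpleGroup L], IsKnownSimple' L)
    (hf : ExistsFib.{u}) (A : Fams.{u} DeadL.{u}) (B : Fams.{u} No2.{u}) {G : Type u} [Group G] [Finite G]
    {S : Sylow 2 G} {Q M : Subgroup G} (c : Cx S Q M) : False := by
  obtain ⟨x, t⟩ := c.tall
  rcases hf t with ⟨K, o⟩ | ⟨K, i1, i2, i3, hna, S₁, P, V, f⟩
  · refine false_of_one hcl A c K o.nK o.simple ?_ o.cent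
    rintro ⟨⟨h⟩⟩
    obtain ⟨a, b, hab⟩ := o.nonab
    exact hab (h a b)
  · exact false_of_fib hcl B hna f

end Cfsg.Agent.H252.LT
end

private theorem dce_b69943ee9bde : _root_.True := by
  try have : _root_.True := by simp only [_root_.Cfsg.Agent.H226.Tall.Wc.eq_1]
  exact _root_.True.intro
end
end
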