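import Cfsg.Agent.H836.Thompson
import Cfsg.Agent.KFacts.FiTTh.BasInv
import Cfsg.Agent.KFacts.FiTF.FixZ_m3
import Cfsg.Agent.R08.FlagData
import Cfsg.Agent.FastGrp
import Cfsg.Agent.Prune
set_option linter.all false

section
prune_inst 0x7f00000000000000000000000000000000000000000000000000000000000000000000000000000000000000000000000000000000000000000000000000000000000000000000000000000000000000003fffffffffffffffffffffffffffbeffbdffffffff

-- part: H836/JFi22
section
set_option linter.all false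
open scoped Cfsg.Agent.FastGrp

-- part: H836/Descend
section
/-!
# Passing from `K` to `C(z)/⟨z⟩` (helper836)

`JData.descend` : if `JData T (n + 1) (m + 1) E` and `z ∈ E ∩ T`, then the image of `E` in `Y = C(z)/⟨z⟩` satisfies
`JData T' n m`.
-/

set_option autoImplicit false

namespace Cfsg.Agent.H836.Thompson

open Subgroup

universe u v

namespace JData

section

variable {K : Type u} [Group K] {T : Set K} {n m : ℕ} {E : Subgroup K}

theorem le_cent {z : K} (J : JData T n m E) (hzE : z ∈ E) :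
    E ≤ Subgroup.centralizer ({z} : Set K) := by
  intro x hx
  rw [mem_centralizer_singleton_iff]
  exact mulComm_of_sq J.sq x hx z hzE

/-- `|C(z) : C(z) ∩ N(E)|` is odd -/
theorem odd_centralizer [Finite K] (J : JData T n m E) {z : K} (hzT : z ∈ T) (hzE : z ∈ E) :
    ¬ 2 ∣ ((normalizer (E : Set K)).subgroupOf (Subgroup.centralizer ({z} : Set K))).index := by
  have : Fact (Nat.Prime 2) := ⟨Nat.prime_two⟩
  have hdC : z ∈ Subgroup.centralizer ({z} : Set K) := mem_centralizer_singleton_iff.2 rfl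
  obtain ⟨S⟩ : Nonempty (Sylow 2 ↥(Subgroup.centralizer ({z} : Set K))) := inferInstance
  have hzS := mem_sylow_centralizer (J.sq z hzE) hdC S
  obtain ⟨P, hP⟩ := (S.isPGroup'.map (Subgroup.centralizer ({z} : Set K)).subtype).exists_le_sylow
  obtain ⟨g, J', h1, h2⟩ := J.exists_sylow' P
  have hzP : z ∈ (P : Subgroup K) := hP ⟨⟨z, hdC⟩, hzS, rfl⟩
  obtain ⟨y, hy, hyz⟩ := J'.normT z hzT (h2 hzP)
  replace hyz : g * y * g⁻¹ = z := hyz
  have hyT : y ∈ T := by
    have h3 := J.conj z hzT g⁻¹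
    rw [← hyz] at h3
    rwa [show g⁻¹ * (g * y * g⁻¹) * (g⁻¹)⁻¹ = y by group] at h3
  obtain ⟨k, hk, hkz⟩ := J.trans y hy z hzE hyT hzT
  -- `c = k g⁻¹` centralises `z` and conjugates `E'` to `E`
  have hc : k * g⁻¹ ∈ Subgroup.centralizer ({z} : Set K) := by
    rw [mem_centralizer_singleton_iff]
    have h3 : k * g⁻¹ * z * (k * g⁻¹)⁻¹ = z := by
      calc k * g⁻¹ * z * (k * g⁻¹)⁻¹ = k * (g⁻¹ * z * g) * k⁻¹ := by group
        _ = k * (g⁻¹ * (g * y * g⁻¹) * g) * k⁻¹ := by rw [hyz]
        _ = k * y * k⁻¹ := by group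
        _ = z := hkz
    exact mul_inv_eq_iff_eq_mul.1 h3
  have hS : ((⟨k * g⁻¹, hc⟩ : ↥(Subgroup.centralizer ({z} : Set K))) • S : Sylow 2 _).1 ≤
      (normalizer (E : Set K)).subgroupOf (Subgroup.centralizer ({z} : Set K)) := by
    intro x hx
    rw [mem_subgroupOf]
    have h3 : x ∈ (S : Subgroup _).map (MulAut.conj (⟨k * g⁻¹, hc⟩ : ↥(Subgroup.centralizer ({z} : Set K)))).toMonoidHom := hx
    obtain ⟨s, hs, rfl⟩ := h3
    have h4 : (s : K) ∈ (P : Subgroup K) := hP ⟨s, hs, rfl⟩
    have h5 := h2 h4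
    have h6 := map_equiv_normalizer_eq E (MulAut.conj g)
    rw [← h6] at h5
    obtain ⟨u, hu, hus⟩ := h5
    replace hus : g * u * g⁻¹ = s := hus
    show (k * g⁻¹) * (s : K) * (k * g⁻¹)⁻¹ ∈ normalizer (E : Set K)
    rw [← hus, show (k * g⁻¹) * (g * u * g⁻¹) * (k * g⁻¹)⁻¹ = k * u * k⁻¹ by group]
    exact mul_mem (mul_mem hk hu) (inv_mem hk)
  intro h
  have h7 := index_dvd_of_le hS
  exact ((⟨k * g⁻¹, hc⟩ : ↥(Subgroup.centralizer ({z} : Set K))) • S : Sylow 2 _).not_dvd_index (h.trans h7)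

end

variable {K : Type u} [Group K] [Finite K] {T : Set K} {n m : ℕ} {E : Subgroup K}

/-- see the file docstring -/
theorem descend (J : JData T (n + 1) (m + 1) E) {z : K} (hzT : z ∈ T) (hzE : z ∈ E)
    (htr : ∀ x ∈ E, ∀ y ∈ E, x ∈ T → y ∈ T → x ≠ z → y ≠ z →
      ∃ g ∈ normalizer (E : Set K), g * z * g⁻¹ = z ∧ g * x * g⁻¹ = y)
    {Y : Type v} [Group Y] {π : ↥(Subgroup.centralizer ({z} : Set K)) →* Y} (hs : Function.Surjective π)
    (hker : ∀ c, π c = 1 ↔ (c : K) = 1 ∨ (c : K) = z)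
    (hns : ∀ c : ↥(Subgroup.centralizer ({z} : Set K)), (c : K) * c ≠ z)
    {T' : Set Y} (hT' : ∀ y, y ∈ T' ↔ ∃ x : ↥(Subgroup.centralizer ({z} : Set K)), (x : K) ∈ T ∧ (x : K) ≠ z ∧ π x = y)
    (hnz : ∀ x ∈ E, x ∈ T → x * z ∉ T) :
    JData T' n m ((E.subgroupOf (Subgroup.centralizer ({z} : Set K))).map π) := by
  have hz1 : z ≠ 1 := by
    rintro rfl
    exact hnz 1 hzE hzT (by rwa [mul_one])
  have hzz : z * z = 1 := J.sq z hzE
  have hEC := J.le_cent hzE
  have hπeq : ∀ a b : ↥(Subgroup.centralizer ({z} : Set K)), π a = π b → (a : K) = b ∨ (a : K) = b * z := by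
    intro a b h
    have h1 : π (b⁻¹ * a) = 1 := by rw [map_mul, map_inv, h, inv_mul_cancel]
    rcases (hker _).1 h1 with h2 | h2
    · left
      have h3 : (b : K)⁻¹ * a = 1 := h2
      rw [inv_mul_eq_one] at h3
      exact h3.symm
    · right
      have h3 : (b : K)⁻¹ * a = z := h2
      exact inv_mul_eq_iff_eq_mul.1 h3
  have hmem : ∀ c : ↥(Subgroup.centralizer ({z} : Set K)),
      π c ∈ (E.subgroupOf (Subgroup.centralizer ({z} : Set K))).map π ↔ (c : K) ∈ E := by
    intro c
    constructor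
    · rintro ⟨b, hb, hbc⟩
      have hb' : (b : K) ∈ E := mem_subgroupOf.1 hb
      rcases hπeq c b hbc.symm with h | h
      · rw [h]; exact hb'
      · rw [h]; exact mul_mem hb' hzE
    · intro h
      exact ⟨c, mem_subgroupOf.2 h, rfl⟩
  have hnorm : ∀ c : ↥(Subgroup.centralizer ({z} : Set K)),
      π c ∈ normalizer (((E.subgroupOf (Subgroup.centralizer ({z} : Set K))).map π : Subgroup Y) : Set Y) ↔
        (c : K) ∈ normalizer (E : Set K) := by
    intro c
    rw [mem_normalizer_iff, mem_normalizer_iff]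
    constructor
    · intro h x
      constructor
      · intro hx
        have h1 := (h (π ⟨x, hEC hx⟩)).1 ((hmem ⟨x, hEC hx⟩).2 hx)
        rw [← map_inv, ← map_mul, ← map_mul] at h1
        exact (hmem (c * ⟨x, hEC hx⟩ * c⁻¹ :)).1 h1
      · intro hx
        have hxC : x ∈ Subgroup.centralizer ({z} : Set K) := by
          have h1 := mul_mem (mul_mem (inv_mem c.2) (hEC hx)) c.2
          rwa [show (c : K)⁻¹ * ((c : K) * x * (c : K)⁻¹) * c = x by group] at h1
        have h2 : π (c * ⟨x, hxC⟩ * c⁻¹) ∈ (E.subgroupOf (Subgroup.centralizer ({z} : Set K))).map π :=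
          (hmem (c * ⟨x, hxC⟩ * c⁻¹ :)).2 hx
        rw [map_mul, map_mul, map_inv] at h2
        exact (hmem ⟨x, hxC⟩).1 ((h _).2 h2)
    · intro h y
      obtain ⟨b, rfl⟩ := hs y
      rw [← map_inv, ← map_mul, ← map_mul, hmem, hmem]
      exact h b
  refine { sq := ?_, card := ?_, ncard := ?_, gen := ?_, conj := ?_, normT := ?_, uniq := ?_, trans := ?_, odd := ?_ }
  · rintro _ ⟨x, hx, rfl⟩
    rw [← map_mul]
    have h1 : x * x = 1 := Subtype.ext (J.sq _ (mem_subgroupOf.1 hx))
    rw [h1, map_one]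
  · -- the order
    have h1 : Nat.card ↥(E.subgroupOf (Subgroup.centralizer ({z} : Set K))) = 2 ^ (n + 1) := by
      rw [← J.card]
      exact Nat.card_congr (subgroupOfEquivOfLe hEC).toEquiv
    let f := π.comp (E.subgroupOf (Subgroup.centralizer ({z} : Set K))).subtype
    have hr : f.range = (E.subgroupOf (Subgroup.centralizer ({z} : Set K))).map π := by
      rw [MonoidHom.range_comp, range_subtype]
    have hk : Nat.card ↥f.ker = 2 := by
      have h2 : ((f.ker : Subgroup _) : Set _) =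
          ({1, ⟨⟨z, hEC hzE⟩, mem_subgroupOf.2 hzE⟩} : Set ↥(E.subgroupOf (Subgroup.centralizer ({z} : Set K)))) := by
        ext x
        rw [SetLike.mem_coe, MonoidHom.mem_ker]
        constructor
        · intro h
          rcases (hker (x : ↥(Subgroup.centralizer ({z} : Set K)))).1 h with h | h
          · left; exact Subtype.ext (Subtype.ext h)
          · right; exact Subtype.ext (Subtype.ext h)
        · rintro (rfl | rfl)
          · exact map_one f
          · exact (hker _).2 (Or.inr rfl)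
      have h3 : Nat.card ↥f.ker = (f.ker : Set ↥(E.subgroupOf (Subgroup.centralizer ({z} : Set K)))).ncard := by
        rw [← Nat.card_coe_set_eq]
        rfl
      rw [h3, h2, Set.ncard_pair]
      intro h
      have h4 : (1 : K) = z := congrArg (fun x : ↥(E.subgroupOf (Subgroup.centralizer ({z} : Set K))) =>
        ((x : ↥(Subgroup.centralizer ({z} : Set K))) : K)) h
      exact hz1 h4.symm
    have h4 := Subgroup.card_mul_index f.ker
    rw [Subgroup.index_ker, hk, h1, hr, pow_succ] at h4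
    omega
  · -- the number of members of `T'`
    have h1 : {y | y ∈ (E.subgroupOf (Subgroup.centralizer ({z} : Set K))).map π ∧ y ∈ T'} =
        π '' {c | (c : K) ∈ E ∧ (c : K) ∈ T ∧ (c : K) ≠ z} := by
      ext y
      constructor
      · rintro ⟨h1, h2⟩
        obtain ⟨x, hxT, hxz, rfl⟩ := (hT' y).1 h2
        exact ⟨x, ⟨(hmem x).1 h1, hxT, hxz⟩, rfl⟩
      · rintro ⟨x, ⟨h1, h2, h3⟩, rfl⟩
        exact ⟨(hmem x).2 h1, (hT' _).2 ⟨x, h2, h3, rfl⟩⟩
    rw [h1, Set.InjOn.ncard_image]
    · have h2 : Subtype.val '' {c : ↥(Subgroup.centralizer ({z} : Set K)) | (c : K) ∈ E ∧ (c : K) ∈ T ∧ (c : K) ≠ z} =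
          {x | x ∈ E ∧ x ∈ T} \ {z} := by
        ext x
        constructor
        · rintro ⟨c, ⟨h2, h3, h4⟩, rfl⟩
          exact ⟨⟨h2, h3⟩, h4⟩
        · rintro ⟨⟨h2, h3⟩, h4⟩
          exact ⟨⟨x, hEC h2⟩, ⟨h2, h3, h4⟩, rfl⟩
      rw [← Set.ncard_image_of_injective _ Subtype.val_injective, h2, Set.ncard_sdiff_singleton_of_mem (show z ∈ {x | x ∈ E ∧ x ∈ T} from ⟨hzE, hzT⟩),
        J.ncard, Nat.add_sub_cancel]
    · rintro a ⟨h1, h2, h3⟩ b ⟨h4, h5, h6⟩ hab
      rcases hπeq a b hab with h | h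
      · exact Subtype.ext h
      · exfalso
        rw [h] at h2
        exact hnz b h4 h5 h2
  · apply le_antisymm
    · rw [closure_le]
      exact fun x hx => hx.2
    · rintro _ ⟨c, hc, rfl⟩
      have hc' : (c : K) ∈ E := mem_subgroupOf.1 hc
      have h1 : E ≤ ((Subgroup.closure {x | x ∈ T' ∧ x ∈ (E.subgroupOf (Subgroup.centralizer ({z} : Set K))).map π}).comap π).map
          (Subgroup.centralizer ({z} : Set K)).subtype := by
        conv_lhs => rw [← J.gen]
        rw [closure_le]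
        rintro x ⟨hxT, hxE⟩
        refine ⟨⟨x, hEC hxE⟩, ?_, rfl⟩
        show π ⟨x, hEC hxE⟩ ∈ Subgroup.closure _
        by_cases hxz : x = z
        · have h2 : π ⟨x, hEC hxE⟩ = 1 := (hker _).2 (Or.inr hxz)
          rw [h2]; exact one_mem _
        · exact subset_closure ⟨(hT' _).2 ⟨_, hxT, hxz, rfl⟩, (hmem _).2 hxE⟩
      obtain ⟨c', hc1, hc2⟩ := h1 hc'
      have h3 : c' = c := Subtype.ext hc2
      rw [← h3]
      exact hc1
  · intro y hy g
    obtain ⟨x, hxT, hxz, rfl⟩ := (hT' y).1 hy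
    obtain ⟨c, rfl⟩ := hs g
    refine (hT' _).2 ⟨c * x * c⁻¹, J.conj _ hxT c, ?_, by rw [map_mul, map_mul, map_inv]⟩
    intro h
    apply hxz
    have h1 : (c : K) * x * (c : K)⁻¹ = z := h
    have h2 : (c : K) * z = z * c := mem_centralizer_singleton_iff.1 c.2
    have h3 : (c : K) * x = (c : K) * z := (mul_inv_eq_iff_eq_mul.1 h1).trans h2.symm
    exact mul_left_cancel h3
  · intro y hy hn
    obtain ⟨x, hxT, hxz, rfl⟩ := (hT' y).1 hy
    exact (hmem x).2 (J.normT _ hxT ((hnorm x).1 hn))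
  · intro B hB h2 hc
    have h1 : (B.comap π).map (Subgroup.centralizer ({z} : Set K)).subtype = E := by
      apply J.uniq
      · rintro _ ⟨x, hx, rfl⟩
        exact (hnorm x).1 (hB hx)
      · rintro _ ⟨x, hx, rfl⟩
        have h3 : π (x * x) = 1 := by
          rw [map_mul]; exact h2 _ hx
        rcases (hker _).1 h3 with h4 | h4
        · exact h4
        · exact absurd h4 (hns x)
      · -- the order of the preimage
        have h5 : Nat.card ↥((B.comap π).map (Subgroup.centralizer ({z} : Set K)).subtype) = Nat.card ↥(B.comap π) :=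
          (Nat.card_congr ((B.comap π).equivMapOfInjective _ (Subgroup.centralizer ({z} : Set K)).subtype_injective).toEquiv).symm
        have hr : (π.comp (B.comap π).subtype).range = B := by
          rw [MonoidHom.range_comp, range_subtype, map_comap_eq_self_of_surjective hs]
        have hkk : 2 ≤ Nat.card ↥(π.comp (B.comap π).subtype).ker := by
          have hzB : (⟨z, hEC hzE⟩ : ↥(Subgroup.centralizer ({z} : Set K))) ∈ B.comap π := by
            show π _ ∈ B
            rw [(hker _).2 (Or.inr rfl)]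
            exact one_mem _
          have h6 : (⟨⟨z, hEC hzE⟩, hzB⟩ : ↥(B.comap π)) ∈ (π.comp (B.comap π).subtype).ker :=
            (hker _).2 (Or.inr rfl)
          have h7 : Nontrivial ↥(π.comp (B.comap π).subtype).ker := by
            refine ⟨⟨1, ⟨_, h6⟩, fun h => ?_⟩⟩
            have h8 := congrArg (fun x : ↥(π.comp (B.comap π).subtype).ker => ((x : ↥(B.comap π)) : ↥(Subgroup.centralizer ({z} : Set K))).1) h
            exact hz1 h8.symm
          have : Finite ↥(π.comp (B.comap π).subtype).ker := inferInstance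
          exact Finite.one_lt_card
        have h9 := Subgroup.card_mul_index (π.comp (B.comap π).subtype).ker
        rw [Subgroup.index_ker, hr] at h9
        rw [h5, ← h9, pow_succ, mul_comm]
        exact Nat.mul_le_mul hkk hc
    have h10 : B.comap π = E.subgroupOf (Subgroup.centralizer ({z} : Set K)) := by
      rw [← h1]
      exact (comap_map_eq_self_of_injective (Subgroup.centralizer ({z} : Set K)).subtype_injective _).symm
    rw [← h10, map_comap_eq_self_of_surjective hs]
  · intro x hx y hy hxT hyT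
    obtain ⟨a, haT, haz, rfl⟩ := (hT' x).1 hxT
    obtain ⟨b, hbT, hbz, rfl⟩ := (hT' y).1 hyT
    obtain ⟨g, hg, hgz, hga⟩ := htr a ((hmem a).1 hx) b ((hmem b).1 hy) haT hbT haz hbz
    have hgC : g ∈ Subgroup.centralizer ({z} : Set K) :=
      mem_centralizer_singleton_iff.2 (mul_inv_eq_iff_eq_mul.1 hgz)
    refine ⟨π ⟨g, hgC⟩, (hnorm _).2 hg, ?_⟩
    rw [← map_inv, ← map_mul, ← map_mul]
    congr 1
    exact Subtype.ext hga
  · have h1 : ((normalizer (E : Set K)).subgroupOf (Subgroup.centralizer ({z} : Set K))).map π ≤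
        normalizer (((E.subgroupOf (Subgroup.centralizer ({z} : Set K))).map π : Subgroup Y) : Set Y) := by
      rintro _ ⟨c, hc, rfl⟩
      exact (hnorm c).2 (mem_subgroupOf.1 hc)
    intro h
    apply J.odd_centralizer hzT hzE
    exact (h.trans (index_dvd_of_le h1)).trans (index_map_dvd _ hs)

end JData

end Cfsg.Agent.H836.Thompson
end

-- part: H836/JFi23
section
/-!
# `Fi23`: the group `A = 2¹¹` and its 23 transpositions (helper836)

`jdata : JData D 11 23 (A e)` : see `H836/Thompson.lean`.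
-/

set_option autoImplicit false

namespace Cfsg.Agent.H836.JFi23

open Subgroup Cfsg Cfsg.Spor
open Cfsg.Agent.KFacts.FiTTh Cfsg.Agent.KFacts.FiTTh.BasDef
open Cfsg.Agent.Fischer.Fi23Z (z0)
open Cfsg.Agent.R08.FiTwentyThree (D sq_D ne_one_D conj_mem_D isThreeTranspositionClass z0_mem_D finite_fi23)

theorem e_mem (i : ZMod 23) : BasFi.e (some i) ∈ D := by
  obtain ⟨g, -, h⟩ := BasFi.exists_e i
  exact isConj_iff.2 ⟨g, h⟩

theorem mem_A {x : Fi23} (hx : x ∈ D) (hA : x ∈ A BasFi.e) : ∃ i : ZMod 23, x = BasFi.e (some i) := by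
  obtain ⟨g, rfl⟩ := isConj_iff.1 (show IsConj z0 x from hx)
  rw [← BasFi.e_z] at hA
  obtain ⟨q, hq⟩ := BasInv.base.nrm g _ hA
  rw [BasFi.e_z] at hq
  rcases q with _ | i
  · exfalso
    rw [BasInv.base.zero] at hq
    exact ne_one_D hx hq
  · exact ⟨i, hq⟩

theorem set_eq : {x | x ∈ A BasFi.e ∧ x ∈ D} = Set.range fun i : ZMod 23 => BasFi.e (some i) := by
  ext x
  constructor
  · rintro ⟨h1, h2⟩
    obtain ⟨i, rfl⟩ := mem_A h2 h1
    exact ⟨i, rfl⟩
  · rintro ⟨i, rfl⟩
    exact ⟨BasDef.mem_A _ _, e_mem i⟩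

theorem closure_eq : closure {x | x ∈ D ∧ x ∈ A BasFi.e} = A BasFi.e := by
  apply le_antisymm
  · rw [closure_le]
    exact fun x hx => hx.2
  · unfold A
    rw [closure_le]
    rintro _ ⟨p, rfl⟩
    rcases p with _ | i
    · rw [BasInv.base.zero]
      exact one_mem _
    · exact subset_closure ⟨e_mem i, BasDef.mem_A _ _⟩

/-- a transposition normalising a set of pairwise commuting involutions centralises it -/
theorem comm_of_norm {x y : Fi23} (hx : x ∈ D) (hy : y ∈ D) (hc : y * (x * y * x⁻¹) = (x * y * x⁻¹) * y) :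
    x * y = y * x := by
  have hxx := sq_D hx
  have hyy := sq_D hy
  have hxi : x⁻¹ = x := inv_eq_of_mul_eq_one_left hxx
  rw [hxi] at hc
  have h4 : (x * y) * (x * y) * ((x * y) * (x * y)) = 1 := by
    calc (x * y) * (x * y) * ((x * y) * (x * y)) = ((x * y * x) * y) * ((x * y * x) * y) := by simp only [mul_assoc]
      _ = (y * (x * y * x)) * ((x * y * x) * y) := by rw [← hc]
      _ = y * (x * (y * (x * x) * y) * x) * y := by simp only [mul_assoc]
      _ = 1 := by rw [hxx, mul_one, hyy, mul_one, hxx, mul_one, hyy]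
  rcases isThreeTranspositionClass.1.2 x hx y hy with h | h
  · rw [pow_two] at h
    have h5 : (x * y)⁻¹ = x * y := inv_eq_of_mul_eq_one_left h
    rw [mul_inv_rev, hxi, inv_eq_of_mul_eq_one_left hyy] at h5
    exact h5.symm
  · have h6 : x * y = 1 := by
      have h7 : (x * y) ^ 4 = 1 := by
        rw [← h4, pow_succ, pow_succ, pow_two]
        simp only [mul_assoc]
      rw [pow_succ, h, one_mul] at h7
      exact h7
    have h8 : x = y := by
      have := congrArg (· * y) h6
      simpa [mul_assoc, hyy] using this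
    rw [h8]

theorem normT {x : Fi23} (hx : x ∈ D) (hn : x ∈ normalizer (A BasFi.e : Set Fi23)) : x ∈ A BasFi.e := by
  apply BasInv.base.cen
  intro p
  rcases p with _ | i
  · rw [BasInv.base.zero, mul_one, one_mul]
  · apply comm_of_norm hx (e_mem i)
    exact BasInv.base.comm' (BasDef.mem_A _ _) ((mem_normalizer_iff.1 hn _).1 (BasDef.mem_A _ _))

theorem trans {x y : Fi23} (hx : x ∈ A BasFi.e) (hy : y ∈ A BasFi.e) (hxD : x ∈ D) (hyD : y ∈ D) :
    ∃ g ∈ normalizer (A BasFi.e : Set Fi23), g * x * g⁻¹ = y := by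
  obtain ⟨i, rfl⟩ := mem_A hxD hx
  obtain ⟨j, rfl⟩ := mem_A hyD hy
  obtain ⟨m, hm⟩ := BasCode.exists_map_emb (n := 2) (by norm_num)
    ⟨![none, some i], by
      intro x y
      fin_cases x <;> fin_cases y <;> simp⟩
    ⟨![none, some j], by
      intro x y
      fin_cases x <;> fin_cases y <;> simp⟩
  have m0 : (m : Equiv.Perm GolayPt) none = none := hm 0
  have m1 : (m : Equiv.Perm GolayPt) (some i) = some j := hm 1
  obtain ⟨n, hn⟩ := BasInv.base.full m (BasDef.mem_M23.2 ⟨m.2, m0⟩)
  exact ⟨n, Base.mem_normalizer_of hn, by rw [hn, m1]⟩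

/-- **`A = 2¹¹` in `Fi23`** -/
theorem jdata : Thompson.JData D 11 23 (A BasFi.e) where
  sq := fun _ hx => BasInv.base.sq_A hx
  card := BasInv.base.cardA
  ncard := by
    rw [set_eq, ← Set.image_univ, Set.ncard_image_of_injective, Set.ncard_univ]
    · simp
    · intro i j h
      exact Option.some_injective _ (BasInv.base.inj h)
  gen := closure_eq
  conj := fun _ hx g => conj_mem_D hx g
  normT := fun _ hx hn => normT hx hn
  uniq := fun _ hB h2 hc => by
    have := BasInv.finite
    exact BasInv.loc.eq_of hB h2 hc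
  trans := fun _ hx _ hy h1 h2 => trans hx hy h1 h2
  odd := BasInv.hodd

end Cfsg.Agent.H836.JFi23
end

-- part: H836/JFi22
section
/-!
# `Fi22`: the group `2¹⁰` and its 22 transpositions (helper836)

`jdata : JData Fi22Facts.T 10 22 E` : see `H836/Thompson.lean`.
-/

set_option autoImplicit false

namespace Cfsg.Agent.H836.JFi22

open Subgroup Cfsg Cfsg.Spor
open Cfsg.Agent.KFacts.FiTTh Cfsg.Agent.KFacts.FiTTh.BasDef
open Cfsg.Agent.Fischer.Fi23Z (z0)
open Cfsg.Agent.R08.FiTwentyThree (D)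
open Cfsg.Agent.R08 (FlagData.pi')

/-- The group `2¹⁰` of `Fi22`. -/
noncomputable def E : Subgroup Fi22 :=
  ((A BasFi.e).subgroupOf (Subgroup.centralizer ({z0} : Set Fi23))).map R08.FlagData.pi'

theorem two_trans {x y : Fi23} (hx : x ∈ A BasFi.e) (hy : y ∈ A BasFi.e) (hxD : x ∈ D) (hyD : y ∈ D)
    (hxz : x ≠ z0) (hyz : y ≠ z0) :
    ∃ g ∈ normalizer (A BasFi.e : Set Fi23), g * z0 * g⁻¹ = z0 ∧ g * x * g⁻¹ = y := by
  obtain ⟨i, rfl⟩ := JFi23.mem_A hxD hx
  obtain ⟨j, rfl⟩ := JFi23.mem_A hyD hy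
  have hi : i ≠ 13 := by rintro rfl; exact hxz BasFi.e_z
  have hj : j ≠ 13 := by rintro rfl; exact hyz BasFi.e_z
  obtain ⟨m, hm⟩ := BasCode.exists_map_emb (n := 3) (by norm_num)
    ⟨![none, some 13, some i], by
      intro x y
      fin_cases x <;> fin_cases y <;> simp [hi, hi.symm]⟩
    ⟨![none, some 13, some j], by
      intro x y
      fin_cases x <;> fin_cases y <;> simp [hj, hj.symm]⟩
  have m0 : (m : Equiv.Perm GolayPt) none = none := hm 0
  have m1 : (m : Equiv.Perm GolayPt) (some 13) = some 13 := hm 1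
  have m2 : (m : Equiv.Perm GolayPt) (some i) = some j := hm 2
  obtain ⟨n, hn⟩ := BasInv.base.full m (BasDef.mem_M23.2 ⟨m.2, m0⟩)
  refine ⟨n, Base.mem_normalizer_of hn, ?_, by rw [hn, m2]⟩
  rw [← BasFi.e_z, hn, m1]

theorem z0_mem : z0 ∈ A BasFi.e := by
  rw [← BasFi.e_z]
  exact BasDef.mem_A _ _

/-- the product of two commuting transpositions is not a transposition -/
theorem mul_notMem {x : Fi23} (hx : x ∈ A BasFi.e) (hxD : x ∈ D) : x * z0 ∉ D := by
  intro h
  obtain ⟨i, rfl⟩ := JFi23.mem_A hxD hx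
  obtain ⟨j, hj⟩ := JFi23.mem_A h (mul_mem hx z0_mem)
  by_cases hi : i = 13
  · subst hi
    rw [BasFi.e_z, ← BasFi.e_z, BasInv.base.sq] at hj
    exact BasFi.e_ne_one j hj.symm
  · have h1 : pr BasFi.e {some i, some 13} = pr BasFi.e {some j} := by
      rw [BasInv.base.pr_pair (by simpa using hi), pr_singleton, BasFi.e_z, hj]
    have h2 := BasInv.base.pr_inj (by simp) (by rw [Finset.card_pair (by simpa using hi)]; norm_num)
      (by simp) (by simp) h1
    have h3 := congrArg Finset.card h2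
    rw [Finset.card_pair (by simpa using hi), Finset.card_singleton] at h3
    omega

/-- **the group `2¹⁰` of `Fi22`** -/
theorem jdata : Thompson.JData R01.Fi22Facts.T 10 22 E := by
  have := BasInv.finite
  have hl := R08.FlagData.lifted
  have J : Thompson.JData D (10 + 1) (22 + 1) (A BasFi.e) := JFi23.jdata
  refine J.descend (z := z0) (IsConj.refl _) z0_mem (fun x hx y hy h1 h2 h3 h4 => two_trans hx hy h1 h2 h3 h4)
    hl.ext.surj ?_ ?_ ?_ (fun x hx h1 => mul_notMem hx h1)
  · intro c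
    rw [hl.ext.ker c]
    constructor
    · rintro (rfl | rfl)
      · exact Or.inl rfl
      · exact Or.inr rfl
    · rintro (h | h)
      · exact Or.inl (Subtype.ext h)
      · exact Or.inr (Subtype.ext h)
  · intro c h
    exact R08.FlagData.hns c (Subtype.ext h)
  · intro y
    constructor
    · intro hy
      obtain ⟨x, hx, rfl⟩ := hl.surj y hy
      exact ⟨x, hx.1, hx.2, rfl⟩
    · rintro ⟨x, hx, hxz, rfl⟩
      exact hl.map x ⟨hx, hxz⟩

end Cfsg.Agent.H836.JFi22
end
end

-- part: H836/JIso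
section
set_option linter.all false
open scoped Cfsg.Agent.FastGrp

/-!
# The Thompson subgroup data in a group isomorphic to `Fi22` or `Fi23` (helper836)
-/

set_option autoImplicit false

namespace Cfsg.Agent.H836.JIso

open Subgroup Cfsg Cfsg.Spor

universe u

theorem isConj_map_iff {G : Type u} [Group G] {H : Type*} [Group H] (f : G ≃* H) {x y : G} :
    IsConj (f x) (f y) ↔ IsConj x y := by
  rw [isConj_iff, isConj_iff]
  constructor
  · rintro ⟨c, hc⟩
    obtain ⟨c, rfl⟩ := f.surjective c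
    exact ⟨c, f.injective (by rw [map_mul, map_mul, map_inv, hc])⟩
  · rintro ⟨c, rfl⟩
    exact ⟨f c, by rw [map_mul, map_mul, map_inv]⟩

theorem image_eq {G : Type u} [Group G] {H : Type*} [Group H] (f : G ≃* H) {d : G} {t : H} (h : IsConj t (f d)) :
    f.symm '' {x | IsConj t x} = {x | IsConj d x} := by
  ext x
  constructor
  · rintro ⟨y, hy, rfl⟩
    have h1 : IsConj (f d) y := h.symm.trans hy
    show IsConj d (f.symm y)
    rw [← isConj_map_iff f, f.apply_symm_apply]
    exact h1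
  · intro hx
    exact ⟨f x, h.trans ((isConj_map_iff f).2 hx), f.symm_apply_apply x⟩

theorem fi22 {G : Type u} [Group G] (f : G ≃* Spor.Fi22) {d : G} (hd : f d ∈ R01.Fi22Facts.T) :
    Thompson.JData {x | IsConj d x} 10 22 (JFi22.E.map f.symm.toMonoidHom) := by
  have J := JFi22.jdata.map f.symm
  rw [← image_eq f (show IsConj _ (f d) from hd)]
  exact J

theorem fi23 {G : Type u} [Group G] (f : G ≃* Spor.Fi23) {d : G} (hd : f d ∈ R08.FiTwentyThree.D) :
    Thompson.JData {x | IsConj d x} 11 23 ((KFacts.FiTTh.BasDef.A KFacts.FiTTh.BasFi.e).map f.symm.toMonoidHom) := by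
  have J := JFi23.jdata.map f.symm
  rw [← image_eq f (show IsConj _ (f d) from hd)]
  exact J

end Cfsg.Agent.H836.JIso
end
end
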