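import Cfsg.Agent.Lib.PermNet
import Cfsg.Agent.Fischer.Fi22Order
import Cfsg.Agent.R08.X4Gamma_m3
import Cfsg.Agent.StdO8.Gen_m3
import Cfsg.Agent.R01.Fi22Facts
import Cfsg.Agent.H836.EightO
import Cfsg.Prelude.Def_FischerSpaces
import Cfsg.Agent.LieClassical.KleinPlus
import Cfsg.Agent.LieClassical.KleinMinus
import Cfsg.Agent.H833.CentQuot
import Cfsg.Agent.H845.AutUFour
import Cfsg.Agent.FastGrp
import Cfsg.Agent.Prune
set_option linter.all false

section
prune_inst 0x7ffcfefbeff8bddfffff7e7fa7ffcffdfdf93fffe6fffdfbffe9ebff1bff4f69efe5fbafefef92fe9ef6e21c10f87bd3fffff67fe36ffc7ffffdfff45ffbff9ffdf7bd2d71febcbe1ffc6fffebf0778e7f3fffffffffffffffffffffffffffffffbfffffffff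

-- part: H836/EightCent
section
prune_inst 0x104000002200000000058001002000040000900000000141000440080061010000010004101610010022a040000000009800490020000000008000400400208401000000340800200001002882000000000000000000000000000000000000000000000
set_option linter.all false
open scoped Cfsg.Agent.FastGrp

-- part: H836/EightData
section
/-!
# Data for the fixed points of the flip of `Fi22` (helper836)

`sN` the network of the flip on the 3510 points, `M1` the block of the point of `d`, `L j` the eight bit masks of the
labels of the 120 points of the block by the nonsingular vectors of the hyperbolic space `𝔽₂⁸`.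
-/

set_option autoImplicit false
set_option maxRecDepth 100000

namespace Cfsg.Agent.H836.EightData

open Cfsg.Agent.Lib.PermNet

/-- The network of the flip. -/
noncomputable def sN : Net :=
  .cons (asm [0xf8000000000017400000000000000000000000000000000000000000000000000000000000000000000000000000000000000000000000000000000000000000000000000000000000000000000000000000000000000000000000000000000000000000000000000000000000000000000000000000000000000000000000000000000000000000000000000000000000000000000000000000000000000000000000000000000000000000000000000000000000000000000000000000000000000000000000000000000000000000000000000000000000000000000000000000000000000000000000000000000000000000000000000000000000000000]) 2048 <|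
  .cons (asm [0xfc980000000017400000008008094000000000000000000000000000000000000000000000000000000000000000000000000000000000000000000000000000000000000000000000000000000000000000000000000000000000000000000000000000000000000000000000000000000000000000000000000000000000000000000000000000000000000000000000000000000000000000000000000000000000000000000000000000000000000000000000000000000000000000000000000000000000000000000000000000000000000000000000000000000000000000000000000000000000000000000000000000000000000000000000000000dbffef7ffdb9043ebffffff3280004072120d2a1850892260000001cf83f2e821f38d4115e85bac74e8a4cc0000000000000007275284020050040000088002000000000001200000000000000000001000048008000000000000000000000000000000000000000000000000000000000000000000000000000000000000000]) 1024 <|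
  .cons (asm [0xfb4000820000177388201080000366a400000000000000000000000000000000000000000000000000000000000000000000000000000000000000000000000000000000000000000000000000000000000000000000000000000000000000000000000000000000000000000000000000000000000000000000000000000000bbfff77f0400004edf3fed7000000001000000040000420030243d19488009605dc0050a01101544001a05d810ec01880309103014400000000009a20000000000000000000000000000000000000000000000000000000000000000000000000000000000000000000000000000000000000000000000000000000000000000c0794657bf0d8094326d5efe080047ff7ee097fcf652ebd681380008100c41849503d00061802284d100044052155f1005000b00000000121000a04240000102]) 512 <|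
  .cons (asm [0xc0060000000000018000000000000000000000000000000000000000000000000000000000000000000000000000000000000000000000000000000000000000fffffffffffff7effffffffffffff77d315150268000000000000000000000000000000000000000000000000000000000000000000000000000000000000000ffe2cfb7ff7f488f6f933efdfc28284d0ca1fcd0c86befcf01049a00a0ad22400000000000000000000000000000000000000000000000000000000000000000af7be36dc3ffd480b2df7ffb27015dac0000edc99200094800608218f92300000000000000000000000000000000000000000000000000000000000000000000c0a3c00b8e4e822c6000e0009fda003636ff00090ac300111a6e0c52200292040000000000000000000000000000000000000000000000000000000000000000c83bffe861dc00199e5cafc18000080081052f000050000c00c0000000004000]) 256 <|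
  .cons (asm [0xe9a000000000000000000000000000000000000000000000000000000000000b7fffff9f000000000000000000000000000000000000000000000000000000080000000000000000000000000000000000000000000000000000000000000003cde5812609d4025ce17014883d000800000000000000000000000000000000017725c3ee3e4000209c352e67ba0000000000000000000000000000000000000ecb47fa400000551ee744148440002a000000000000000000000000000000000588007ec57fe2501cedb7ff5f100004a00000000000000000000000000000000bbd6431dc7db9d66160144ffd020a86000000000000000000000000000000000f7ecda9fa2f75a0c4c35b98541161010000000000000000000000000000000003701c6989b2ccc128f875ef7f2807daa00000000000000000000000000000000a408b4dbc6847cfae201006b138b120000000000000000000000000000000000e0111c3090c2b682c00e012707052419000000000000000000000000000000002b2bd0577dccd765fb8737fe941025000000000000000000000000000000000040d40800b02e00221018204e7d000c00]) 128 <|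
  .cons (asm [0x800809400000000000000000000000000000000000000000000000000000000000000000000000000000000000000000000000000000000000000000000e9e000000000000000000000000000080000000000000000000000000000000172201c7bc3010000000000000000000b523f9b05084000000000000000000008441ef895b21b464000000000000000080000000000000000000000000000000cfbf5c1732ab4c6000000000000000007a617da68dd28080000000000000000089b9b95075127d710000000000000000cebe25b1df6000000000000000000000749a66b79921ed08000000000000000068544e35a82844a0000000000000000088007c3de710086400000000000000000899337e4df42ea50000000000000000b5aeff2305090342000000000000000078723cb0f8fbf3980000000000000000eb588da557ea86000000000000000000d75f4c51fbdbd85000000000000000001c3ac857e9c8007600000000000000004189fbe5415a54400000000000000000961c9e27fa180400000000000000000041956d10aac7bbc000000000000000005f0cb57dfeef9f7f000000000000000098d68954028a370d0000000000000000970a62edd167319a000000000000000012e72752680ce7010000000000000000621237c860ae416a000000000000000099ca80350b88de20]) 64 <|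
  .cons (asm [0x2000000000000000000000000000000000000000000000000000000000000000000000000000000000000000000000000000000000000000000000000000000000000000000cfbb000000000000a0ec000000000000b0729642000000001709223800000000518d9e4000000000d0b5018000000000f56002000000000073dc6a3000000000f9e1466000000000978b0a2c00000000a855024000000000ad3dfafc00000000d1dd7c34000000001bef801000000000ace080000000000019c34019000000000dd4dbe900000000c80050220000000026335b5200000000fdf24a100000000061fa81c5000000000808069400000000e9afe080000000008e95dd2a000000007ff8426200000000cd7b0236000000004c93177700000000c8d3afab000000004eb2fc1000000000f68959c500000000f8c2840000000000846815ba0000000009165c920000000084df5bd0000000008dff7576000000002c5263c000000000b46165e1000000001f7f6dfe00000000e7f5173c0000000060e100d0000000000092bcf800000000ccca2fbe0000000070f4949000000000657c466400000000f48521af00000000a230a01600000000a0c8e01800000000da22878300000000b6d6025800000000701254dc000000000f6bc422000000005f1c618200000000808408eb00000000ad5a87c800000000f312264c]) 32 <|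
  .cons (asm [0x1900000000000000000000000000000000000000000000000000000000000000000000000000000000000000000000000000000000000000000000000000000000000000840000002e10000001200000800000005d18000009d00000870c00004339000005bd00001ffc0000b10c000012420000518100000040000052780000510e0000906f0000f1e80000d8830000600c0000aa5000008580000091d60000e39e0000f29b0000e93d0000d6100000958d0000dda00000af5000008bef0000ec410000efe50000e495000015bd0000480000000fa000005e5000004e1c00006e620000eee50000a09d0000a2020000a4100000aa6a00008c2800002adc00007554000055800000dd7000006fff0000fcb800009f250000b7ea000007a200000e3d00005b3a000085d40000f29400006b100000e12a0000b1340000eef000009f5700001e93000098b80000ffd60000bb450000d6620000076e0000caa8000032900000022800000f09000062e20000f7230000a74d0000148e0000a83a000051bb000004900000d3150000445100003d0600008fe10000c398000070800000450900002c3200008a400000224a000066dd00002189000072e50000616f0000e0bb0000549500003583000090b50000c4c600005ee300005f600000ef1c0000d5720000a99e0000adf20000fdf80000e01c000089780000f788]) 16 <|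
  .cons (asm [0xe000800011004000000000000000000000000000000000000000000000000000000000000000000000000000000000000000000000000000000000000000000000000000000000008000c800b2008b00b000d20030008100f6005f000400ce00fe009500b100600054003000b000f20054008c0005008e004700b100bc00c600ad0004001300aa005500bb007600f800b00040001000f4009200a4002a00f4001f009000ee00af006d004000aa0040009d00d4004a00440012000400b100d000000032006b008700b900f400de007800fb00850052009e00f4006c004800b600ea00cc006600f900c000540060008600f9000a009c005c002200ae00ba001800540008007700f50042008800bb005800c800c10038007400bd00cc0002000a0085005900c4006c006d00ed0045001e00fe00d30024000f0082009800ca0033002600aa008300f8005200f60050006f00c7006e00f8001d006f002500f00034004300a6002600ba00d500eb009a00b900ab00eb008000dc00d2000700230057007a00300010002f008400b6007a008c002800e700d90047001e0013008800b300b000a100da00360093005700cb000900a4009d005e008c00b600d4005c002b000c0068000a0076004600e300b900aa009a001c0041005c00f3009300dc003a001600ca00ee00a100da00ae0010004000210080005c00d1005800cd00e400b4]) 8 <|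
  .cons (asm [0xc08080000080000000000000000000000000000000000000000000000000000000000000000000000000000000000000000000000000000000000000000000000080000000000000800000808080f0902010c0108040d090a070a000806020c0d04040c000e0e00060f06010206000f070e0e0802020f06080404080b040e02090c0a0d0e0a0108080f030206000807060c0a08020e030c020a0a00020c04080b09000c0002050907000704030c0501040d0d0e0f0603030d05000d0806060c070f0d0e05020d0a040c0e040a0206090d030d030f060b0a0c0c060e00020200030a000c090807030209080a060c020700060407000804030e0a080b04080f000d030804080a0602010b080709070e000304050f0d080603070600000a090c000702030b000d040f010004080f03090f000c0f0f0802050e0d04000b050e0f07000602010c0f0d090d0e0a02050c02010204010b020b000e070c020a000101070a080c0c000e080001010100000b030e050f02090d0700090f050d020c0707080b0b010c0f040d0f0004050a0807040c000d090e0907090b0a0804080807020e000a060c020c02020c080e0b02060704020e0408060e0f020802050906080c0f08060c000f0e0d01020c0a0908020802030004020507030e0b020c0f00090e080e04060c00000f04060a0608000f030d0b020802000c0109050008020a000008]) 4 <|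
  .cons (asm [0x1030020000200000000000000000000000000000000000000000000000000000000000000000000000000000000000000000000000000000000000000000000000220000000000000200000320201320002020132000332202000301213030300230210203100300023232232312001221101201022032302221010000320322113330022022002113033023010023211320332020021130233303321101303231132322220021303101111332330333031320023211031123310002202002021001213023313130200110300310123012203001003302302000200220300303130321031212010122220202033032000002012121103200033321202022221200112303131110202002130021201002312002320320021000100300010301310013012200320102110210111310120012123021102101232030303102020330130112102010220100020310021211201030031302130113313121130033102002002300302200221003230323101121222030301213130002211100020001001102002211012302230222323033303222020221211000003020212320312323030122022103030103010302210131032320030301031312201201111022013320211222120020033231023331120221122230020020231022202000321100002020023032101223002202023002003011200312230203321310233122023203]) 2 <|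
  .cons (asm [0x100400000000000000000000000000000000000000000000000000000000000000000000000000000000000000000000000000000000000000000000140000000000004111541014004111014454141001411154004000105151550005151504411141145454410501155555050410141445144140501115504544104054404414001050055050501440550544500045514151055015000050000151454001151401441041044404104410514040015110150415414404111510505040011151410444141401001000010414054040115504501101415115511500411040500404140111441450155404005014505510045115455000444501000000414050411405450411000045140011404511455014040441150151015105444154144115144001411541041414105114441045014051140455154544544144111011415141101115541040400014450545114141415441411411145041445154100544440145141444144040141411504151114041004145100501410150451444401401551415404140504441140141144545414401140141044105141010004444440401510004411015440141014401414050154104000514410140451415110014445405144411115411011414550055501005114414044005144504141541415054041114411414410111115141151504151044100000040100500440]) 1 <|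
  .cons (asm [0x200000000000000000000000000000000000000000000000000000000000000000000000000000000000000000000000000000000000000000000000220000000000000200000020002222002002002000002202000000200000000000002002222220020202220002000000000200222000022020000200002020002000002022002000000000000020000020000020022200000000000000000202202002200000022000000202202020020020020020200220200002202000000000002002200020200200002000020002002000000002002000200220000000020020000202020222220200000002000002000020000200000000022002000000222000222000200020000000000002002020200000000222200000000200200202222000200000020022022200000022220020000000020000202002020000220020020200200200022020000002200000002222220002022202000020000202000000200220022202000020022222000200220022000020000000020200202220002200000000200220000202000220022000222000200022020000202020000022020002000002220000020000002200020000002202000020020220000220200020200200000200000220002220000000000000220002000000002000202020220000022022000202000222000222200002200000000000020000000200]) 2 <|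
  .cons (asm [0x40808000008000000000000000000000000000000000000000000000000000000000000000000000000000000000000000000000000000000000000000000000008000000000000080000080808020002000004080002000a000a000806020c08040c04040e0a020608000002040000080e0600020000040804040808040c000208080c0c080008020c00080c0a0808060c0a08020e0c0c020a0a00000c000c06040008000a0e080804080000000000040804080c080008040200040a04020c0e00080204060802080c020400040008040204000000040c0800060e000202000c0a000c000000060000000a060c020000060408000004080e0a080404080000000c08040a080602000008000e0e04000c0c02000400000e04000c080200040c060e0208000604000c080e0404020c0004000200000a0c000c04000c040e080002040400080e08000806000a080c080a020a080e0006000800080004020600080a02080002080800040a04020a0c0000080804000406000800080a00040a0a0a0404000c0208060c0004040e04000c0208040e08000a000a0a08040e000006020408000c020c0a0004000a0c0a00000c000200020c060406080000080008080808000c060a000404080000000a0408000c000402000608000c080402000a080e0e040e0c00000002080602040002000404020802040800060000020800000008]) 4 <|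
  .cons (asm [0xe000800010000000000000000000000000000000000000000000000000000000000000000000000000000000000000000000000000000000000000000000000000000000000000008000c800b00008003000a800100000007e0040001400de00fe006a00ba00aa0054003000b000f200540004000400f00046008000bc00a800d8000400340008004400aa00c800f800b00040001000f4009200a4002a00a000e00080008200540020004c005800a000d400d40044004a00120004009200d0009c00e400cc0052007800a0009e002800ca0090005200f80090002c0048003600ea00cc0040001400c000540060008600f0000a001c009c0022008600aa00180054000800880054000200800060001800cc00e800a400400020008400a800920070008a00cc004c002600920000005a0008004a004e00320082004800ca00cc00140062008e00d80060007400100080009a009a00780018000000b000f20074005000a6000c00ba006200840078003c005000ac008c001c000a002000880094007a00100010006a008400b60094003c00b0001800c40014001a00480004006400a400200086001a008400a0006e00a800220062004c00d8006000d000ca00a2006c0008002a000400b80078004e00aa009a001c007000c800e00028002800d80016008a00e000e40050002c0018008200000080001800ce0058006200e000b4]) 8 <|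
  .cons (asm [0x1900000000000000000000000000000000000000000000000000000000000000000000000000000000000000000000000000000000000000000000000000000000000000840000002600000001200000800000005550000011400000870c0000bc020000101400001fbc0000b10c000080420000908200000040000030780000510e00006b900000f1e80000d8000000600c0000aa5000008580000091d60000669400002e140000d6d80000d41000006a320000d9a00000af50000018f2000039880000e9f400003084000031bc0000480000000fa000005e1000004e1c00007f220000eaa4000000980000a202000028800000aa6800008c2800002adc00007554000055800000dd700000075a000096280000ac8800000eb20000c35c00008e8600000cf000006d4c0000f2940000b09e0000e12a0000b134000039f40000aff40000c2380000d9800000c2c60000a7840000c45200008b4400004aac000062a00000ca480000ca2e0000268400009f50000037600000c8360000a83a000030780000041000002eea0000744000003c0c00008d6000006380000030800000ac04000084d20000e0020000a14e0000057c000071820000d1200000050c00001fc00000469000003d8e000090b40000c4c6000003d2000076200000e60c0000d1700000e56a0000abf20000fdf800008218000089780000e688]) 16 <|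
  .cons (asm [0x2000000000000000000000000000000000000000000000000000000000000000000000000000000000000000000000000000000000000000000000000000000000000000000cfbb000000000000a0ec000000000000b0729642000000001709223800000000518d9e4000000000d0b5018000000000f560020000000000739c6a3000000000f9e1466000000000978b0a2c00000000a855024000000000a53dfaf800000000d1cd7cb0000000001bef801000000000ace08000000000009f582344000000004d87df3800000000c80050220000000026335b5200000000fdf24a100000000061eb80c4000000000808049400000000e9afe000000000008e95dd2a000000007ff8426200000000ed63f09600000000b074ee8a0000000049e70b26000000004fb2781200000000fecddda400000000f8c28400000000006bb81c8400000000b7ae90b0000000004cfec190000000009dddb156000000006c56e3e0000000003cc1170e000000005f75eefc000000006bced67c0000000060e100d0000000000492beb800000000cf422fbe0000000060f4949000000000e55944680000000059890864000000004710a05a00000000e79e5c0c000000009e239ba200000000a6de123000000000701254d800000000b3276a44000000005a1c410000000000120613e800000000a55a87c800000000d312264c]) 32 <|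
  .cons (asm [0x800809400000000000000000000000000000000000000000000000000000000000000000000000000000000000000000000000000000000000000000000e9e000000000000000000000000000080000000000000000000000000000000172201cfbc3400000000000000000000b523f9b05084000000000000000000008441ef895b21b064000000000000000080000000000000000000000000000000cfbf5c1732ab4c6000000000000000007a617da68dd28080000000000000000089a1e950710074500000000000000000cebe25b19f6000000000000000000000749066b79921e508000000000000000068504e35a82844a0000000000000000088005c3de710086400000000000000000b05f673d44fc0420000000000000000e834d1328ca0a7cc000000000000000078723cb0d8f2f398000000000000000084d84d05bd9e82040000000000000000735c047921ea470c00000000000000004c3ac865e9c4025e00000000000000008986baf50dfac5040000000000000000961c9e26f8180400000000000000000041956d10aac7bbc00000000000000000ea08b15dbbeffd7e0000000000000000bfdca908610334ce0000000000000000960e62ed91670d92000000000000000012e72752680ce7000000000000000000421217c860a64068000000000000000099ca80350b88de20]) 64 <|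
  .cons (asm [0xe9a000000000000000000000000000000000000000000000000000000000000b7fffff9f000000000000000000000000000000000000000000000000000000080000000000000000000000000000000000000000000000000000000000000003cde5812609d4025ce17014883d000800000000000000000000000000000000017725c3ee3e4000209c352e67ba0000000000000000000000000000000000000ecb47fa400000551ee744148440002a000000000000000000000000000000000588007ec57fe2501cedb7ff5f100004a00000000000000000000000000000000bbd6c31bc7df9d66064148ff58202860000000000000000000000000000000004db8963f7779c619c217f92411c04c32000000000000000000000000000000002701c298db2c5c128f865cf7f2807daa00000000000000000000000000000000a408b4dbc6847cfae201006b138b120000000000000000000000000000000000e0511e10b8423680a08e012b47052418000000000000000000000000000000002b2bd0577dccd765fb8737fe941025000000000000000000000000000000000040140800b02e00221018204e7d000c00]) 128 <|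
  .cons (asm [0xc0060000000000018000000000000000000000000000000000000000000000000000000000000000000000000000000000000000000000000000000000000000fffffffffffff7effffffffffffff77d315150268000000000000000000000000000000000000000000000000000000000000000000000000000000000000000ffe2cfb7ff7f488f6f933efdfc28284d0ca1fcd0c86befcf01049a00a0ad224000000000000000000000000000000000000000000000000000000000000000003e7faf5dc3fb848232dffffb27015da4200aefc9828009492840801cb92000000000000000000000000000000000000000000000000000000000000000000000c0a3c00b8e4e822c6000e0009fda003636ff00090ac300111a6e0c52200292040000000000000000000000000000000000000000000000000000000000000000c83bffe861dc00199e5cafc18000080081052f000050000c00c0000000004000]) 256 <|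
  .cons (asm [0xfb4000820000177388201080000366a400000000000000000000000000000000000000000000000000000000000000000000000000000000000000000000000000000000000000000000000000000000000000000000000000000000000000000000000000000000000000000000000000000000000000000000000000000000bbfff77f0400004edf3fed7000000001000000040000420030243d19488009605dc0050a01101544001a05d810ec01880309103014400000000009a20000000000000000000000000000000000000000000000000000000000000000000000000000000000000000000000000000000000000000000000000000000000000000c0794657bf0d8094326d5efe080047ff7ee097fcf652ebd681380008100c41849503d00061802284d100044052155f1005000b00000000121000a04240000102]) 512 <|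
  .cons (asm [0xfc980000000017400000008008094000000000000000000000000000000000000000000000000000000000000000000000000000000000000000000000000000000000000000000000000000000000000000000000000000000000000000000000000000000000000000000000000000000000000000000000000000000000000000000000000000000000000000000000000000000000000000000000000000000000000000000000000000000000000000000000000000000000000000000000000000000000000000000000000000000000000000000000000000000000000000000000000000000000000000000000000000000000000000000000000000dbffef7ffdb9043ebffffff3280004072120d2a1850892260000001cf83f2e821f38d4115e85bac74e8a4cc0000000000000007275284020050040000088002000000000001200000000000000000001000048008000000000000000000000000000000000000000000000000000000000000000000000000000000000000000]) 1024 <|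
  .cons (asm [0xf8000000000017400000000000000000000000000000000000000000000000000000000000000000000000000000000000000000000000000000000000000000000000000000000000000000000000000000000000000000000000000000000000000000000000000000000000000000000000000000000000000000000000000000000000000000000000000000000000000000000000000000000000000000000000000000000000000000000000000000000000000000000000000000000000000000000000000000000000000000000000000000000000000000000000000000000000000000000000000000000000000000000000000000000000000000]) 2048 <|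
  .nil

/-- The block of `d`. -/
noncomputable def M1 : ℕ := 0x20000000000000000000060000001e0400800080000180e0080000800000000000008100000000208000001401e000800099000820100000000000000000000000000000000001000008004000000100900808040000000000000000000000000000000000000c0000000c000000000002004010000000000000000000000000000000000000200000080000008800000003000600000000000000000000000000000080000000800036000100000000040000400000000000000000000000000000000800208000000001000000002000000000000000000000000001001020000000000000000000010000000000000000000040800000000000000048000000080000000000000000008000000000000000000000080000000040000000000002000000000000000000000000001000000000000000000000000000000020000000000000200000000000c00000000000000000000000000001000000010000000000000000000100000000400001200000000000000000000000000020000000000000008000880080000000000000440000000000480028000000900a000000000000081021000000000000000004b0000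

/-- The bit masks of the labels. -/
noncomputable def Ls : List ℕ := [
  0x40000001e040000008000018060080000800000000000000100000000000000000000a000800098000820000000000000000000000000000000000000000000004000000100000808000000000000000000000000000000000000000800000004000000000000000010000000000000000000000000000000000000200000000000008800000002000200000000000000000000000000000080000000800006000100000000040000000000000000000000000000000000000800208000000001000000000000000000000000000000000001001020000000000000000000000000000000000000000040000000000000000000000000000000000000000000008000000000000000000000080000000000000000000000000000000000000000000000001000000000000000000000000000000020000000000000000000000000c00000000000000000000000000001000000000000000000000000000000000000000001000000000000000000000000000020000000000000000000800000000000000000000000000000400028000000000200000000000000000000000000000000000410000,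
  0x2000000000000000000006000000080400800000000180800800008000000000000001000000000080000014010000800001000800100000000000000000000000000000000001000000004000000100100800040000000000000000000000000000000000000c0000000c000000000002004000000000000000000000000000000000000000200000080000000800000003000000000000000000000000000000000080000000000032000000000000040000000000000000000000000000000000000000208000000000000000000000000000000000000000000000000020000000000000000000000000000000000000000000000000000000000048000000080000000000000000008000000000000000000000080000000040000000000002000000000000000000000000000000000000000000000000000000000020000000000000000000000000400000000000000000000000000001000000000000000000000000000000000000400000000000000000000000000000000000000000000000008000080080000000000000040000000000000008000000000200000000000000000000000000000000000420000,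
  0x2000000000000000000004000000140000000000000100200800000000000000000000000000000080000010006000800089000000100000000000000000000000000000000001000008004000000100000000040000000000000000000000000000000000000c0000000c000000000000000010000000000000000000000000000000000000200000080000000800000000000600000000000000000000000000000080000000800020000000000000000000400000000000000000000000000000000800200000000000000000002000000000000000000000000000001000000000000000000000010000000000000000000000800000000000000040000000000000000000000000008000000000000000000000000000000000000000000002000000000000000000000000001000000000000000000000000000000000000000000000200000000000c00000000000000000000000000000000000010000000000000000000100000000000001200000000000000000000000000020000000000000008000080000000000000000040000000000480008000000900200000000000008002000000000000000000000000,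
  0x800000000000008100000000208000001401e000800098000000000000000000000000000000000000000000000000000000000100900808040000000000000000000000000000000000000c0000000c000000000000000000000000000000000000000000000000000000000000000000008800000003000600000000000000000000000000000080000000800036000000000000000000000000000000000000000000000000000000008000000001000000002000000000000000000000000001001000000000000000000000000000000000000000000000000000000000000048000000080000000000000000008000000000000000000000000000000000000000000000000000000000000000000000001000000000000000000000000000000000000000000000000000000000000000000000000000000000000001000000010000000000000000000000000000000000000000000000000000000000000020000000000000000000000000000000000000440000000000000000000000900a000000000000081021000000000000000004b0000,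
  0x2000000020400000080000180c00800008000000000000081000000002000000014018000800001000020100000000000000000000000000000000000000000000000000100000008040000000000000000000000000000000000000000000000000000000000000000000000000000000000000000000000000000000000000000008000000000000000000000000000000000000000000000000000800020000100000000000000000000000000000000000000000000000800208000000000000000002000000000000000000000000001001020000000000000000000010000000000000000000040800000000000000008000000080000000000000000008000000000000000000000080000000040000000000002000000000000000000000000001000000000000000000000000000000000000000000000200000000000800000000000000000000000000001000000010000000000000000000000000000400001000000000000000000000000000020000000000000000000880000000000000000440000000000480028000000900a00000000000000000000000000000000000000000,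
  0x60000000e0000800000000000c0000000800000000000008000000000000000000001800000009000080000000000000000000000000000000000000000000000400000000090080000000000000000000000000000000000000000000000000c000000000002004010000000000000000000000000000000000000000000080000000800000003000600000000000000000000000000000000000000000020000000000000040000400000000000000000000000000000000000200000000001000000000000000000000000000000000001001000000000000000000000000000000000000000000040800000000000000040000000080000000000000000008000000000000000000000000000000040000000000002000000000000000000000000000000000000000000000000000000000020000000000000000000000000800000000000000000000000000001000000010000000000000000000100000000400001000000000000000000000000000020000000000000008000880080000000000000440000000000080008000000100200000000000008100000000000000000000000000,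
  0x2000000000000000000002000000160000800080000000e0000000800000000000008000000000200000000001e000000001000020100000000000000000000000000000000001000008000000000100800008040000000000000000000000000000000000000c00000000000000000000004010000000000000000000000000000000000000200000000000000800000003000600000000000000000000000000000000000000000034000000000000040000400000000000000000000000000000000000208000000001000000002000000000000000000000000000001020000000000000000000010000000000000000000000800000000000000048000000000000000000000000000000000000000000000000080000000000000000000000000000000000000000000000001000000000000000000000000000000020000000000000200000000000400000000000000000000000000000000000000000000000000000000100000000000000200000000000000000000000000000000000000000000000000000000000000000000000000000080008000000100200000000000000000000000000000000000480000,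
  0x400000000000000e008000080000000000000800000000020800000140000000000980008201000000000000000000000000000000000010000080040000001008000000000000000000000000000000000000000000000000000000000000000020040100000000000000000000000000000000000002000000800000008000000000000000000000000000000000000000000800000000000360001000000000400004000000000000000000000000000000008000000000000010000000000000000000000000000000000000010200000000000000000000100000000000000000000400000000000000000480000000000000000000000000080000000000000000000000000000000400000000000000000000000000000000000000010000000000000000000000000000000000000000000000000000000000000000000000000000000000000010000000100000000000000000000000000000000010000000000000000000000000000000000000000000000000800000000000000004000000000000800080000008008000000000000081021000000000000000004b0000]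

/-- The points of the block with their labels, sorted by label. -/
def tab : List (ℕ × ℕ) := [(209, 17), (3307, 19), (226, 21), (3308, 23), (2355, 25), (3204, 27), (2147, 29), (3107, 31), (331, 34), (3367, 35), (363, 38), (3398, 39), (2840, 42), (2831, 43), (2631, 46), (2630, 47), (347, 49), (562, 50), (827, 53), (1165, 54), (1716, 57), (1423, 58), (425, 61), (270, 62), (537, 68), (3368, 69), (3481, 70), (826, 71), (3122, 76), (3121, 77), (2662, 78), (2663, 79), (3331, 81), (1255, 83), (873, 84), (3084, 86), (2823, 89), (1899, 91), (1825, 92), (2814, 94), (3347, 98), (929, 99), (596, 100), (3366, 101), (2316, 106), (2317, 107), (2302, 108), (2301, 109), (3365, 113), (3397, 114), (1523, 116), (1905, 119), (3123, 121), (3124, 122), (176, 124), (165, 127), (92, 136), (16, 137), (17, 138), (2125, 139), (97, 140), (3087, 141), (3163, 142), (2179, 143), (2108, 145), (3358, 147), (1919, 149), (3287, 151), (167, 152), (3134, 154), (179, 156), (3136, 158), (2581, 162), (3071, 163), (2383, 166), (2882, 167), (104, 168), (3088, 169), (111, 172),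 (3091, 173), (1530, 177), (1218, 178), (540, 181), (343, 182), (274, 184), (708, 187), (676, 188), (1347, 191), (2895, 196), (3297, 197), (2916, 198), (2409, 199), (19, 200), (2126, 201), (2128, 202), (22, 203), (3065, 209), (1697, 211), (1612, 212), (3056, 214), (3169, 216), (1455, 218), (1056, 221), (2852, 223), (2570, 226), (2070, 227), (2050, 228), (2560, 229), (2843, 232), (1860, 233), (1458, 238), (2351, 239), (3298, 241), (3299, 242), (223, 244), (207, 247), (3211, 248), (3267, 251), (1704, 253), (2129, 254)]

end Cfsg.Agent.H836.EightData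
end

-- part: H836/EightChk
section
/-!
# Kernel computations for the fixed points of the flip of `Fi22` (helper836)
-/

set_option autoImplicit false
set_option maxRecDepth 100000

namespace Cfsg.Agent.H836.EightChk

open Cfsg.Spor Cfsg.Spor.Fi22 Cfsg.Agent.Lib.PermNet Cfsg.Agent.Lib.PermNetOrbit
open Cfsg.Agent.Fischer.Fi22PtsRep Cfsg.Agent.Fischer.Fi22Order
open Cfsg.Agent.H836.EightData
open Cfsg.Agent.R01.AlphaIso (flip)

/-! ### The set of points moved by a word -/

/-- The set of points moved by a word (planes below `m`). -/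
noncomputable def mvP (k : ℕ) (w : List Net) (m : ℕ) : ℕ :=
  Nat.rec (motive := fun _ => ℕ) 0
    (fun b ih => seq (Nat.xor (appWord w (plane k b)) (plane k b)) fun x => Nat.lor x ih) m

theorem mvP_succ (k : ℕ) (w : List Net) (m : ℕ) :
    mvP k w (m + 1) = (appWord w (plane k m) ^^^ plane k m) ||| mvP k w m := by
  show seq (Nat.xor (appWord w (plane k m)) (plane k m)) (fun x => Nat.lor x (mvP k w m)) = _
  rw [seq_eq]; rfl

theorem testBit_mvP {k : ℕ} {w : List Net} (hw : WOk (2 ^ k) w) {p : ℕ} (hp : p < 2 ^ k) {m : ℕ} (hm : m ≤ k) :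
    (mvP k w m).testBit p = true ↔ ∃ b < m, (wperm w p).testBit b ≠ p.testBit b := by
  induction m with
  | zero =>
    constructor
    · intro h
      change (0 : ℕ).testBit p = true at h
      rw [Nat.zero_testBit] at h
      exact absurd h (by simp)
    · rintro ⟨b, hb, _⟩
      exact absurd hb (Nat.not_lt_zero _)
  | succ m ih =>
    have ih' := ih (by omega)
    rw [mvP_succ, Nat.testBit_or, Nat.testBit_xor, testBit_appWord hw,
      testBit_plane k m _ (wperm_lt hw hp) (by omega), testBit_plane k m _ hp (by omega), Bool.or_eq_true, ih']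
    constructor
    · rintro (h | ⟨b, hb, h⟩)
      · refine ⟨m, by omega, ?_⟩
        intro e
        rw [e, Bool.xor_self] at h
        exact absurd h (by simp)
      · exact ⟨b, by omega, h⟩
    · rintro ⟨b, hb, h⟩
      rcases Nat.lt_succ_iff_lt_or_eq.1 hb with hb | rfl
      · exact Or.inr ⟨b, hb, h⟩
      · left
        revert h
        cases (wperm w p).testBit b <;> cases p.testBit b <;> simp

/-- The set of points moved by a word. -/
noncomputable def mv (w : List Net) : ℕ := mvP 12 w 12

theorem testBit_mv {w : List Net} (hw : WOk (2 ^ 12) w) {p : ℕ} (hp : p < 2 ^ 12) :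
    (mv w).testBit p = true ↔ wperm w p ≠ p := by
  rw [mv, testBit_mvP hw hp le_rfl]
  constructor
  · rintro ⟨b, _, h⟩ e
    rw [e] at h
    exact h rfl
  · intro h
    by_contra hcon
    push Not at hcon
    apply h
    apply Nat.eq_of_testBit_eq
    intro i
    by_cases hi : i < 12
    · exact hcon i hi
    · have h1 : ∀ n, n < 2 ^ 12 → n.testBit i = false := fun n hn =>
        Nat.testBit_lt_two_pow (lt_of_lt_of_le hn (Nat.pow_le_pow_right (by norm_num) (by omega)))
      rw [h1 _ (wperm_lt hw hp), h1 _ hp]

/-! ### The network of the flip -/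

theorem sN_ok : sN.ok (2 ^ 12) = true := by decide +kernel

theorem sN_wok : WOk (2 ^ 12) [sN] := WOk.cons sN_ok (WOk.nil _)

/-- the network intertwines a generator and its flip -/
noncomputable def twB (x : Gen) : Bool := checkEq 12 [sN, net x] [net (flip x), sN]

theorem tw (x : Gen) : twB x = true := by cases x <;> decide +kernel

theorem sN_mul (x : Gen) : sN.perm * (net x).perm = (net (flip x)).perm * sN.perm := by
  have h1 := wperm_eq_of_checkEq (WOk.cons sN_ok (WOk.cons (net_ok x) (WOk.nil _)))
    (WOk.cons (net_ok (flip x)) (WOk.cons sN_ok (WOk.nil _))) (tw x)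
  simpa [wperm] using h1

theorem sN_zero : sN.perm 0 = 154 := by
  rw [← Net.pt_eq sN_ok]
  exact Nat.eq_of_beq_eq_true (by decide +kernel)

/-! ### The blocks -/

/-- All points. -/
noncomputable def U : ℕ := Nat.sub (Nat.pow 2 3510) 1
/-- The block of the image of `d` under `h`. -/
noncomputable def M3 : ℕ := appWord (nw [.h]) M1
/-- The block of `h`. -/
noncomputable def M2 : ℕ := appWord (nw [.d]) M3
/-- The fixed points. -/
noncomputable def Fx : ℕ := Nat.lor M1 (Nat.lor M2 M3)

theorem testBit_U {p : ℕ} : U.testBit p = true ↔ p < 3510 := by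
  show (2 ^ 3510 - 1).testBit p = true ↔ _
  rw [Nat.testBit_two_pow_sub_one]
  simp

theorem mv_sN : Nat.beq (mv [sN]) (Nat.xor U Fx) = true := by decide +kernel

theorem disj12 : Nat.beq (Nat.land M1 M2) 0 = true := by decide +kernel
theorem disj13 : Nat.beq (Nat.land M1 M3) 0 = true := by decide +kernel
theorem disj23 : Nat.beq (Nat.land M2 M3) 0 = true := by decide +kernel

theorem comm_d : Nat.beq (Nat.lor (Nat.lor (mv (nw [.d])) M1) Fx) (Nat.lor (mv (nw [.d])) M1) = true := by
  decide +kernel

/-! ### The generators -/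

/-- Data of a generator: `u, x, p, v` stand for the transposition `u x u⁻¹` with point `p` and label `v`. -/
structure GD where
  u : List Gen
  x : Gen
  p : ℕ
  v : ℕ

/-- The word of the transposition. -/
def GD.w (g : GD) : List Gen := g.u ++ (g.x :: g.u.reverse)

/-- the eight generators -/
def gs : List GD := [⟨[], .d, 16, 137⟩, ⟨[], .i, 92, 136⟩, ⟨[.e, .d], .c, 17, 138⟩,
  ⟨[.h, .i, .d, .h, .e, .d], .c, 97, 140⟩, ⟨[.g, .f, .e, .d, .c, .b], .a, 22, 203⟩,
  ⟨[.h, .i, .d, .h, .f, .e, .d, .c], .b, 104, 168⟩,
  ⟨[.h, .i, .e, .c, .d, .h, .f, .e, .d, .c], .b, 167, 152⟩,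
  ⟨[.h, .d, .e, .c, .d, .h, .g, .f, .e, .d, .c, .b], .a, 176, 124⟩]

/-- the points of the generators of `Fi22` -/
def ptn : Gen → ℕ
  | .a => 0
  | .b => 2
  | .c => 6
  | .d => 16
  | .e => 40
  | .f => 88
  | .g => 154
  | .h => 43
  | .i => 92

/-- masks of the labels -/
noncomputable def L (j : ℕ) : ℕ := List.getD Ls j 0

/-- select -/
noncomputable def sel (b : Bool) (x : ℕ) : ℕ := Bool.rec 0 x b

theorem testBit_sel (b : Bool) (x p : ℕ) : (sel b x).testBit p = (b && x.testBit p) := by
  cases b
  · exact Nat.zero_testBit p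
  · show x.testBit p = _
    simp

/-- the mask of the points whose label is not orthogonal to `v` -/
noncomputable def pol (v : ℕ) : ℕ :=
  Nat.xor (Nat.xor (Nat.xor (sel (tb v 0) (L 4)) (sel (tb v 1) (L 5)))
    (Nat.xor (sel (tb v 2) (L 6)) (sel (tb v 3) (L 7))))
  (Nat.xor (Nat.xor (sel (tb v 4) (L 0)) (sel (tb v 5) (L 1)))
    (Nat.xor (sel (tb v 6) (L 2)) (sel (tb v 7) (L 3))))

/-- the label masks transform by the transvection -/
noncomputable def labB (g : GD) : Bool :=
  [0, 1, 2, 3, 4, 5, 6, 7].all fun j =>
    Nat.beq (appWord (nw g.w) (L j)) (Nat.xor (L j) (sel (tb g.v j) (pol g.v)))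

/-- everything about a generator -/
noncomputable def gdB (g : GD) : Bool :=
  and (and (labB g) (Nat.beq (appWord (nw g.w) M1) M1))
    (and (and (Nat.beq (ptWord (nw g.u) (ptn g.x)) g.p) (Nat.beq (sN.pt g.p) g.p))
      (and (tb M1 g.p) ([0, 1, 2, 3, 4, 5, 6, 7].all fun j => Nat.beq (tb (L j) g.p).toNat (tb g.v j).toNat)))

theorem gd_all : gs.all gdB = true := by decide +kernel

/-- the words of the generators -/
def gw : List (List Gen) := gs.map GD.w

theorem sat_M1 : Nat.beq (sat (nws gw) 6 (Nat.pow 2 16)) M1 = true := by decide +kernel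

theorem sat_rest : Nat.beq (sat (nws gw) 12 (Nat.pow 2 0)) (Nat.xor U Fx) = true := by decide +kernel

/-! ### Centralising the block -/

/-- six members of the block with their points: `u, x, p` -/
def six : List (List Gen × Gen × ℕ) := [([], .d, 16), ([], .i, 92), ([.e, .d], .c, 17),
  ([.h, .i, .d, .h, .e, .d], .c, 97), ([.h, .i, .f, .e, .b, .c, .d, .h, .g, .f, .e, .d, .c, .b], .a, 274),
  ([.h, .f, .d, .e, .b, .c, .d, .h, .g, .f, .e, .d, .c, .b], .a, 270)]

/-- the six lie in the block -/
noncomputable def sixB (g : List Gen × Gen × ℕ) : Bool :=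
  and (Nat.beq (ptWord (nw g.1) (ptn g.2.1)) g.2.2) (tb M1 g.2.2)

theorem six_all : six.all sixB = true := by decide +kernel

/-- the points moved by one of the six -/
noncomputable def mvAll (l : List (List Gen × Gen × ℕ)) : ℕ :=
  List.rec (motive := fun _ => ℕ) 0 (fun g _ ih => Nat.lor (mv (nw (g.1 ++ (g.2.1 :: g.1.reverse)))) ih) l

theorem mvAll_cons (g : List Gen × Gen × ℕ) (l : List (List Gen × Gen × ℕ)) :
    mvAll (g :: l) = mv (nw (g.1 ++ (g.2.1 :: g.1.reverse))) ||| mvAll l := rfl

theorem six_sep : Nat.beq (Nat.lor (mvAll six) (Nat.lor (Nat.pow 2 0) (Nat.pow 2 154))) U = true := by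
  decide +kernel

/-! ### Labels -/

theorem tab_ok : tab.all (fun x => and (tb M1 x.1) (and (Nat.ble x.1 3509)
    ([0, 1, 2, 3, 4, 5, 6, 7].all fun j => Nat.beq (tb (L j) x.1).toNat (tb x.2 j).toNat))) = true := by
  decide +kernel

/-- the mask of a list of points -/
noncomputable def mk (l : List (ℕ × ℕ)) : ℕ :=
  List.rec (motive := fun _ => ℕ) 0 (fun x _ ih => Nat.lor (Nat.pow 2 x.1) ih) l

theorem mk_tab : Nat.beq (mk tab) M1 = true := by decide +kernel

private theorem _root_.Cfsg.Agent.KOfae57c7.e0.{ku, kv} {α : Type kv} {M : List α → Sort ku} (φ : ∀ l, M l) {z : M List.nil} {s : ∀ a l, M l → M (List.cons a l)} (h0 : φ List.nil = z) (hs : ∀ a l, φ (List.cons a l) = s a l (φ l)) (l : List α) : φ l = @List.rec α M z s l := List.rec h0 (fun a l ih => (hs a l).trans (congrArg (s a l) ih)) l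
private noncomputable def _root_.Cfsg.Agent.KOfae57c7.k9.{ku0, ku1} : type_of% @List.map.{ku0, ku1} := @(fun x0 x1 x2 x3 => @List.rec.{(ku1+1), ku0} @x0 @(fun x4 => @List.{ku1} @x1) [] @(fun x4 x5 x6 => (@x2 @x4) :: @x6) @x3)
private theorem _root_.Cfsg.Agent.KOfae57c7.e9.{ku0, ku1} : @List.map.{ku0, ku1} = @_root_.Cfsg.Agent.KOfae57c7.k9.{ku0, ku1} := by delta _root_.Cfsg.Agent.KOfae57c7.k9; funext a0 a1 a2 a3; refine (_root_.Cfsg.Agent.KOfae57c7.e0 (fun a3 => @List.map.{ku0, ku1} a0 a1 a2 a3) ?_ (fun c0 c1 => ?_) a3 :) <;> (rfl')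
private noncomputable def _root_.Cfsg.Agent.KOfae57c7.k28 : type_of% @Decidable.decide := @(fun x0 x1 => @Decidable.rec.{1} _ @(fun x2 => @Bool) @(fun x2 => @Bool.false) @(fun x2 => @Bool.true) @x1)
private theorem _root_.Cfsg.Agent.KOfae57c7.e28 : @Decidable.decide = @_root_.Cfsg.Agent.KOfae57c7.k28 := by delta _root_.Cfsg.Agent.KOfae57c7.k28; rfl'
private noncomputable def _root_.Cfsg.Agent.KOfae57c7.k29l (n : Nat) (P : ∀ k, k < n → Prop) (H : ∀ k h, Decidable (P k h)) (m : Nat) : m ≤ n → Bool := @Nat.rec (fun m => m ≤ n → Bool) (fun _ => true) (fun k ih h => @Decidable.rec (P k h) (fun _ => Bool) (fun _ => false) (fun _ => ih (Nat.le_of_succ_le h)) (H k h)) m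
private theorem _root_.Cfsg.Agent.KOfae57c7.k29ls (n : Nat) (P : ∀ k, k < n → Prop) (H : ∀ k h, Decidable (P k h)) (m : Nat) : ∀ h : m ≤ n, _root_.Cfsg.Agent.KOfae57c7.k29l n P H m h = true ↔ ∀ k (g : k < m), P k (Nat.lt_of_lt_of_le g h) := by induction m with | zero => exact fun _ => ⟨fun _ _ g => absurd g (Nat.not_lt_zero _), fun _ => rfl⟩ | succ m ih => intro h; show @Decidable.rec (P m h) (fun _ => Bool) (fun _ => false) (fun _ => _root_.Cfsg.Agent.KOfae57c7.k29l n P H m (Nat.le_of_succ_le h)) (H m h) = true ↔ _; cases H m h with | isFalse q => exact ⟨fun g => absurd g Bool.false_ne_true, fun g => absurd (g m (Nat.lt_succ_self m)) q⟩ | isTrue q => exact ⟨fun g k hk => (Nat.lt_succ_iff_lt_or_eq.1 hk).elim ((ih _).1 g k) fun e => by subst e; exact q, fun g => (ih _).2 fun k hk => g k (Nat.lt_succ_of_lt hk)⟩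
private noncomputable def _root_.Cfsg.Agent.KOfae57c7.k29 (n : Nat) (P : ∀ k, k < n → Prop) (H : ∀ k h, Decidable (P k h)) : Decidable (∀ k h, P k h) := @Bool.rec (fun b => _root_.Cfsg.Agent.KOfae57c7.k29l n P H n (Nat.le_refl n) = b → Decidable (∀ k h, P k h)) (fun g => isFalse fun q => Bool.false_ne_true (g.symm.trans ((_root_.Cfsg.Agent.KOfae57c7.k29ls n P H n _).2 fun k h => q k h))) (fun g => isTrue fun k h => (_root_.Cfsg.Agent.KOfae57c7.k29ls n P H n _).1 g k h) (_root_.Cfsg.Agent.KOfae57c7.k29l n P H n (Nat.le_refl n)) rfl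
private theorem _root_.Cfsg.Agent.KOfae57c7.e29 : @Nat.decidableBallLT = @_root_.Cfsg.Agent.KOfae57c7.k29 := funext fun _ => funext fun _ => funext fun _ => Subsingleton.elim _ _
private noncomputable def _root_.Cfsg.Agent.KOfae57c7.k30 : type_of% @Nat.decidableForallFin := @(fun x0 x1 x2 => @Decidable.rec.{1} _ @(fun x3 => @Decidable ((x4 : @Fin @x0) → @x1 @x4)) @(fun x3 => @Decidable.isFalse _ (@decidable_of_decidable_of_iff._proof_1 _ _ (@Nat.decidableForallFin._proof_1 _ @x1) @x3)) @(fun x3 => @Decidable.isTrue _ (@Iff.mp _ _ (@Nat.decidableForallFin._proof_1 _ @x1) @x3)) (@Cfsg.Agent.KOfae57c7.k29 @x0 @(fun x3 x4 => @x1 (@Fin.mk _ @x3 @x4)) @(fun x3 x4 => @x2 (@Fin.mk _ @x3 @x4))))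
private theorem _root_.Cfsg.Agent.KOfae57c7.e30 : @Nat.decidableForallFin = @_root_.Cfsg.Agent.KOfae57c7.k30 := by delta _root_.Cfsg.Agent.KOfae57c7.k30; rewrite [← Cfsg.Agent.KOfae57c7.e29]; rfl'
private noncomputable def _root_.Cfsg.Agent.KOfae57c7.k31 : type_of% @forall_prop_decidable := @(fun x0 x1 x2 x3 => @Decidable.rec.{1} _ @(fun x4 => @Decidable ((x5 : @x0) → @x1 @x5)) @(fun x4 => @Decidable.isTrue _ (@forall_prop_decidable._proof_2 _ @x1 @x4)) @(fun x4 => @Decidable.rec.{1} _ @(fun x5 => @Decidable ((x6 : @x0) → @x1 @x6)) @(fun x5 => @Decidable.isFalse _ (@decidable_of_decidable_of_iff._proof_1 _ _ (@forall_prop_decidable._proof_1 _ @x1 @x4) @x5)) @(fun x5 => @Decidable.isTrue _ (@Iff.mp _ _ (@forall_prop_decidable._proof_1 _ @x1 @x4) @x5)) (@x3 @x4)) @x2)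
private theorem _root_.Cfsg.Agent.KOfae57c7.e31 : @forall_prop_decidable = @_root_.Cfsg.Agent.KOfae57c7.k31 := by delta _root_.Cfsg.Agent.KOfae57c7.k31; rfl'
private noncomputable def _root_.Cfsg.Agent.KOfae57c7.k32 : type_of% @Bool.decEq := @(fun x0 x1 => @Bool.rec.{1} @(fun x2 => @Decidable (@Eq.{1} _ @x2 @x1)) (@Bool.rec.{1} @(fun x2 => @Decidable (@Eq.{1} _ @Bool.false @x2)) (@Decidable.isTrue _ (@rfl.{1} _ _)) (@Decidable.isFalse _ @(fun x2 => @Bool.noConfusion.{0} _ _ _ @x2)) @x1) (@Bool.rec.{1} @(fun x2 => @Decidable (@Eq.{1} _ @Bool.true @x2)) (@Decidable.isFalse _ @(fun x2 => @Bool.noConfusion.{0} _ _ _ @x2)) (@Decidable.isTrue _ (@rfl.{1} _ _)) @x1) @x0)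
private theorem _root_.Cfsg.Agent.KOfae57c7.e32 : @Bool.decEq = @_root_.Cfsg.Agent.KOfae57c7.k32 := by delta _root_.Cfsg.Agent.KOfae57c7.k32; rfl'
private noncomputable def _root_.Cfsg.Agent.KOfae57c7.k33 : type_of% @instDecidableEqBool := @Cfsg.Agent.KOfae57c7.k32
private theorem _root_.Cfsg.Agent.KOfae57c7.e33 : @instDecidableEqBool = @_root_.Cfsg.Agent.KOfae57c7.k33 := by delta _root_.Cfsg.Agent.KOfae57c7.k33; rewrite [← Cfsg.Agent.KOfae57c7.e32]; rfl'
private noncomputable def _root_.Cfsg.Agent.KOfae57c7.k34 : (by first | exact type_of% @Cfsg.Agent.StdO8.Code.qnBit | exact Unit : Sort _) := by first | (refine @Subtype.val _ (fun g => @Cfsg.Agent.StdO8.Code.qnBit = @g) (@Subtype.mk _ _ (@(fun x0 => @Nat.mod (@Nat.shiftRight (nat_lit 27030) (@Nat.mod (@Nat.land @x0 (@Nat.shiftRight @x0 (nat_lit 4))) (nat_lit 16))) (nat_lit 2))) ?_); rfl') | exact @Cfsg.Agent.StdO8.Code.qnBit | exact ()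
private theorem _root_.Cfsg.Agent.KOfae57c7.e34 : (by first | exact @Cfsg.Agent.StdO8.Code.qnBit = @_root_.Cfsg.Agent.KOfae57c7.k34 | exact True : Prop) := by first | (delta _root_.Cfsg.Agent.KOfae57c7.k34; exact @Subtype.property _ (fun g => @Cfsg.Agent.StdO8.Code.qnBit = @g) _) | rfl | trivial
private noncomputable def _root_.Cfsg.Agent.KOfae57c7.k35 : (by first | exact type_of% @Cfsg.Agent.StdO8.Code.qn | exact Unit : Sort _) := by first | (refine @Subtype.val _ (fun g => @Cfsg.Agent.StdO8.Code.qn = @g) (@Subtype.mk _ _ (@(fun x0 => @Nat.beq (@Cfsg.Agent.KOfae57c7.k34 @x0) (nat_lit 1))) ?_); rewrite [← Cfsg.Agent.KOfae57c7.e34]; (try delta Cfsg.Agent.StdO8.Code.qn); (try generalize @Cfsg.Agent.StdO8.Code.qnBit = g0); rfl') | exact @Cfsg.Agent.StdO8.Code.qn | exact ()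
private theorem _root_.Cfsg.Agent.KOfae57c7.e35 : (by first | exact @Cfsg.Agent.StdO8.Code.qn = @_root_.Cfsg.Agent.KOfae57c7.k35 | exact True : Prop) := by first | (delta _root_.Cfsg.Agent.KOfae57c7.k35; exact @Subtype.property _ (fun g => @Cfsg.Agent.StdO8.Code.qn = @g) _) | rfl | trivial
private noncomputable def _root_.Cfsg.Agent.KOfae57c7.k36.{ku0} : type_of% @List.elem.{ku0} := @(fun x0 x1 x2 x3 => @List.rec.{1, ku0} @x0 @(fun x4 => @Bool) @Bool.false @(fun x4 x5 x6 => @Bool.rec.{1} @(fun x7 => @Bool) @x6 @Bool.true (@BEq.beq.{ku0} _ @x1 @x2 @x4)) @x3)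
private theorem _root_.Cfsg.Agent.KOfae57c7.e36.{ku0} : @List.elem.{ku0} = @_root_.Cfsg.Agent.KOfae57c7.k36.{ku0} := by delta _root_.Cfsg.Agent.KOfae57c7.k36; funext a0 a1 a2 a3; refine (_root_.Cfsg.Agent.KOfae57c7.e0 (fun a3 => @List.elem.{ku0} a0 a1 a2 a3) ?_ (fun c0 c1 => ?_) a3 :) <;> (rfl')
private noncomputable def _root_.Cfsg.Agent.KOfae57c7.k37 : type_of% @Nat.decEq := @(fun x0 x1 => @Bool.rec.{1} @(fun x2 => (@Eq.{1} _ (@Nat.beq @x0 @x1) @x2) → @Decidable (@Eq.{1} _ @x0 @x1)) @(fun x2 => @Decidable.isFalse _ (@Nat.ne_of_beq_eq_false _ _ @x2)) @(fun x2 => @Decidable.isTrue _ (@Nat.eq_of_beq_eq_true _ _ @x2)) (@Nat.beq @x0 @x1) (@Eq.refl.{1} _ (@Nat.beq @x0 @x1)))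
private theorem _root_.Cfsg.Agent.KOfae57c7.e37 : @Nat.decEq = @_root_.Cfsg.Agent.KOfae57c7.k37 := by delta _root_.Cfsg.Agent.KOfae57c7.k37; rfl'
private noncomputable def _root_.Cfsg.Agent.KOfae57c7.k38 : type_of% @instDecidableEqNat := @Cfsg.Agent.KOfae57c7.k37
private theorem _root_.Cfsg.Agent.KOfae57c7.e38 : @instDecidableEqNat = @_root_.Cfsg.Agent.KOfae57c7.k38 := by delta _root_.Cfsg.Agent.KOfae57c7.k38; rewrite [← Cfsg.Agent.KOfae57c7.e37]; rfl'

/-- all codes of nonsingular vectors occur -/
theorem tab_surj : ∀ n : Fin 256, Cfsg.Agent.StdO8.Code.qn n.1 = true → (tab.map Prod.snd).elem n.1 = true := by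
  (first | (refine of_decide_eq_true ?_; rewrite [Cfsg.Agent.KOfae57c7.e28, Cfsg.Agent.KOfae57c7.e30, Cfsg.Agent.KOfae57c7.e31, Cfsg.Agent.KOfae57c7.e33, Cfsg.Agent.KOfae57c7.e35, Cfsg.Agent.KOfae57c7.e36.{0}, Cfsg.Agent.KOfae57c7.e38, Cfsg.Agent.KOfae57c7.e9.{0, 0}]; decide +kernel) | decide +kernel)

private noncomputable def _root_.Cfsg.Agent.KOfae57c7.k39.{ku0} : type_of% @List.decidableBAll.{ku0} := @(fun x0 x1 x2 x3 => @List.rec.{1, ku0} @x0 @(fun x4 => @Decidable ((x5 : @x0) → (@Membership.mem.{ku0, ku0} _ _ _ @x4 @x5) → @x1 @x5)) (@Decidable.isTrue _ (@List.decidableBAll._proof_1.{ku0} _ @x1)) @(fun x4 x5 x6 => @Decidable.rec.{1} _ @(fun x7 => @Decidable ((x8 : @x0) → (@Membership.mem.{ku0, ku0} _ _ _ (@x4 :: @x5) @x8) → @x1 @x8)) @(fun x7 => @Decidable.isFalse _ (@List.decidableBAll._proof_4.{ku0} _ @x1 @x4 @x5 @x7)) @(fun x7 => @Decidable.rec.{1} _ @(fun x8 => @Decidable ((x9 : @x0) → (@Membership.mem.{ku0, ku0} _ _ _ (@x4 :: @x5) @x9) → @x1 @x9)) @(fun x8 => @Decidable.isFalse _ (@List.decidableBAll._proof_3.{ku0} _ @x1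 @x4 @x5 @x8)) @(fun x8 => @Decidable.isTrue _ (@List.decidableBAll._proof_2.{ku0} _ @x1 @x4 @x5 @x7 @x8)) @x6) (@x2 @x4)) @x3)
private theorem _root_.Cfsg.Agent.KOfae57c7.e39.{ku0} : @List.decidableBAll.{ku0} = @_root_.Cfsg.Agent.KOfae57c7.k39.{ku0} := by delta _root_.Cfsg.Agent.KOfae57c7.k39; funext a0 a1 a2 a3; refine (_root_.Cfsg.Agent.KOfae57c7.e0 (fun a3 => @List.decidableBAll.{ku0} a0 a1 a2 a3) ?_ (fun c0 c1 => ?_) a3 :) <;> (rfl')
private noncomputable def _root_.Cfsg.Agent.KOfae57c7.k40.{ku0} : type_of% @List.instDecidablePairwise.{ku0} := @(fun x0 x1 x2 x3 => @List.rec.{1, ku0} @x0 @(fun x4 => @Decidable (@List.Pairwise.{ku0} _ @x1 @x4)) (@Decidable.isTrue _ (@List.Pairwise.nil.{ku0} _ _)) @(fun x4 x5 x6 => @Decidable.rec.{1} _ @(fun x7 => @Decidable (@List.Pairwise.{ku0} _ @x1 (@x4 :: @x5))) @(fun x7 => @Decidable.isFalse _ (@List.instDecidablePairwise._proof_3.{ku0} _ _ @x4 @x5 @x7)) @(fun x7 => @Decidable.rec.{1} _ @(fun x8 => @Decidable (@List.Pairwise.{ku0} _ @x1 (@x4 :: @x5))) @(fun x8 => @Decidable.isFalse _ (@List.instDecidablePairwise._proof_1.{ku0}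 _ _ @x4 @x5 @x8)) @(fun x8 => @Decidable.isTrue _ (@List.instDecidablePairwise._proof_2.{ku0} _ _ @x4 @x5 @x7 @x8)) (@Cfsg.Agent.KOfae57c7.k39.{ku0} _ (@x1 @x4) (@x2 @x4) @x5)) @x6) @x3)
private theorem _root_.Cfsg.Agent.KOfae57c7.e40.{ku0} : @List.instDecidablePairwise.{ku0} = @_root_.Cfsg.Agent.KOfae57c7.k40.{ku0} := by delta _root_.Cfsg.Agent.KOfae57c7.k40; rewrite [← Cfsg.Agent.KOfae57c7.e39.{ku0}]; funext a0 a1 a2 a3; refine (_root_.Cfsg.Agent.KOfae57c7.e0 (fun a3 => @List.instDecidablePairwise.{ku0} a0 a1 a2 a3) ?_ (fun c0 c1 => ?_) a3 :) <;> (rfl')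
private noncomputable def _root_.Cfsg.Agent.KOfae57c7.k41 : type_of% @Nat.decLe := @(fun x0 x1 => @Decidable.rec.{1} _ @(fun x2 => @Decidable (@LE.le.{0} _ _ @x0 @x1)) @(fun x2 => @Decidable.isFalse _ (@Nat.not_le_of_not_ble_eq_true _ _ @x2)) @(fun x2 => @Decidable.isTrue _ (@Nat.le_of_ble_eq_true _ _ @x2)) (@Cfsg.Agent.KOfae57c7.k32 (@Nat.ble @x0 @x1) @Bool.true))
private theorem _root_.Cfsg.Agent.KOfae57c7.e41 : @Nat.decLe = @_root_.Cfsg.Agent.KOfae57c7.k41 := by delta _root_.Cfsg.Agent.KOfae57c7.k41; rewrite [← Cfsg.Agent.KOfae57c7.e32]; rfl'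
private noncomputable def _root_.Cfsg.Agent.KOfae57c7.k42 : type_of% @Nat.decLt := @(fun x0 x1 => @Cfsg.Agent.KOfae57c7.k41 (@Nat.succ @x0) @x1)
private theorem _root_.Cfsg.Agent.KOfae57c7.e42 : @Nat.decLt = @_root_.Cfsg.Agent.KOfae57c7.k42 := by delta _root_.Cfsg.Agent.KOfae57c7.k42; rewrite [← Cfsg.Agent.KOfae57c7.e41]; rfl'

theorem tab_codes : (tab.map Prod.snd).Pairwise (· < ·) := by (first | (refine of_decide_eq_true ?_; rewrite [Cfsg.Agent.KOfae57c7.e28, Cfsg.Agent.KOfae57c7.e40.{0}, Cfsg.Agent.KOfae57c7.e42, Cfsg.Agent.KOfae57c7.e9.{0, 0}]; decide +kernel) | decide +kernel)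

theorem tab_q : tab.all (fun x => and (Nat.blt x.2 256) (Cfsg.Agent.StdO8.Code.qn x.2)) = true := by
  decide +kernel

private theorem _root_.Cfsg.Agent.KOfae57c7.e43.{ku} {M : Nat → Sort ku} (φ : ∀ n, M n) {z : M Nat.zero} {s : ∀ n, M n → M (Nat.succ n)} (h0 : φ Nat.zero = z) (hs : ∀ n, φ (Nat.succ n) = s n (φ n)) (n : Nat) : φ n = @Nat.rec M z s n := Nat.rec h0 (fun n ih => (hs n).trans (congrArg (s n) ih)) n
private noncomputable def _root_.Cfsg.Agent.KOfae57c7.k44 : type_of% @instDecidableOr := @(fun x0 x1 x2 x3 => @Decidable.rec.{1} _ @(fun x4 => @Decidable (@Or @x0 @x1)) @(fun x4 => @Decidable.rec.{1} _ @(fun x5 => @Decidable (@Or @x0 @x1)) @(fun x5 => @Decidable.isFalse _ (@instDecidableOr._proof_1 _ _ @x4 @x5)) @(fun x5 => @Decidable.isTrue _ (@Or.inr _ _ @x5)) @x3) @(fun x4 => @Decidable.isTrue _ (@Or.inl _ _ @x4)) @x2)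
private theorem _root_.Cfsg.Agent.KOfae57c7.e44 : @instDecidableOr = @_root_.Cfsg.Agent.KOfae57c7.k44 := by delta _root_.Cfsg.Agent.KOfae57c7.k44; rfl'
private noncomputable def _root_.Cfsg.Agent.KOfae57c7.k45 : type_of% @Nat.decidableExistsLT := @(fun x0 x1 x2 => @Nat.rec.{1} @(fun x3 => @Decidable (@Exists.{1} _ @(fun x4 => @And (@LT.lt.{0} _ _ @x4 @x3) (@x0 @x4)))) (@Decidable.isFalse _ (@Nat.decidableExistsLT._proof_5 _)) @(fun x3 x4 => @Decidable.rec.{1} _ @(fun x5 => @Decidable (@Exists.{1} _ @(fun x6 => @And (@LT.lt.{0} _ _ @x6 (@HAdd.hAdd.{0, 0, 0} _ _ _ _ @x3 ((1 : ℕ)))) (@x0 @x6)))) @(fun x5 => @Decidable.isFalse _ (@decidable_of_decidable_of_iff._proof_1 _ _ (@Nat.decidableExistsLT._proof_10 _ @x3) @x5)) @(fun x5 => @Decidable.isTrue _ (@Iff.mp _ _ (@Nat.decidableExistsLT._proof_10 _ @x3) @x5)) (@Cfsg.Agent.KOfae57c7.k44 _ _ @x4 (@x1 @x3))) @x2)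
private theorem _root_.Cfsg.Agent.KOfae57c7.e45 : @Nat.decidableExistsLT = @_root_.Cfsg.Agent.KOfae57c7.k45 := by delta _root_.Cfsg.Agent.KOfae57c7.k45; rewrite [← Cfsg.Agent.KOfae57c7.e44]; funext a0 a1 a2; refine (_root_.Cfsg.Agent.KOfae57c7.e43 (fun a2 => @Nat.decidableExistsLT a0 a1 a2) ?_ (fun c0 => ?_) a2 :) <;> (rfl')
private noncomputable def _root_.Cfsg.Agent.KOfae57c7.k46 : type_of% @Nat.decidableExistsFin := @(fun x0 x1 x2 => @Decidable.rec.{1} _ @(fun x3 => @Decidable (@Exists.{1} _ @(fun x4 => @x1 @x4))) @(fun x3 => @Decidable.isFalse _ (@decidable_of_decidable_of_iff._proof_1 _ _ (@Nat.decidableExistsFin._proof_1 _ @x1) @x3)) @(fun x3 => @Decidable.isTrue _ (@Iff.mp _ _ (@Nat.decidableExistsFin._proof_1 _ @x1) @x3)) (@Cfsg.Agent.KOfae57c7.k45 @(fun x3 => (x4 : @LT.lt.{0} _ _ @x3 @x0) → @x1 (@Fin.mk _ @x3 @x4)) @(fun x3 => @Decidable.rec.{1} _ @(fun x4 => @Decidable ((x5 : @LT.lt.{0} _ _ @x3 @x0) → @x1 (@Fin.mk _ @x3 @x5))) @(fun x4 => @Decidable.isTrue _ (@forall_prop_decidable._proof_2 _ @(fun x5 => @x1 (@Fin.mk _ @x3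 @x5)) @x4)) @(fun x4 => @Decidable.rec.{1} _ @(fun x5 => @Decidable ((x6 : @LT.lt.{0} _ _ @x3 @x0) → @x1 (@Fin.mk _ @x3 @x6))) @(fun x5 => @Decidable.isFalse _ (@decidable_of_decidable_of_iff._proof_1 _ _ (@forall_prop_decidable._proof_1 _ @(fun x6 => @x1 (@Fin.mk _ @x3 @x6)) @x4) @x5)) @(fun x5 => @Decidable.isTrue _ (@Iff.mp _ _ (@forall_prop_decidable._proof_1 _ @(fun x6 => @x1 (@Fin.mk _ @x3 @x6)) @x4) @x5)) (@x2 (@Fin.mk _ @x3 @x4))) (@Cfsg.Agent.KOfae57c7.k41 (@Nat.succ @x3) @x0)) @x0))
private theorem _root_.Cfsg.Agent.KOfae57c7.e46 : @Nat.decidableExistsFin = @_root_.Cfsg.Agent.KOfae57c7.k46 := by delta _root_.Cfsg.Agent.KOfae57c7.k46; rewrite [← Cfsg.Agent.KOfae57c7.e41, ← Cfsg.Agent.KOfae57c7.e45]; rfl'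
private noncomputable def _root_.Cfsg.Agent.KOfae57c7.k47 : type_of% @instDecidableAnd := @(fun x0 x1 x2 x3 => @Decidable.rec.{1} _ @(fun x4 => @Decidable (@And @x0 @x1)) @(fun x4 => @Decidable.isFalse _ (@instDecidableAnd._proof_2 _ _ @x4)) @(fun x4 => @Decidable.rec.{1} _ @(fun x5 => @Decidable (@And @x0 @x1)) @(fun x5 => @Decidable.isFalse _ (@instDecidableAnd._proof_1 _ _ @x5)) @(fun x5 => @Decidable.isTrue _ (@And.intro _ _ @x4 @x5)) @x3) @x2)
private theorem _root_.Cfsg.Agent.KOfae57c7.e47 : @instDecidableAnd = @_root_.Cfsg.Agent.KOfae57c7.k47 := by delta _root_.Cfsg.Agent.KOfae57c7.k47; rfl'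
private noncomputable def _root_.Cfsg.Agent.KOfae57c7.k48 : (by first | exact type_of% @Cfsg.Agent.StdO8.Code.bnBit | exact Unit : Sort _) := by first | (refine @Subtype.val _ (fun g => @Cfsg.Agent.StdO8.Code.bnBit = @g) (@Subtype.mk _ _ (@(fun x0 x1 => @Nat.mod (@Nat.shiftRight (nat_lit 27030) (@Nat.mod (@Nat.xor (@Nat.land @x0 (@Nat.shiftRight @x1 (nat_lit 4))) (@Nat.land (@Nat.shiftRight @x0 (nat_lit 4)) @x1)) (nat_lit 16))) (nat_lit 2))) ?_); rfl') | exact @Cfsg.Agent.StdO8.Code.bnBit | exact ()
private theorem _root_.Cfsg.Agent.KOfae57c7.e48 : (by first | exact @Cfsg.Agent.StdO8.Code.bnBit = @_root_.Cfsg.Agent.KOfae57c7.k48 | exact True : Prop) := by first | (delta _root_.Cfsg.Agent.KOfae57c7.k48; exact @Subtype.property _ (fun g => @Cfsg.Agent.StdO8.Code.bnBit = @g) _) | rfl | trivial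
private noncomputable def _root_.Cfsg.Agent.KOfae57c7.k49 : (by first | exact type_of% @Cfsg.Agent.StdO8.Code.Bn | exact Unit : Sort _) := by first | (refine @Subtype.val _ (fun g => @Cfsg.Agent.StdO8.Code.Bn = @g) (@Subtype.mk _ _ (@(fun x0 x1 => @Nat.beq (@Cfsg.Agent.KOfae57c7.k48 @x0 @x1) (nat_lit 1))) ?_); rewrite [← Cfsg.Agent.KOfae57c7.e48]; (try delta Cfsg.Agent.StdO8.Code.Bn); (try generalize @Cfsg.Agent.StdO8.Code.bnBit = g0); rfl') | exact @Cfsg.Agent.StdO8.Code.Bn | exact ()
private theorem _root_.Cfsg.Agent.KOfae57c7.e49 : (by first | exact @Cfsg.Agent.StdO8.Code.Bn = @_root_.Cfsg.Agent.KOfae57c7.k49 | exact True : Prop) := by first | (delta _root_.Cfsg.Agent.KOfae57c7.k49; exact @Subtype.property _ (fun g => @Cfsg.Agent.StdO8.Code.Bn = @g) _) | rfl | trivial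

/-- a common neighbour with `d` -/
theorem nbr : ∀ n : Fin 256, Cfsg.Agent.StdO8.Code.qn n.1 = true → ∃ k : Fin 256,
    Cfsg.Agent.StdO8.Code.qn k.1 = true ∧ Cfsg.Agent.StdO8.Code.Bn 137 k.1 = false ∧
      Cfsg.Agent.StdO8.Code.Bn n.1 k.1 = false := by
  (first | (refine of_decide_eq_true ?_; rewrite [Cfsg.Agent.KOfae57c7.e28, Cfsg.Agent.KOfae57c7.e30, Cfsg.Agent.KOfae57c7.e31, Cfsg.Agent.KOfae57c7.e33, Cfsg.Agent.KOfae57c7.e35, Cfsg.Agent.KOfae57c7.e46, Cfsg.Agent.KOfae57c7.e47, Cfsg.Agent.KOfae57c7.e49]; decide +kernel) | decide +kernel)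

/-! ### An element of order three -/

/-- the product of two members of the block which commute with `d` but not with each other -/
def w3 : List Gen := ([.e, .d, .c, .d, .e] : List Cfsg.Spor.Fi22.Gen) ++ ([.h, .i, .d, .h, .f, .e, .d, .c, .b, .c, .d, .e, .f, .h, .d, .i, .h] : List Cfsg.Spor.Fi22.Gen)

theorem w3_mv : Nat.beq (Nat.lor (mv (nw w3)) (Nat.lor M2 M3)) (mv (nw w3)) = true := by decide +kernel

end Cfsg.Agent.H836.EightChk
end

-- part: H836/EightPts
section
/-!
# Points and transpositions of `Fi22`; the flip on the points (helper836)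

`tp x` is the transposition of the point `x`: `tp_smul`, `tp_inj`, `tp_surj`, `tp_comm`; `fl` is the flip on the points:
`flipA_tp`, `fl_smul`, `fl_eq_iff` (the fixed points are the bits of `Fx`).
-/

set_option autoImplicit false

namespace Cfsg.Agent.H836.EightPts

open Cfsg Cfsg.Spor Cfsg.Spor.Fi22 Cfsg.Agent.Lib.PermNet Cfsg.Agent.Lib.PermNetOrbit
open Cfsg.Agent.Fischer.Fi22PtsRep Cfsg.Agent.Fischer.Fi22Order
open Cfsg.Agent.R01.Fi22Facts (T ncard_T)
open Cfsg.Agent.R01.AlphaIso (flip)
open Cfsg.Agent.H833.Flip
open Cfsg.Agent.H836.EightData Cfsg.Agent.H836.EightChk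

theorem nxor (a b p : ℕ) : (Nat.xor a b).testBit p = (a.testBit p ^^ b.testBit p) := Nat.testBit_xor a b p
theorem nor (a b p : ℕ) : (Nat.lor a b).testBit p = (a.testBit p || b.testBit p) := Nat.testBit_or a b p
theorem nand (a b p : ℕ) : (Nat.land a b).testBit p = (a.testBit p && b.testBit p) := Nat.testBit_and a b p

/-- The transposition of a point. -/
noncomputable def tp (x : X) : Spor.Fi22 := (htrans x).choose * gen .a * ((htrans x).choose)⁻¹

theorem tp_of {g : Spor.Fi22} {x : X} (h : g • x0 = x) : tp x = g * gen .a * g⁻¹ := by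
  set k := (htrans x).choose with hkdef
  have hk : k • x0 = x := (htrans x).choose_spec
  have h1 : φ (k⁻¹ * g) 0 = 0 := by
    have h0 : (k⁻¹ * g) • x0 = x0 := by rw [mul_smul, h, ← hk, inv_smul_smul]
    exact congrArg Subtype.val h0
  have h2 := stab_comm h1
  show k * gen .a * k⁻¹ = _
  calc k * gen .a * k⁻¹ = k * (gen .a * (k⁻¹ * g)) * g⁻¹ := by group
    _ = k * ((k⁻¹ * g) * gen .a) * g⁻¹ := by rw [h2]
    _ = g * gen .a * g⁻¹ := by group

theorem tp_smul (g : Spor.Fi22) (x : X) : tp (g • x) = g * tp x * g⁻¹ := by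
  obtain ⟨k, rfl⟩ := htrans x
  rw [tp_of (g := g * k) (mul_smul g k x0), tp_of rfl]
  group

theorem tp_mem (x : X) : tp x ∈ T := by
  obtain ⟨k, rfl⟩ := htrans x
  rw [tp_of rfl]
  exact isConj_iff.2 ⟨k, rfl⟩

theorem tp_surj {t : Spor.Fi22} (h : t ∈ T) : ∃ x, tp x = t := by
  obtain ⟨k, hk⟩ := isConj_iff.1 (show IsConj (gen .a) t from h)
  exact ⟨k • x0, by rw [tp_of rfl, hk]⟩

theorem card_X : Nat.card X = 3510 := by
  have : Nat.card X = Nat.card (Fin 3510) := Nat.card_congr
    { toFun := fun x => ⟨x.1, x.2⟩, invFun := fun x => ⟨x.1, x.2⟩, left_inv := fun _ => rfl, right_inv := fun _ => rfl }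
  rw [this, Nat.card_fin]

theorem tp_inj {x y : X} (h : tp x = tp y) : x = y := by
  let f : X → T := fun x => ⟨tp x, tp_mem x⟩
  have hs : Function.Surjective f := by
    rintro ⟨t, ht⟩
    obtain ⟨x, rfl⟩ := tp_surj ht
    exact ⟨x, rfl⟩
  have hc : Nat.card X = Nat.card T := by
    rw [card_X]
    exact ncard_T.symm
  have hfin : Finite T := Nat.finite_of_card_ne_zero (by rw [← hc, card_X]; norm_num)
  have hb := (Nat.bijective_iff_surjective_and_card f).2 ⟨hs, hc⟩
  exact hb.1 (Subtype.ext h)

theorem tp_mul_self (x : X) : tp x * tp x = 1 := by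
  obtain ⟨k, rfl⟩ := htrans x
  rw [tp_of rfl]
  calc k * gen .a * k⁻¹ * (k * gen .a * k⁻¹) = k * (gen .a * gen .a) * k⁻¹ := by group
    _ = 1 := by rw [gen_sq]; group

theorem tp_inv (x : X) : (tp x)⁻¹ = tp x := inv_eq_of_mul_eq_one_left (tp_mul_self x)

theorem smul_eq_iff (g : Spor.Fi22) (x : X) : g • x = x ↔ g * tp x = tp x * g := by
  constructor
  · intro h
    have h1 := tp_smul g x
    rw [h] at h1
    exact (mul_inv_eq_iff_eq_mul.1 h1.symm)
  · intro h
    apply tp_inj
    rw [tp_smul, h]
    group

theorem tp_comm (x y : X) : tp x • y = y ↔ tp x * tp y = tp y * tp x := smul_eq_iff _ _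

theorem tp_comm' (x y : X) : tp x • y = y ↔ tp y • x = x := by
  rw [tp_comm, tp_comm, eq_comm]

/-! ### The points of the generators -/

theorem ptn_lt (s : Gen) : ptn s < 3510 := by cases s <;> decide

/-- The point of a generator. -/
def pg (s : Gen) : X := ⟨ptn s, ptn_lt s⟩

theorem cw_pt (s : Gen) : Nat.beq (ptWord (nw (cw s)) 0) (ptn s) = true := by
  cases s <;> decide +kernel

theorem tp_pg (s : Gen) : tp (pg s) = gen s := by
  have h : wd (cw s) • x0 = pg s := by
    apply Subtype.ext
    show φ (wd (cw s)) 0 = ptn s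
    rw [φ_wd_apply]
    exact Nat.eq_of_beq_eq_true (cw_pt s)
  rw [tp_of h]
  exact (gen_cw s).symm

theorem val_wd_smul (w : List Gen) (x : X) : (wd w • x).1 = ptWord (nw w) x.1 := by
  show φ (wd w) x.1 = _
  rw [φ_wd_apply]

theorem wperm_eq (w : List Gen) (x : X) : wperm (nw w) x.1 = (wd w • x).1 := by
  show _ = φ (wd w) x.1
  rw [φ_wd]

/-! ### The flip -/

theorem sN_φ (g : Spor.Fi22) : sN.perm * φ g = φ (flipA g) * sN.perm := by
  have hg : g ∈ Subgroup.closure (Set.range gen) := by rw [closure_gen]; trivial
  induction hg using Subgroup.closure_induction with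
  | mem x hx =>
    obtain ⟨s, rfl⟩ := hx
    rw [flipA_gen, φ_gen, φ_gen]
    exact sN_mul s
  | one => simp
  | mul x y _ _ hx hy =>
    rw [map_mul, map_mul, map_mul, ← mul_assoc, hx, mul_assoc, hy, mul_assoc]
  | inv x _ hx =>
    rw [map_inv, map_inv, map_inv, mul_inv_eq_iff_eq_mul, mul_assoc, hx, inv_mul_cancel_left]

theorem sN_lt (x : X) : sN.perm x.1 < 3510 := by
  obtain ⟨k, rfl⟩ := htrans x
  have h := DFunLike.congr_fun (sN_φ k) 0
  rw [Equiv.Perm.mul_apply, Equiv.Perm.mul_apply, sN_zero] at h
  show sN.perm (φ k 0) < 3510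
  rw [h]
  exact φ_lt _ (by norm_num)

/-- The flip on the points. -/
noncomputable def fl (x : X) : X := ⟨sN.perm x.1, sN_lt x⟩

theorem fl_smul (g : Spor.Fi22) (x : X) : fl (g • x) = flipA g • fl x := by
  apply Subtype.ext
  exact DFunLike.congr_fun (sN_φ g) x.1

theorem fl_x0 : fl x0 = pg .g := Subtype.ext sN_zero

theorem flipA_tp (x : X) : flipA (tp x) = tp (fl x) := by
  obtain ⟨k, rfl⟩ := htrans x
  rw [tp_of rfl, fl_smul, fl_x0, tp_smul, tp_pg, map_mul, map_mul, map_inv, flipA_gen]
  rfl

theorem fl_eq_iff (x : X) : fl x = x ↔ Fx.testBit x.1 = true := by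
  have hp : x.1 < 2 ^ 12 := lt_trans x.2 (by norm_num)
  have h1 := testBit_mv sN_wok hp
  have h2 := Nat.eq_of_beq_eq_true mv_sN
  have h3 : U.testBit x.1 = true := testBit_U.2 x.2
  rw [h2, nxor, h3] at h1
  have h4 : wperm [sN] x.1 = (fl x).1 := by
    rw [wperm_cons, wperm_nil, mul_one]
    rfl
  rw [h4] at h1
  rw [Subtype.ext_iff]
  cases h : Fx.testBit x.1
  · rw [h] at h1
    simp at h1
    simp [h1]
  · rw [h] at h1
    simp at h1
    simp [h1]

theorem tp_fixed_iff (x : X) : flipA (tp x) = tp x ↔ Fx.testBit x.1 = true := by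
  rw [flipA_tp, ← fl_eq_iff]
  exact ⟨fun h => tp_inj h, fun h => by rw [h]⟩

/-- The group of fixed points. -/
def Cs : Subgroup Spor.Fi22 where
  carrier := {g | flipA g = g}
  mul_mem' := by
    intro a b ha hb
    show flipA (a * b) = a * b
    rw [map_mul, ha, hb]
  one_mem' := map_one _
  inv_mem' := by
    intro a ha
    show flipA a⁻¹ = a⁻¹
    rw [map_inv, ha]

theorem mem_Cs {g : Spor.Fi22} : g ∈ Cs ↔ flipA g = g := Iff.rfl

theorem fl_smul_Cs {g : Spor.Fi22} (hg : g ∈ Cs) (x : X) : fl (g • x) = g • fl x := by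
  rw [fl_smul, mem_Cs.1 hg]

/-- membership of a point in a mask -/
abbrev In (m : ℕ) (x : X) : Prop := m.testBit x.1 = true

theorem in_Fx_smul {g : Spor.Fi22} (hg : g ∈ Cs) (x : X) : In Fx (g • x) ↔ In Fx x := by
  show Fx.testBit (g • x).1 = true ↔ Fx.testBit x.1 = true
  rw [← fl_eq_iff, ← fl_eq_iff, fl_smul_Cs hg]
  exact ⟨fun h => smul_left_cancel g h, fun h => by rw [h]⟩

theorem tp_mem_Cs {x : X} (h : In Fx x) : tp x ∈ Cs := (tp_fixed_iff x).2 h

end Cfsg.Agent.H836.EightPts
end

-- part: H836/EightBlk
section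
/-!
# The block of `d` among the fixed points of the flip of `Fi22` (helper836)

`labV x` is the label of a point of the block; `Rel g A`: `g` is fixed by the flip, preserves the block and acts on it as
the isometry `A`. `cent_block`: only the identity fixes all points of the block. `exists_rel`: every isometry occurs.
-/

set_option autoImplicit false

namespace Cfsg.Agent.H836.EightBlk

open Cfsg Cfsg.Spor Cfsg.Spor.Fi22 Cfsg.Agent.Lib.PermNet Cfsg.Agent.Lib.PermNetOrbit
open Cfsg.Agent.Fischer.Fi22PtsRep Cfsg.Agent.Fischer.Fi22Order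
open Cfsg.Agent.R01.AlphaIso (flip)
open Cfsg.Agent.H833.Flip
open Cfsg.Agent.H836.EightData Cfsg.Agent.H836.EightChk Cfsg.Agent.H836.EightPts
open Cfsg.Agent.StdO8.Model (V q O8 Om B)
open Cfsg.Agent.StdO8.Code (dec qn Bn cc ix cc_xor cc_and cc_inj dec_surj dec_inj q_dec B_dec)
open Cfsg.Agent.H836.EightO (rf rf_apply closure_rf conj_rf)

/-! ### Words -/

theorem wd_reverse (u : List Gen) : wd u.reverse = (wd u)⁻¹ := by
  induction u with
  | nil => simp [wd]
  | cons s u ih =>
    rw [List.reverse_cons, wd_append, ih, wd_cons, wd_cons, wd_nil, mul_one, mul_inv_rev, gen_inv]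

theorem tr_word (u : List Gen) (s : Gen) : wd (u ++ (s :: u.reverse)) = tp (wd u • pg s) := by
  rw [tp_smul, tp_pg, wd_append, wd_cons, wd_reverse, mul_assoc]

/-! ### Labels -/

/-- The label of a point. -/
noncomputable def labV (x : X) : V := fun i => cc ((L (ix i)).testBit x.1)

theorem ix_mem : ∀ i : Fin 4 ⊕ Fin 4, ix i ∈ [0, 1, 2, 3, 4, 5, 6, 7] := by decide

theorem ix_surj : ∀ j ∈ [0, 1, 2, 3, 4, 5, 6, 7], ∃ i : Fin 4 ⊕ Fin 4, ix i = j := by decide

theorem exists_code (x : X) : ∃ n < 256, labV x = dec n ∧
    ∀ j ∈ [0, 1, 2, 3, 4, 5, 6, 7], (L j).testBit x.1 = n.testBit j := by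
  obtain ⟨n, hn, h⟩ := dec_surj (labV x)
  refine ⟨n, hn, h.symm, fun j hj => ?_⟩
  obtain ⟨i, rfl⟩ := ix_surj j hj
  exact (cc_inj (congrFun h i)).symm

theorem lab_of_bits {x : X} {n : ℕ} (h : ∀ j ∈ [0, 1, 2, 3, 4, 5, 6, 7], (L j).testBit x.1 = n.testBit j) :
    labV x = dec n := by
  funext i
  show cc _ = cc _
  rw [h _ (ix_mem i)]

theorem pol_spec (v : ℕ) (x : X) : cc ((pol v).testBit x.1) = B (dec v) (labV x) := by
  obtain ⟨n, hn, h, hb⟩ := exists_code x
  rw [h, B_dec]
  congr 1
  have e : (pol v).testBit x.1 = ((((v.testBit 0 && (L 4).testBit x.1) ^^ (v.testBit 1 && (L 5).testBit x.1)) ^^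
      ((v.testBit 2 && (L 6).testBit x.1) ^^ (v.testBit 3 && (L 7).testBit x.1))) ^^
      (((v.testBit 4 && (L 0).testBit x.1) ^^ (v.testBit 5 && (L 1).testBit x.1)) ^^
      ((v.testBit 6 && (L 2).testBit x.1) ^^ (v.testBit 7 && (L 3).testBit x.1)))) := by
    rw [pol]
    simp only [nxor, testBit_sel, tb_eq]
  rw [e, hb 0 (by decide), hb 1 (by decide), hb 2 (by decide), hb 3 (by decide), hb 4 (by decide),
    hb 5 (by decide), hb 6 (by decide), hb 7 (by decide)]
  simp only [StdO8.Code.Bn_bits, Bool.xor_assoc]

/-! ### The generators -/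

theorem toNat_inj {a b : Bool} (h : Nat.beq a.toNat b.toNat = true) : a = b := by
  cases a <;> cases b <;> first | rfl | exact absurd h (by decide)

theorem gd_spec {g : GD} (hg : g ∈ gs) :
    (∀ j ∈ [0, 1, 2, 3, 4, 5, 6, 7], ∀ p, (L j).testBit (wperm (nw g.w) p) =
      ((L j).testBit p ^^ (g.v.testBit j && (pol g.v).testBit p))) ∧
    (∀ p, M1.testBit (wperm (nw g.w) p) = M1.testBit p) ∧
    ptWord (nw g.u) (ptn g.x) = g.p ∧ sN.perm g.p = g.p ∧ M1.testBit g.p = true ∧
    (∀ j ∈ [0, 1, 2, 3, 4, 5, 6, 7], (L j).testBit g.p = g.v.testBit j) := by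
  have h : gdB g = true := List.all_eq_true.1 gd_all g hg
  rw [gdB, Bool.and_eq_true, Bool.and_eq_true, Bool.and_eq_true, Bool.and_eq_true, Bool.and_eq_true] at h
  obtain ⟨⟨h1, h2⟩, ⟨h3, h4⟩, h5, h6⟩ := h
  refine ⟨fun j hj p => ?_, fun p => ?_, Nat.eq_of_beq_eq_true h3, ?_, ?_, fun j hj => ?_⟩
  · have h7 := List.all_eq_true.1 h1 j hj
    have h8 := Nat.eq_of_beq_eq_true h7
    rw [← testBit_appWord (nw_ok _), h8, nxor, testBit_sel, tb_eq]
  · rw [← testBit_appWord (nw_ok _), Nat.eq_of_beq_eq_true h2]
  · rw [← Net.pt_eq sN_ok]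
    exact Nat.eq_of_beq_eq_true h4
  · rw [← tb_eq]; exact h5
  · have h7 := toNat_inj (List.all_eq_true.1 h6 j hj)
    rw [tb_eq, tb_eq] at h7
    exact h7

/-- the transposition of a generator -/
noncomputable abbrev tr (g : GD) : Spor.Fi22 := wd g.w

theorem gp_lt {g : GD} (hg : g ∈ gs) : g.p < 3510 := by
  have h := (gd_spec hg).2.2.1
  have h2 := (wd g.u • pg g.x).2
  rw [val_wd_smul] at h2
  change ptWord (nw g.u) (ptn g.x) < 3510 at h2
  rwa [h] at h2

theorem tr_eq {g : GD} (hg : g ∈ gs) : tr g = tp ⟨g.p, gp_lt hg⟩ := by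
  rw [tr, GD.w, tr_word]
  congr 1
  apply Subtype.ext
  rw [val_wd_smul]
  exact (gd_spec hg).2.2.1

theorem val_smul_tr (g : GD) (x : X) : (tr g • x).1 = wperm (nw g.w) x.1 := (wperm_eq g.w x).symm

theorem in_M1_tr {g : GD} (hg : g ∈ gs) (x : X) : In M1 (tr g • x) ↔ In M1 x := by
  show M1.testBit (tr g • x).1 = true ↔ M1.testBit x.1 = true
  rw [val_smul_tr, (gd_spec hg).2.1]

theorem lab_tr {g : GD} (hg : g ∈ gs) (x : X) :
    labV (tr g • x) = labV x + B (dec g.v) (labV x) • dec g.v := by
  funext i
  show cc ((L (ix i)).testBit (tr g • x).1) = cc _ + B (dec g.v) (labV x) * cc (g.v.testBit (ix i))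
  rw [val_smul_tr, (gd_spec hg).1 _ (ix_mem i), cc_xor, cc_and, pol_spec, mul_comm (cc (g.v.testBit (ix i)))]

theorem lab_gp {g : GD} (hg : g ∈ gs) : labV ⟨g.p, gp_lt hg⟩ = dec g.v :=
  lab_of_bits fun j hj => (gd_spec hg).2.2.2.2.2 j hj

theorem in_M1_gp {g : GD} (hg : g ∈ gs) : In M1 ⟨g.p, gp_lt hg⟩ := (gd_spec hg).2.2.2.2.1

theorem fx_of_M1 {x : X} (h : In M1 x) : In Fx x := by
  show Fx.testBit x.1 = true
  rw [Fx, nor, show M1.testBit x.1 = true from h]
  rfl

theorem tr_mem_Cs {g : GD} (hg : g ∈ gs) : tr g ∈ Cs := by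
  rw [tr_eq hg]
  exact tp_mem_Cs (fx_of_M1 (in_M1_gp hg))

/-! ### The table -/

theorem mem_of_mk {l : List (ℕ × ℕ)} {p : ℕ} (h : (mk l).testBit p = true) : ∃ n, (p, n) ∈ l := by
  induction l with
  | nil =>
    change (0 : ℕ).testBit p = true at h
    rw [Nat.zero_testBit] at h
    exact absurd h (by simp)
  | cons y l ih =>
    change (Nat.lor (Nat.pow 2 y.1) (mk l)).testBit p = true at h
    rw [nor, Bool.or_eq_true] at h
    rcases h with h | h
    · have h1 : (2 ^ y.1).testBit p = true := h
      rw [Nat.testBit_two_pow] at h1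
      have h2 : y.1 = p := by simpa using h1
      exact ⟨y.2, by rw [← h2]; exact List.mem_cons_self⟩
    · obtain ⟨n, hn⟩ := ih h
      exact ⟨n, List.mem_cons_of_mem _ hn⟩

theorem mem_tab {x : X} (h : In M1 x) : ∃ n, (x.1, n) ∈ tab := by
  apply mem_of_mk
  rw [Nat.eq_of_beq_eq_true mk_tab]
  exact h

theorem tab_spec {p n : ℕ} (h : (p, n) ∈ tab) :
    n < 256 ∧ qn n = true ∧ ∃ hp : p < 3510, In M1 ⟨p, hp⟩ ∧ labV ⟨p, hp⟩ = dec n := by
  have h1 := List.all_eq_true.1 tab_q _ h
  have h2 := List.all_eq_true.1 tab_ok _ h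
  rw [Bool.and_eq_true] at h1
  rw [Bool.and_eq_true, Bool.and_eq_true] at h2
  have h3 : n < 256 := by
    have := Nat.le_of_ble_eq_true h1.1
    omega
  have h4 : p < 3510 := by
    have := Nat.le_of_ble_eq_true h2.2.1
    change p ≤ 3509 at this
    omega
  refine ⟨h3, h1.2, h4, ?_, ?_⟩
  · show M1.testBit p = true
    rw [← tb_eq]
    exact h2.1
  · apply lab_of_bits
    intro j hj
    have h7 := toNat_inj (List.all_eq_true.1 h2.2.2 j hj)
    rw [tb_eq, tb_eq] at h7
    exact h7

theorem lab_q {x : X} (h : In M1 x) : q (labV x) = 1 := by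
  obtain ⟨n, hn⟩ := mem_tab h
  obtain ⟨_, h2, hp, _, h4⟩ := tab_spec hn
  have : labV x = dec n := h4
  rw [this, q_dec, h2]
  rfl

theorem lab_inj {x y : X} (hx : In M1 x) (hy : In M1 y) (h : labV x = labV y) : x = y := by
  obtain ⟨n, hn⟩ := mem_tab hx
  obtain ⟨m, hm⟩ := mem_tab hy
  obtain ⟨h1, _, _, _, h4⟩ := tab_spec hn
  obtain ⟨h1', _, _, _, h4'⟩ := tab_spec hm
  have e1 : labV x = dec n := h4
  have e2 : labV y = dec m := h4'
  rw [e1, e2] at h
  have hnm := dec_inj h1 h1' h
  have hnd : (tab.map Prod.snd).Nodup := tab_codes.imp (fun h => h.ne)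
  have := List.inj_on_of_nodup_map hnd hn hm hnm
  exact Subtype.ext (congrArg Prod.fst this)

theorem lab_surj {v : V} (hv : q v = 1) : ∃ x, In M1 x ∧ labV x = v := by
  obtain ⟨n, hn, rfl⟩ := dec_surj v
  have hq : qn n = true := by
    rw [q_dec] at hv
    cases h : qn n
    · rw [h] at hv
      exact absurd hv (by decide)
    · rfl
  have h1 := tab_surj ⟨n, hn⟩ hq
  rw [List.elem_iff, List.mem_map] at h1
  obtain ⟨⟨p, m⟩, hm, e⟩ := h1
  change m = n at e
  subst e
  obtain ⟨_, _, hp, h3, h4⟩ := tab_spec hm
  exact ⟨_, h3, h4⟩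

/-! ### Transitivity -/

/-- The group generated by the eight transpositions. -/
noncomputable def H1 : Subgroup Spor.Fi22 := Subgroup.closure {k | ∃ g ∈ gs, tr g = k}

theorem nws_mem {w : List Net} (hw : w ∈ nws gw) : ∃ g ∈ gs, w = nw g.w := by
  obtain ⟨v, hv, rfl⟩ := List.mem_map.1 hw
  obtain ⟨g, hg, rfl⟩ := List.mem_map.1 hv
  exact ⟨g, hg, rfl⟩

theorem nws_K {w : List Net} (hw : w ∈ nws gw) : wperm w ∈ H1.map φ := by
  obtain ⟨g, hg, rfl⟩ := nws_mem hw
  exact ⟨tr g, Subgroup.subset_closure ⟨g, hg, rfl⟩, φ_wd _⟩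

theorem trans_M1 {x : X} (h : In M1 x) : ∃ k ∈ H1, k • pg .d = x := by
  have h1 := Nat.eq_of_beq_eq_true sat_M1
  have h2 : M1.testBit x.1 = true := h
  rw [← h1] at h2
  obtain ⟨_, ⟨k, hk, rfl⟩, hk2⟩ := sat_point_spec (K := H1.map φ) (nws_ok gw) (fun w hw => nws_K hw) 6
    (p₀ := 16) h2
  exact ⟨k, hk, Subtype.ext hk2⟩

theorem trans_rest {x : X} (h : ¬ In Fx x) : ∃ k ∈ H1, k • x0 = x := by
  have h1 := Nat.eq_of_beq_eq_true sat_rest
  have h2 : (Nat.xor U Fx).testBit x.1 = true := by
    rw [nxor, testBit_U.2 x.2]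
    have : Fx.testBit x.1 = false := by
      cases h3 : Fx.testBit x.1
      · rfl
      · exact absurd h3 h
    rw [this]; rfl
  rw [← h1] at h2
  obtain ⟨_, ⟨k, hk, rfl⟩, hk2⟩ := sat_point_spec (K := H1.map φ) (nws_ok gw) (fun w hw => nws_K hw) 12
    (p₀ := 0) h2
  exact ⟨k, hk, Subtype.ext hk2⟩

theorem H1_le : H1 ≤ Cs := by
  rw [H1, Subgroup.closure_le]
  rintro _ ⟨g, hg, rfl⟩
  exact tr_mem_Cs hg

/-! ### Elements acting on the block as isometries -/

/-- `g` acts on the block as the isometry `A`. -/
structure Rel (g : Spor.Fi22) (A : O8) : Prop where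
  mem : g ∈ Cs
  blk : ∀ x, In M1 (g • x) ↔ In M1 x
  lab : ∀ x, In M1 x → labV (g • x) = (A : V ≃ₗ[ZMod 2] V) (labV x)

theorem Rel.one : Rel 1 1 where
  mem := one_mem _
  blk x := by rw [one_smul]
  lab x _ := by rw [one_smul]; rfl

theorem Rel.mul {g h : Spor.Fi22} {A C : O8} (h1 : Rel g A) (h2 : Rel h C) : Rel (g * h) (A * C) where
  mem := mul_mem h1.mem h2.mem
  blk x := by rw [mul_smul, h1.blk, h2.blk]
  lab x hx := by
    rw [mul_smul, h1.lab _ ((h2.blk x).2 hx), h2.lab x hx]
    rfl

theorem Rel.inv {g : Spor.Fi22} {A : O8} (h1 : Rel g A) : Rel g⁻¹ A⁻¹ where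
  mem := inv_mem h1.mem
  blk x := by rw [← h1.blk, smul_inv_smul]
  lab x hx := by
    have h2 : In M1 (g⁻¹ • x) := by rw [← h1.blk, smul_inv_smul]; exact hx
    have h3 := h1.lab _ h2
    rw [smul_inv_smul] at h3
    rw [h3]
    exact ((A : V ≃ₗ[ZMod 2] V).symm_apply_apply _).symm

theorem qv {g : GD} (hg : g ∈ gs) : q (dec g.v) = 1 := by
  rw [← lab_gp hg]
  exact lab_q (in_M1_gp hg)

theorem rel_tr {g : GD} (hg : g ∈ gs) : Rel (tr g) (rf (dec g.v) (qv hg)) where
  mem := tr_mem_Cs hg
  blk := in_M1_tr hg
  lab x _ := by rw [lab_tr hg, rf_apply]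

theorem rel_H1 {k : Spor.Fi22} (hk : k ∈ H1) : ∃ A, Rel k A := by
  induction hk using Subgroup.closure_induction with
  | mem x hx =>
    obtain ⟨g, hg, rfl⟩ := hx
    exact ⟨_, rel_tr hg⟩
  | one => exact ⟨1, Rel.one⟩
  | mul x y _ _ hx hy =>
    obtain ⟨A, hA⟩ := hx
    obtain ⟨C, hC⟩ := hy
    exact ⟨_, hA.mul hC⟩
  | inv x _ hx =>
    obtain ⟨A, hA⟩ := hx
    exact ⟨_, hA.inv⟩

/-- the generator `d` -/
def gd : GD := ⟨[], .d, 16, 137⟩

theorem gd_mem : gd ∈ gs := List.mem_cons_self

theorem in_M1_d : In M1 (pg .d) := in_M1_gp gd_mem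

theorem lab_d : labV (pg .d) = dec 137 := lab_gp gd_mem

theorem tr_gd : tr gd = tp (pg .d) := tr_eq gd_mem

/-- The transposition of a point of the block acts as the reflection of its label. -/
theorem rel_tp {x : X} (hx : In M1 x) : Rel (tp x) (rf (labV x) (lab_q hx)) := by
  obtain ⟨k, hk, rfl⟩ := trans_M1 hx
  obtain ⟨A, hA⟩ := rel_H1 hk
  have h1 := (hA.mul (rel_tr gd_mem)).mul hA.inv
  rw [conj_rf, tr_gd, ← tp_smul] at h1
  have e : (A : V ≃ₗ[ZMod 2] V) (dec gd.v) = labV (k • pg .d) := by
    rw [hA.lab _ in_M1_d, lab_d]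
    rfl
  have e2 : rf ((A : V ≃ₗ[ZMod 2] V) (dec gd.v)) (by rw [e]; exact lab_q hx) = rf (labV (k • pg .d)) (lab_q hx) := by
    congr 1
  rw [e2] at h1
  exact h1

theorem exists_rel (A : O8) : ∃ g, Rel g A := by
  have hA : A ∈ Subgroup.closure {g : O8 | ∃ v, ∃ hv : q v = 1, g = rf v hv} := by rw [closure_rf]; trivial
  induction hA using Subgroup.closure_induction with
  | mem x hx =>
    obtain ⟨v, hv, rfl⟩ := hx
    obtain ⟨x, hx, rfl⟩ := lab_surj hv
    exact ⟨_, rel_tp hx⟩
  | one => exact ⟨1, Rel.one⟩
  | mul x y _ _ hx hy =>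
    obtain ⟨g, hg⟩ := hx
    obtain ⟨k, hk⟩ := hy
    exact ⟨_, hg.mul hk⟩
  | inv x _ hx =>
    obtain ⟨g, hg⟩ := hx
    exact ⟨_, hg.inv⟩

/-- Commuting in the block is orthogonality of the labels. -/
theorem comm_iff {x y : X} (hx : In M1 x) (hy : In M1 y) :
    tp x • y = y ↔ B (labV x) (labV y) = 0 := by
  have h := (rel_tp hx).lab y hy
  rw [rf_apply] at h
  constructor
  · intro h1
    rw [h1] at h
    rcases Cfsg.Agent.StdO8.Model.z2 (B (labV x) (labV y)) with h2 | h2
    · exact h2
    · rw [h2, one_smul] at h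
      have h3 : labV x = 0 := left_eq_add.1 h
      have h4 := lab_q hx
      rw [h3, Cfsg.Agent.StdO8.Model.q_zero] at h4
      exact absurd h4 (by decide)
  · intro h1
    rw [h1, zero_smul, add_zero] at h
    exact lab_inj (((rel_tp hx).blk y).2 hy) hy h

end Cfsg.Agent.H836.EightBlk
end

-- part: H836/EightCent
section
/-!
# Only the identity of `Fi22` fixes the 120 points of the block (helper836)
-/

set_option autoImplicit false
set_option maxRecDepth 100000

namespace Cfsg.Agent.H836.EightCent

open Cfsg Cfsg.Spor Cfsg.Spor.Fi22 Cfsg.Agent.Lib.PermNet Cfsg.Agent.Lib.PermNetOrbit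
open Cfsg.Agent.Fischer.Fi22PtsRep Cfsg.Agent.Fischer.Fi22Order
open Cfsg.Agent.R01.AlphaIso (flip)
open Cfsg.Agent.H833.Flip
open Cfsg.Agent.H836.EightData Cfsg.Agent.H836.EightChk Cfsg.Agent.H836.EightPts Cfsg.Agent.H836.EightBlk

theorem six_zero : tb (mvAll six) 0 = false := by decide +kernel

/-- the generators outside the fixed points -/
theorem gen_rest : [Gen.a, .b, .c, .e, .f, .g].all (fun s => Nat.beq (tb Fx (ptn s)).toNat 0) = true := by
  decide +kernel

theorem cdh_rest : Nat.beq (tb Fx (ptWord (nw [.c, .d]) 43)).toNat 0 = true := by decide +kernel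

/-- the word of one of the six -/
def sw (b : List Gen × Gen × ℕ) : List Gen := b.1 ++ (b.2.1 :: b.1.reverse)

theorem mvAll_false {l : List (List Gen × Gen × ℕ)} {p : ℕ} :
    (mvAll l).testBit p = false ↔ ∀ b ∈ l, (mv (nw (sw b))).testBit p = false := by
  induction l with
  | nil =>
    constructor
    · intro _ b hb
      exact absurd hb (by simp)
    · intro _
      exact Nat.zero_testBit p
  | cons b l ih =>
    rw [mvAll_cons, Nat.testBit_or, Bool.or_eq_false_iff, ih, List.forall_mem_cons]
    rfl

theorem lt12 (x : X) : x.1 < 2 ^ 12 := lt_trans x.2 (by norm_num)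

theorem mv_false (w : List Gen) (x : X) : (mv (nw w)).testBit x.1 = false ↔ wd w • x = x := by
  have h := testBit_mv (nw_ok w) (lt12 x)
  rw [wperm_eq] at h
  rw [Subtype.ext_iff]
  constructor
  · intro h1
    by_contra hcon
    rw [h.2 hcon] at h1
    exact absurd h1 (by simp)
  · intro h1
    cases h2 : (mv (nw w)).testBit x.1
    · rfl
    · exact absurd h1 (h.1 h2)

theorem not_of_beq {b : Bool} (h : Nat.beq b.toNat 0 = true) : b = false := by
  cases b
  · rfl
  · exact absurd h (by decide)

theorem cent_block {g : Spor.Fi22} (h : ∀ x, In M1 x → g • x = x) : g = 1 := by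
  have hc : ∀ x, In M1 x → g * tp x = tp x * g := fun x hx => (smul_eq_iff g x).1 (h x hx)
  have hH : ∀ k ∈ H1, g * k = k * g := by
    intro k hk
    induction hk using Subgroup.closure_induction with
    | mem x hx =>
      obtain ⟨g', hg', rfl⟩ := hx
      rw [tr_eq hg']
      exact hc _ (in_M1_gp hg')
    | one => simp
    | mul x y _ _ hx hy => rw [← mul_assoc, hx, mul_assoc, hy, mul_assoc]
    | inv x _ hx =>
      calc g * x⁻¹ = x⁻¹ * (x * g) * x⁻¹ := by group
        _ = x⁻¹ * (g * x) * x⁻¹ := by rw [hx]
        _ = x⁻¹ * g := by group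
  -- the image of the base point
  have hx0 : g • x0 = x0 ∨ g • x0 = pg .g := by
    have h0 : ∀ b ∈ six, (mv (nw (sw b))).testBit x0.1 = false := by
      rw [← mvAll_false]
      have := six_zero
      rw [tb_eq] at this
      exact this
    have h1 : (mvAll six).testBit (g • x0).1 = false := by
      rw [mvAll_false]
      intro b hb
      have h2 := (mv_false _ _).1 (h0 b hb)
      rw [mv_false]
      have h3 := List.all_eq_true.1 six_all b hb
      rw [sixB, Bool.and_eq_true] at h3
      have h4 : In M1 (wd b.1 • pg b.2.1) := by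
        show M1.testBit (wd b.1 • pg b.2.1).1 = true
        rw [val_wd_smul]
        have h5 : ptWord (nw b.1) (pg b.2.1).1 = b.2.2 := Nat.eq_of_beq_eq_true h3.1
        rw [h5, ← tb_eq]
        exact h3.2
      have h6 : wd (sw b) = tp (wd b.1 • pg b.2.1) := tr_word _ _
      rw [h6] at h2 ⊢
      rw [smul_smul, ← hc _ h4, mul_smul, h2]
    have h7 := Nat.eq_of_beq_eq_true six_sep
    have h8 := testBit_U.2 (g • x0).2
    rw [← h7, nor, nor, h1, Bool.false_or, Bool.or_eq_true] at h8
    rcases h8 with h8 | h8
    · left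
      have h9 : (2 ^ 0).testBit (g • x0).1 = true := h8
      rw [Nat.testBit_two_pow] at h9
      have h10 : 0 = (g • x0).1 := by simpa using h9
      exact Subtype.ext h10.symm
    · right
      have h9 : (2 ^ 154).testBit (g • x0).1 = true := h8
      rw [Nat.testBit_two_pow] at h9
      have h10 : 154 = (g • x0).1 := by simpa using h9
      exact Subtype.ext h10.symm
  have key : ∀ (α : MulAut Spor.Fi22) (β : X → X), (∀ x, α (tp x) = tp (β x)) →
      (∀ x, In M1 x → β x = x) → (∀ x, ¬ In Fx x → g • x = β x) → MulAut.conj g = α := by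
    intro α β hα hβ hr
    have h1 : ∀ x, (In M1 x ∨ ¬ In Fx x) → MulAut.conj g (tp x) = α (tp x) := by
      intro x hx
      rw [MulAut.conj_apply, ← tp_smul, hα]
      rcases hx with hx | hx
      · rw [h x hx, hβ x hx]
      · rw [hr x hx]
    have hrest : ∀ s ∈ [Gen.a, .b, .c, .e, .f, .g], MulAut.conj g (gen s) = α (gen s) := by
      intro s hs
      rw [← tp_pg]
      apply h1
      right
      intro h2
      have h3 := not_of_beq (List.all_eq_true.1 gen_rest s hs)
      rw [tb_eq] at h3
      have h4 : Fx.testBit (ptn s) = true := h2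
      rw [h3] at h4
      exact absurd h4 (by simp)
    have hd : MulAut.conj g (gen .d) = α (gen .d) := by
      rw [← tp_pg]
      exact h1 _ (Or.inl in_M1_d)
    have hi : MulAut.conj g (gen .i) = α (gen .i) := by
      rw [← tp_pg]
      exact h1 _ (Or.inl (in_M1_gp (g := ⟨[], .i, 92, 136⟩) (by simp [gs])))
    have hh : MulAut.conj g (gen .h) = α (gen .h) := by
      have h2 : MulAut.conj g (tp (wd [.c, .d] • pg .h)) = α (tp (wd [.c, .d] • pg .h)) := by
        apply h1
        right
        intro h2
        have h3 := not_of_beq cdh_rest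
        rw [tb_eq] at h3
        have h4 : Fx.testBit (wd [.c, .d] • pg .h).1 = true := h2
        rw [val_wd_smul] at h4
        change Fx.testBit (ptWord (nw [.c, .d]) 43) = true at h4
        rw [h3] at h4
        exact absurd h4 (by simp)
      have h5 : MulAut.conj g (wd [.c, .d]) = α (wd [.c, .d]) := by
        rw [wd_cons, wd_cons, wd_nil, mul_one, map_mul, map_mul, hd, hrest .c (by simp)]
      rw [tp_smul, tp_pg, map_mul, map_mul, map_mul, map_mul, map_inv, map_inv, h5] at h2
      exact mul_left_cancel (mul_right_cancel h2)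
    have hall : ∀ s, MulAut.conj g (gen s) = α (gen s) := by
      intro s
      cases s
      · exact hrest _ (by simp)
      · exact hrest _ (by simp)
      · exact hrest _ (by simp)
      · exact hd
      · exact hrest _ (by simp)
      · exact hrest _ (by simp)
      · exact hrest _ (by simp)
      · exact hh
      · exact hi
    ext k : 1
    have hk : k ∈ Subgroup.closure (Set.range gen) := by rw [closure_gen]; trivial
    induction hk using Subgroup.closure_induction with
    | mem x hx =>
      obtain ⟨s, rfl⟩ := hx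
      exact hall s
    | one => rw [map_one, map_one]
    | mul x y _ _ hx hy => rw [map_mul, map_mul, hx, hy]
    | inv x _ hx => rw [map_inv, map_inv, hx]
  rcases hx0 with h0 | h0
  · have h1 : MulAut.conj g = 1 := by
      apply key 1 id (fun x => rfl) (fun x _ => rfl)
      intro x hx
      obtain ⟨k, hk, rfl⟩ := trans_rest hx
      rw [smul_smul, hH k hk, mul_smul, h0]
      rfl
    apply eq_one_of_fix
    intro p hp
    have h2 : g • (⟨p, hp⟩ : X) = ⟨p, hp⟩ := by
      apply tp_inj
      rw [tp_smul, ← MulAut.conj_apply, h1]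
      rfl
    exact congrArg Subtype.val h2
  · exfalso
    apply flipA_ne_conj g
    symm
    apply key flipA fl flipA_tp
    · intro x hx
      exact (fl_eq_iff x).2 (fx_of_M1 hx)
    · intro x hx
      obtain ⟨k, hk, rfl⟩ := trans_rest hx
      rw [smul_smul, hH k hk, mul_smul, h0, ← fl_x0, fl_smul_Cs (H1_le hk)]

end Cfsg.Agent.H836.EightCent
end

private theorem dce_fbef5f249e36 : _root_.True := by
  try have : _root_.True := by simp only [_root_.Cfsg.Agent.H836.EightBlk.H1.eq_1]
  try have : _root_.True := by simp only [_root_.Cfsg.Agent.H836.EightChk.gs.eq_1]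
  try have : _root_.True := by simp only [_root_.Cfsg.Agent.H836.EightChk.sixB.eq_1]
  try have : _root_.True := by simp only [_root_.Cfsg.Agent.H836.EightChk.mv.eq_1]
  try have : _root_.True := by simp only [_root_.Cfsg.Agent.H836.EightChk.GD.w.eq_1]
  try have : _root_.True := by simp only [_root_.Cfsg.Agent.H836.EightChk.gdB.eq_1]
  try have : _root_.True := by simp only [_root_.Cfsg.Agent.H836.EightChk.pol.eq_1]
  try have : _root_.True := by simp only [_root_.Cfsg.Agent.H836.EightChk.Fx.eq_1]
  try have : _root_.True := by simp only [_root_.Cfsg.Agent.H836.EightBlk.tr.eq_1]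
  exact _root_.True.intro
end

-- part: H836/EightMain
section
prune_inst 0x104000402200000018058001002000040000900000000141400240020861010001010004401200010222602000000000980049000000000000820040040020840000001000000020000100a882000000000000000000000000000000000000000000000
set_option linter.all false
open scoped Cfsg.Agent.FastGrp

/-!
# The fixed points of the flip of `Fi22` are `Aut Ω₈⁺(2)` (helper836)
-/

set_option autoImplicit false
set_option maxRecDepth 100000

namespace Cfsg.Agent.H836.EightMain

open Cfsg Cfsg.Spor Cfsg.Spor.Fi22 Cfsg.Agent.Lib.PermNet Cfsg.Agent.Lib.PermNetOrbit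
open Cfsg.Agent.Fischer.Fi22PtsRep Cfsg.Agent.Fischer.Fi22Order
open Cfsg.Agent.R01.AlphaIso (flip)
open Cfsg.Agent.H833.Flip
open Cfsg.Agent.H836.EightData Cfsg.Agent.H836.EightChk Cfsg.Agent.H836.EightPts Cfsg.Agent.H836.EightBlk
open Cfsg.Agent.H836.EightCent
open Cfsg.Agent.StdO8.Model (V q O8 Om B z2)
open Cfsg.Agent.StdO8.Code (dec qn Bn cc q_dec B_dec dec_surj)
open Cfsg.Agent.H836.EightO

/-! ### The three blocks -/

/-- Representatives moving the first block to the others. -/
noncomputable def r : Fin 3 → Spor.Fi22 := ![1, gen .h, gen .d * gen .h]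

theorem h_mem : gen .h ∈ Cs := by
  rw [mem_Cs, flipA_gen]
  rfl

theorem d_mem : gen .d ∈ Cs := by
  rw [mem_Cs, flipA_gen]
  rfl

theorem r_mem (i : Fin 3) : r i ∈ Cs := by
  fin_cases i
  · exact one_mem _
  · exact h_mem
  · exact mul_mem d_mem h_mem

/-- membership in a block -/
def Bk (i : Fin 3) (x : X) : Prop := In M1 ((r i)⁻¹ • x)

theorem Bk_zero (x : X) : Bk 0 x ↔ In M1 x := by
  show In M1 ((1 : Spor.Fi22)⁻¹ • x) ↔ In M1 x
  rw [inv_one, one_smul]

theorem Bk_smul_r (i : Fin 3) (x : X) : Bk i (r i • x) ↔ In M1 x := by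
  rw [Bk, inv_smul_smul]

theorem testBit_M3 (x : X) : M3.testBit x.1 = M1.testBit (gen .h • x).1 := by
  rw [M3, testBit_appWord (nw_ok _), wperm_eq]
  simp [wd]

theorem testBit_M2 (x : X) : M2.testBit x.1 = M3.testBit (gen .d • x).1 := by
  rw [M2, testBit_appWord (nw_ok _), wperm_eq]
  simp [wd]

theorem Bk_one (x : X) : Bk 1 x ↔ In M3 x := by
  show M1.testBit ((gen .h)⁻¹ • x).1 = true ↔ M3.testBit x.1 = true
  rw [testBit_M3, gen_inv]

theorem Bk_two (x : X) : Bk 2 x ↔ In M2 x := by
  show M1.testBit ((gen .d * gen .h)⁻¹ • x).1 = true ↔ M2.testBit x.1 = true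
  rw [testBit_M2, testBit_M3, mul_inv_rev, gen_inv, gen_inv, mul_smul]

theorem in_Fx_iff (x : X) : In Fx x ↔ ∃ i, Bk i x := by
  have h : In Fx x ↔ In M1 x ∨ In M2 x ∨ In M3 x := by
    show Fx.testBit x.1 = true ↔ M1.testBit x.1 = true ∨ M2.testBit x.1 = true ∨ M3.testBit x.1 = true
    rw [Fx, nor, nor, Bool.or_eq_true, Bool.or_eq_true]
  rw [h, ← Bk_zero, ← Bk_one, ← Bk_two]
  constructor
  · rintro (h | h | h)
    · exact ⟨0, h⟩
    · exact ⟨2, h⟩
    · exact ⟨1, h⟩
  · rintro ⟨i, hi⟩
    fin_cases i
    · exact Or.inl hi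
    · exact Or.inr (Or.inr hi)
    · exact Or.inr (Or.inl hi)

theorem disj_of {a b : ℕ} (h : Nat.beq (Nat.land a b) 0 = true) (x : X) (ha : In a x) (hb : In b x) : False := by
  have h1 := Nat.eq_of_beq_eq_true h
  have h2 : (Nat.land a b).testBit x.1 = false := by rw [h1]; exact Nat.zero_testBit _
  rw [nand, show a.testBit x.1 = true from ha, show b.testBit x.1 = true from hb] at h2
  exact absurd h2 (by simp)

theorem Bk_unique {i j : Fin 3} {x : X} (hi : Bk i x) (hj : Bk j x) : i = j := by
  have h12 := fun h1 h2 => disj_of disj12 x h1 h2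
  have h13 := fun h1 h2 => disj_of disj13 x h1 h2
  have h23 := fun h1 h2 => disj_of disj23 x h1 h2
  rw [← Bk_zero, ← Bk_two] at h12
  rw [← Bk_zero, ← Bk_one] at h13
  rw [← Bk_two, ← Bk_one] at h23
  fin_cases i <;> fin_cases j
  · rfl
  · exact (h13 hi hj).elim
  · exact (h12 hi hj).elim
  · exact (h13 hj hi).elim
  · rfl
  · exact (h23 hj hi).elim
  · exact (h12 hj hi).elim
  · exact (h23 hi hj).elim
  · rfl

/-! ### Commuting fixed transpositions lie in one block -/

theorem comm_smul (g : Spor.Fi22) (x y : X) : tp (g • x) • (g • y) = g • y ↔ tp x • y = y := by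
  rw [tp_smul, smul_smul, inv_mul_cancel_right, mul_smul]
  exact ⟨fun h => smul_left_cancel g h, fun h => by rw [h]⟩

theorem in_M1_of_comm_d {w : X} (hw : In Fx w) (h : tp (pg .d) • w = w) : In M1 w := by
  have h1 := Nat.eq_of_beq_eq_true comm_d
  have h2 : (mv (nw [.d])).testBit w.1 = false := by
    rw [mv_false]
    rw [tp_pg] at h
    simpa [wd] using h
  have h3 : (Nat.lor (Nat.lor (mv (nw [.d])) M1) Fx).testBit w.1 = true := by
    rw [nor, show Fx.testBit w.1 = true from hw, Bool.or_true]
  rw [h1, nor, h2, Bool.false_or] at h3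
  exact h3

theorem in_M1_of_comm {x w : X} (hx : In M1 x) (hw : In Fx w) (h : tp x • w = w) : In M1 w := by
  obtain ⟨k, hk, rfl⟩ := trans_M1 hx
  obtain ⟨A, hA⟩ := rel_H1 hk
  have h1 : In M1 (k⁻¹ • w) := by
    apply in_M1_of_comm_d
    · rw [in_Fx_smul (inv_mem hA.mem)]
      exact hw
    · have h2 := comm_smul k (pg .d) (k⁻¹ • w)
      rw [smul_inv_smul] at h2
      exact h2.1 h
  rw [← hA.blk, smul_inv_smul] at h1
  exact h1

/-- Two points are joined. -/
def Adj (x y : X) : Prop := ∃ w, In Fx w ∧ tp w • x = x ∧ tp w • y = y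

theorem Adj.smul {g : Spor.Fi22} (hg : g ∈ Cs) {x y : X} (h : Adj x y) : Adj (g • x) (g • y) := by
  obtain ⟨w, hw, h1, h2⟩ := h
  exact ⟨g • w, (in_Fx_smul hg w).2 hw, (comm_smul _ _ _).2 h1, (comm_smul _ _ _).2 h2⟩

theorem adj_d {y : X} (hy : In M1 y) : Adj (pg .d) y := by
  obtain ⟨n, hn, h, _⟩ := exists_code y
  have hq : qn n = true := by
    have h1 := lab_q hy
    rw [h, q_dec] at h1
    cases h2 : qn n
    · rw [h2] at h1
      exact absurd h1 (by decide)
    · rfl
  obtain ⟨k, hk, h1, h2⟩ := nbr ⟨n, hn⟩ hq
  obtain ⟨w, hw, hwl⟩ := lab_surj (v := dec k.1) (by rw [q_dec, hk]; rfl)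
  refine ⟨w, fx_of_M1 hw, ?_, ?_⟩
  · rw [tp_comm', comm_iff in_M1_d hw, lab_d, hwl, B_dec, h1]
    rfl
  · rw [tp_comm', comm_iff hy hw, h, hwl, B_dec]
    rw [h2]
    rfl

theorem adj_M1 {x y : X} (hx : In M1 x) (hy : In M1 y) : Adj x y := by
  obtain ⟨k, hk, rfl⟩ := trans_M1 hx
  obtain ⟨A, hA⟩ := rel_H1 hk
  have h1 := (adj_d (y := k⁻¹ • y) (by rw [← hA.blk, smul_inv_smul]; exact hy)).smul hA.mem
  rwa [smul_inv_smul] at h1

theorem adj_iff {x y : X} (hx : In Fx x) (hy : In Fx y) : Adj x y ↔ ∃ i, Bk i x ∧ Bk i y := by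
  constructor
  · intro h
    obtain ⟨i, hi⟩ := (in_Fx_iff x).1 hx
    refine ⟨i, hi, ?_⟩
    obtain ⟨w, hw, h1, h2⟩ := h.smul (inv_mem (r_mem i))
    rw [tp_comm'] at h1
    have h3 := in_M1_of_comm hi hw h1
    exact in_M1_of_comm h3 ((in_Fx_smul (inv_mem (r_mem i)) y).2 hy) h2
  · rintro ⟨i, h1, h2⟩
    have h3 := (adj_M1 h1 h2).smul (r_mem i)
    rwa [smul_inv_smul, smul_inv_smul] at h3

/-! ### The action on the blocks -/

theorem exists_bi {g : Spor.Fi22} (hg : g ∈ Cs) (i : Fin 3) : ∃ j, ∀ x, Bk i x → Bk j (g • x) := by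
  have h0 : Bk i (r i • pg .d) := (Bk_smul_r i _).2 in_M1_d
  have hf : ∀ x, Bk i x → In Fx x := fun x hx => (in_Fx_iff x).2 ⟨i, hx⟩
  obtain ⟨j, hj⟩ := (in_Fx_iff _).1 ((in_Fx_smul hg _).2 (hf _ h0))
  refine ⟨j, fun x hx => ?_⟩
  have h1 := ((adj_iff (hf _ h0) (hf _ hx)).2 ⟨i, h0, hx⟩).smul hg
  obtain ⟨j', h2, h3⟩ := (adj_iff ((in_Fx_smul hg _).2 (hf _ h0)) ((in_Fx_smul hg _).2 (hf _ hx))).1 h1
  rwa [Bk_unique hj h2]

/-- The block permutation. -/
noncomputable def bi (g : Cs) (i : Fin 3) : Fin 3 := (exists_bi g.2 i).choose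

theorem bi_spec (g : Cs) {i : Fin 3} {x : X} (h : Bk i x) : Bk (bi g i) ((g : Spor.Fi22) • x) :=
  (exists_bi g.2 i).choose_spec x h

theorem bi_eq (g : Cs) {i j : Fin 3} {x : X} (h : Bk i x) (h' : Bk j ((g : Spor.Fi22) • x)) : bi g i = j :=
  Bk_unique (bi_spec g h) h'

theorem exists_Bk (i : Fin 3) : ∃ x, Bk i x := ⟨r i • pg .d, (Bk_smul_r i _).2 in_M1_d⟩

/-- The action on the blocks. -/
@[instance_reducible] noncomputable def act : MulAction Cs (Fin 3) where
  smul := bi
  one_smul i := by
    obtain ⟨x, hx⟩ := exists_Bk i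
    exact bi_eq 1 hx (by show Bk i ((1 : Spor.Fi22) • x); rwa [one_smul])
  mul_smul g h i := by
    obtain ⟨x, hx⟩ := exists_Bk i
    refine bi_eq (g * h) hx ?_
    show Bk (bi g (bi h i)) (((g : Spor.Fi22) * (h : Spor.Fi22)) • x)
    rw [mul_smul]
    exact bi_spec g (bi_spec h hx)

/-- The action on the blocks as a homomorphism. -/
noncomputable def ρ : Cs →* Equiv.Perm (Fin 3) := @MulAction.toPermHom Cs (Fin 3) _ act

theorem ρ_spec (g : Cs) {i : Fin 3} {x : X} (h : Bk i x) : Bk (ρ g i) ((g : Spor.Fi22) • x) := bi_spec g h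

theorem ρ_eq (g : Cs) {i j : Fin 3} {x : X} (h : Bk i x) (h' : Bk j ((g : Spor.Fi22) • x)) : ρ g i = j :=
  bi_eq g h h'

/-! ### The stabiliser of the first block -/

theorem blk_of_zero {g : Cs} (h : ρ g 0 = 0) (x : X) : In M1 ((g : Spor.Fi22) • x) ↔ In M1 x := by
  constructor
  · intro h1
    have h2 : ρ g⁻¹ 0 = 0 := by
      rw [map_inv, Equiv.Perm.inv_eq_iff_eq, h]
    have h3 := ρ_spec g⁻¹ ((Bk_zero _).2 h1)
    rw [h2, Bk_zero] at h3
    change In M1 ((g : Spor.Fi22)⁻¹ • (g : Spor.Fi22) • x) at h3
    rwa [inv_smul_smul] at h3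
  · intro h1
    have h3 := ρ_spec g ((Bk_zero _).2 h1)
    rwa [h, Bk_zero] at h3

theorem rel_zero {g : Spor.Fi22} {A : O8} (h : Rel g A) : ρ ⟨g, h.mem⟩ 0 = 0 :=
  ρ_eq _ ((Bk_zero _).2 in_M1_d) ((Bk_zero _).2 ((h.blk _).2 in_M1_d))

theorem rel_of_zero {g : Cs} (h : ρ g 0 = 0) : ∃ A, Rel g A := by
  classical
  let pt : V → X := fun v => if hv : q v = 1 then (lab_surj hv).choose else pg .d
  have hpt : ∀ v, q v = 1 → In M1 (pt v) ∧ labV (pt v) = v := by
    intro v hv
    have h1 : pt v = (lab_surj hv).choose := dif_pos hv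
    rw [h1]
    exact (lab_surj hv).choose_spec
  have hb := blk_of_zero h
  obtain ⟨A, hA⟩ := rigid (fun v => labV ((g : Spor.Fi22) • pt v))
    (fun v hv => lab_q ((hb _).2 (hpt v hv).1))
    (fun u v hu hv => by
      have h1 := comm_iff ((hb _).2 (hpt u hu).1) ((hb _).2 (hpt v hv).1)
      have h2 := comm_iff (hpt u hu).1 (hpt v hv).1
      rw [comm_smul, h2, (hpt u hu).2, (hpt v hv).2] at h1
      rcases z2 (B u v) with h3 | h3
      · rw [h3, ← h1, h3]
      · rw [h3]
        refine (z2 _).resolve_left fun h4 => ?_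
        rw [← h1, h3] at h4
        exact one_ne_zero h4)
  refine ⟨A, g.2, hb, fun x hx => ?_⟩
  have h1 := hA (labV x) (lab_q hx)
  have h2 := hpt (labV x) (lab_q hx)
  have h3 : pt (labV x) = x := lab_inj h2.1 hx h2.2
  rw [← h1, h3]

theorem rel_left {g g' : Spor.Fi22} {A : O8} (h : Rel g A) (h' : Rel g' A) : g = g' := by
  have h1 : g⁻¹ * g' = 1 := by
    apply cent_block
    intro x hx
    have h2 : g • x = g' • x := by
      apply lab_inj ((h.blk x).2 hx) ((h'.blk x).2 hx)
      rw [h.lab x hx, h'.lab x hx]
    rw [mul_smul, ← h2, inv_smul_smul]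
  exact inv_mul_eq_one.1 h1

theorem rel_right {g : Spor.Fi22} {A C : O8} (h : Rel g A) (h' : Rel g C) : A = C := by
  apply eq_of_ns
  intro v hv
  obtain ⟨x, hx, rfl⟩ := lab_surj hv
  rw [← h.lab x hx, h'.lab x hx]

/-- The element acting on the block as a given isometry. -/
noncomputable def θ : O8 →* Cs where
  toFun A := ⟨(exists_rel A).choose, (exists_rel A).choose_spec.mem⟩
  map_one' := Subtype.ext (rel_left (exists_rel 1).choose_spec Rel.one)
  map_mul' A C := Subtype.ext (rel_left (exists_rel (A * C)).choose_spec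
    ((exists_rel A).choose_spec.mul (exists_rel C).choose_spec))

theorem rel_θ (A : O8) : Rel (θ A) A := (exists_rel A).choose_spec

theorem θ_eq {g : Cs} {A : O8} (h : Rel g A) : θ A = g := Subtype.ext (rel_left (rel_θ A) h)

theorem θ_injective : Function.Injective θ := by
  intro A C h
  have h1 := rel_θ A
  rw [h] at h1
  exact rel_right h1 (rel_θ C)

theorem θ_zero (A : O8) : ρ (θ A) 0 = 0 := rel_zero (rel_θ A)

theorem exists_θ {g : Cs} (h : ρ g 0 = 0) : ∃ A, θ A = g := by
  obtain ⟨A, hA⟩ := rel_of_zero h
  exact ⟨A, θ_eq hA⟩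

/-! ### The kernel on the blocks -/

theorem perm3 : ∀ a b : Equiv.Perm (Fin 3), a 0 = 0 → b 0 = 0 → a ≠ 1 → b ≠ 1 → a * b = 1 := by decide

theorem ρ_d : ρ ⟨gen .d, d_mem⟩ 1 = 2 := by
  have h0 : Bk 1 (r 1 • pg .d) := (Bk_smul_r 1 _).2 in_M1_d
  refine ρ_eq _ h0 ?_
  have h1 : Bk 2 (r 2 • pg .d) := (Bk_smul_r 2 _).2 in_M1_d
  have e : r 2 • pg .d = (gen .d : Spor.Fi22) • r 1 • pg .d := by
    show (gen .d * gen .h) • pg .d = gen .d • gen .h • pg .d
    rw [mul_smul]
  rw [e] at h1
  exact h1

theorem ker_comap : (ρ.ker).comap θ = commutator O8 := by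
  apply eq_comm_of_two
  · intro A C hA hC
    rw [Subgroup.mem_comap, MonoidHom.mem_ker] at hA hC ⊢
    rw [map_mul, map_mul]
    exact perm3 _ _ (θ_zero A) (θ_zero C) hA hC
  · intro htop
    have h1 : rf (labV (pg .d)) (lab_q in_M1_d) ∈ (ρ.ker).comap θ := by rw [htop]; trivial
    rw [Subgroup.mem_comap, MonoidHom.mem_ker] at h1
    have h2 : θ (rf (labV (pg .d)) (lab_q in_M1_d)) = ⟨gen .d, d_mem⟩ := by
      apply θ_eq
      have := rel_tp in_M1_d
      rw [tp_pg] at this
      exact this
    rw [h2] at h1
    have h3 := ρ_d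
    rw [h1] at h3
    exact absurd h3 (by decide)

/-- The kernel on the blocks. -/
noncomputable abbrev K0 : Subgroup Cs := ρ.ker

theorem map_θ : (commutator O8).map θ = K0 := by
  rw [← ker_comap]
  ext g
  constructor
  · rintro ⟨A, hA, rfl⟩
    exact hA
  · intro hg
    have h1 : ρ g 0 = 0 := by rw [MonoidHom.mem_ker.1 hg]; rfl
    obtain ⟨A, rfl⟩ := exists_θ h1
    exact ⟨A, hg, rfl⟩

theorem exists_K0 : Nonempty (K0 ≃* Om) := by
  have e1 : commutator O8 ≃* K0 :=
    ((commutator O8).equivMapOfInjective θ θ_injective).trans (MulEquiv.subgroupCongr map_θ)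
  have e2 : commutator O8 ≃* Om :=
    ((commutator O8).equivMapOfInjective O8.subtype O8.subtype_injective).trans (MulEquiv.subgroupCongr map_comm)
  exact ⟨e1.symm.trans e2⟩

/-! ### Centralising the kernel -/

/-- the two generators of the word `w3` -/
def g17 : GD := ⟨[.e, .d], .c, 17, 138⟩
def g104 : GD := ⟨[.h, .i, .d, .h, .f, .e, .d, .c], .b, 104, 168⟩

theorem g17_mem : g17 ∈ gs := by simp [gs, g17]
theorem g104_mem : g104 ∈ gs := by simp [gs, g104]

theorem wd_w3 : wd w3 = tr g17 * tr g104 := by
  rw [tr, tr, ← wd_append]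
  rfl

theorem rel_w3 : Rel (wd w3) (rf (dec g17.v) (qv g17_mem) * rf (dec g104.v) (qv g104_mem)) := by
  rw [wd_w3]
  exact (rel_tr g17_mem).mul (rel_tr g104_mem)

theorem w3_mem_K0 : (⟨wd w3, rel_w3.mem⟩ : Cs) ∈ K0 := by
  rw [← map_θ]
  exact ⟨_, rf_mul_rf _ _ _ _, θ_eq rel_w3⟩

theorem w3_d : wd w3 • pg .d = pg .d := by
  apply lab_inj ((rel_w3.blk _).2 in_M1_d) in_M1_d
  rw [rel_w3.lab _ in_M1_d, lab_d]
  show (rf (dec g17.v) (qv g17_mem) : V ≃ₗ[ZMod 2] V) ((rf (dec g104.v) (qv g104_mem) : V ≃ₗ[ZMod 2] V) (dec 137)) =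
    dec 137
  have h1 : B (dec g104.v) (dec 137) = 0 := by
    rw [B_dec]; rfl
  have h2 : B (dec g17.v) (dec 137) = 0 := by
    rw [B_dec]; rfl
  rw [rf_apply (dec g104.v), h1, zero_smul, add_zero, rf_apply, h2, zero_smul, add_zero]

theorem in_M1_of_w3 {y : X} (hy : In Fx y) (h : wd w3 • y = y) : In M1 y := by
  have h1 := (mv_false w3 y).2 h
  have h2 := Nat.eq_of_beq_eq_true w3_mv
  rw [← h2, nor, nor, Bool.or_eq_false_iff, Bool.or_eq_false_iff] at h1
  have h3 : Fx.testBit y.1 = true := hy
  rw [Fx, nor, nor, h1.2.1, h1.2.2, Bool.or_false, Bool.or_false] at h3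
  exact h3

theorem cent_K0 {g : Cs} (h : ∀ k ∈ K0, g * k = k * g) : g = 1 := by
  have h1 : wd w3 • (g : Spor.Fi22) • pg .d = (g : Spor.Fi22) • pg .d := by
    have h2 := congrArg Subtype.val (h _ w3_mem_K0)
    change (g : Spor.Fi22) * wd w3 = wd w3 * (g : Spor.Fi22) at h2
    rw [smul_smul, ← h2, mul_smul, w3_d]
  have h3 : In M1 ((g : Spor.Fi22) • pg .d) :=
    in_M1_of_w3 ((in_Fx_smul g.2 _).2 (fx_of_M1 in_M1_d)) h1
  have h4 : ρ g 0 = 0 := ρ_eq g ((Bk_zero _).2 in_M1_d) ((Bk_zero _).2 h3)
  obtain ⟨A, rfl⟩ := exists_θ h4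
  have h5 : A = 1 := by
    apply centralizer_comm
    intro C hC
    apply θ_injective
    rw [map_mul, map_mul]
    apply h
    rw [← map_θ]
    exact ⟨C, hC, rfl⟩
  rw [h5, map_one]

/-! ### The isomorphism -/

theorem conj_injective : Function.Injective (MulAut.conjNormal (H := K0)) := by
  rw [injective_iff_map_eq_one]
  intro g hg
  apply cent_K0
  intro k hk
  have h1 : MulAut.conjNormal (H := K0) g ⟨k, hk⟩ = ⟨k, hk⟩ := by rw [hg]; rfl
  have h2 := congrArg Subtype.val h1
  rw [MulAut.conjNormal_apply] at h2
  exact mul_inv_eq_iff_eq_mul.1 h2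

theorem ρ_r (i : Fin 3) : ρ ⟨r i, r_mem i⟩ 0 = i :=
  ρ_eq _ ((Bk_zero _).2 in_M1_d) ((Bk_smul_r i _).2 in_M1_d)

theorem card_le : 1045094400 ≤ Nat.card Cs := by
  have hinj : Function.Injective (fun p : Fin 3 × O8 => (⟨r p.1, r_mem p.1⟩ : Cs) * θ p.2) := by
    rintro ⟨i, A⟩ ⟨j, C⟩ h
    have h1 := congrArg (fun g => ρ g 0) h
    simp only [map_mul, Equiv.Perm.mul_apply, θ_zero, ρ_r] at h1
    subst h1
    have h2 := θ_injective (mul_left_cancel h)
    exact Prod.ext rfl h2
  have h := Nat.card_le_card_of_injective _ hinj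
  rw [Nat.card_prod, Nat.card_fin, card_O8] at h
  exact h

theorem exists_mulAut : Nonempty (Cs ≃* MulAut Om) := by
  obtain ⟨e⟩ := exists_K0
  let f : Cs →* MulAut Om := (MulAut.congr e).toMonoidHom.comp (MulAut.conjNormal (H := K0))
  have hf : Function.Injective f := (MulAut.congr e).injective.comp conj_injective
  have hfin : Finite (MulAut Om) := Nat.finite_of_card_ne_zero (by rw [card_mulAut]; norm_num)
  have hc : Nat.card Cs = Nat.card (MulAut Om) := by
    apply le_antisymm (Nat.card_le_card_of_injective f hf)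
    rw [card_mulAut]
    exact card_le
  exact ⟨MulEquiv.ofBijective f ((Nat.bijective_iff_injective_and_card f).2 ⟨hf, hc⟩)⟩

theorem card_Cs : Nat.card Cs = 1045094400 := by
  obtain ⟨e⟩ := exists_mulAut
  rw [Nat.card_congr e.toEquiv, card_mulAut]

/-- **The fixed points of the flip are the automorphism group of `Ω₈⁺(2)`.** -/
theorem exists_mulAut_omega {C : Subgroup Spor.Fi22} (hC : ∀ g, g ∈ C ↔ flipA g = g) :
    Nonempty (↥C ≃* MulAut (Cfsg.Omega (ZMod 2) (Cfsg.quadFormPlus 4 (ZMod 2)))) := by
  have e : C = Cs := by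
    ext g
    exact hC g
  subst e
  obtain ⟨e1⟩ := exists_mulAut
  obtain ⟨e2⟩ := exists_omega
  exact ⟨e1.trans (MulAut.congr e2.symm)⟩

/-! ### Generation by transpositions -/

/-- The group generated by the fixed transpositions. -/
theorem closure_eq : Subgroup.closure (Cfsg.Agent.R01.Fi22Facts.T ∩ (Cs : Set Spor.Fi22)) = Cs := by
  apply le_antisymm
  · rw [Subgroup.closure_le]
    exact Set.inter_subset_right
  · set P := Subgroup.closure (Cfsg.Agent.R01.Fi22Facts.T ∩ (Cs : Set Spor.Fi22)) with hP
    have hgen : ∀ s, gen s ∈ Cs → gen s ∈ P := fun s hs =>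
      Subgroup.subset_closure ⟨Cfsg.Agent.R01.Fi22Facts.gen_mem s, hs⟩
    have hr : ∀ i, r i ∈ P := by
      intro i
      fin_cases i
      · exact one_mem _
      · exact hgen _ h_mem
      · exact mul_mem (hgen _ d_mem) (hgen _ h_mem)
    have hθ : ∀ A : O8, ((θ A : Cs) : Spor.Fi22) ∈ P := by
      intro A
      have hA : A ∈ Subgroup.closure {g : O8 | ∃ v, ∃ hv : q v = 1, g = rf v hv} := by rw [closure_rf]; trivial
      induction hA using Subgroup.closure_induction with
      | mem x hx =>
        obtain ⟨v, hv, rfl⟩ := hx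
        obtain ⟨x, hx, rfl⟩ := lab_surj hv
        have h1 := rel_tp hx
        have h2 : ((θ (rf (labV x) hv) : Cs) : Spor.Fi22) = tp x :=
          congrArg Subtype.val (θ_eq (g := ⟨tp x, h1.mem⟩) h1)
        rw [h2]
        exact Subgroup.subset_closure ⟨tp_mem x, h1.mem⟩
      | one => rw [map_one]; exact one_mem _
      | mul x y _ _ hx hy => rw [map_mul]; exact mul_mem hx hy
      | inv x _ hx => rw [map_inv]; exact inv_mem hx
    intro g hg
    have h1 : ρ ((⟨r (ρ ⟨g, hg⟩ 0), r_mem _⟩ : Cs)⁻¹ * ⟨g, hg⟩) 0 = 0 := by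
      rw [map_mul, map_inv, Equiv.Perm.mul_apply, Equiv.Perm.inv_eq_iff_eq, ρ_r]
    obtain ⟨A, hA⟩ := exists_θ h1
    have h2 : (⟨g, hg⟩ : Cs) = ⟨r (ρ ⟨g, hg⟩ 0), r_mem _⟩ * θ A := by
      rw [hA, mul_inv_cancel_left]
    have h3 := congrArg Subtype.val h2
    change g = r (ρ ⟨g, hg⟩ 0) * ((θ A : Cs) : Spor.Fi22) at h3
    rw [h3]
    exact mul_mem (hr _) (hθ A)

/-- `Cs` is transitive on its transpositions. -/
theorem transitive {s t : Spor.Fi22} (hs : s ∈ Cfsg.Agent.R01.Fi22Facts.T) (hs' : s ∈ Cs)
    (ht : t ∈ Cfsg.Agent.R01.Fi22Facts.T) (ht' : t ∈ Cs) : ∃ c ∈ Cs, c * s * c⁻¹ = t := by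
  have key : ∀ x : X, In Fx x → ∃ c ∈ Cs, c • pg .d = x := by
    intro x hx
    obtain ⟨i, hi⟩ := (in_Fx_iff x).1 hx
    obtain ⟨k, hk, hk2⟩ := trans_M1 hi
    refine ⟨r i * k, mul_mem (r_mem i) (H1_le hk), ?_⟩
    rw [mul_smul, hk2, smul_inv_smul]
  obtain ⟨x, rfl⟩ := tp_surj hs
  obtain ⟨y, rfl⟩ := tp_surj ht
  obtain ⟨a, ha, rfl⟩ := key x ((tp_fixed_iff x).1 hs')
  obtain ⟨b, hb, rfl⟩ := key y ((tp_fixed_iff y).1 ht')
  refine ⟨b * a⁻¹, mul_mem hb (inv_mem ha), ?_⟩
  rw [tp_smul, tp_smul]
  group

theorem ncard_Fx : {x : X | In Fx x}.ncard = 360 := by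
  have h1 : {p : ℕ | Fx.testBit p = true}.ncard = 360 :=
    ncard_testBit (k := 12) (by decide +kernel) (by decide +kernel)
  have hlt : ∀ p, Fx.testBit p = true → p < 3510 := by
    intro p hp
    by_contra hcon
    have h2 : p < 2 ^ 12 ∨ 2 ^ 12 ≤ p := by omega
    have h3 : Nat.beq (Nat.shiftRight Fx 3510) 0 = true := by decide +kernel
    have h4 : (Fx >>> 3510) = 0 := Nat.eq_of_beq_eq_true h3
    have h5 := congrArg (fun n => n.testBit (p - 3510)) h4
    simp only [Nat.testBit_shiftRight, Nat.zero_testBit] at h5
    rw [show 3510 + (p - 3510) = p by omega, hp] at h5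
    exact absurd h5 (by simp)
  rw [← h1, ← Set.ncard_image_of_injective {x : X | In Fx x} Subtype.val_injective]
  congr 1
  ext p
  constructor
  · rintro ⟨x, hx, rfl⟩
    exact hx
  · intro hp
    exact ⟨⟨p, hlt p hp⟩, hp, rfl⟩

/-- There are 360 fixed transpositions. -/
theorem ncard_fixed : (Cfsg.Agent.R01.Fi22Facts.T ∩ (Cs : Set Spor.Fi22)).ncard = 360 := by
  rw [← ncard_Fx, ← Set.ncard_image_of_injective {x : X | In Fx x} (fun x y h => tp_inj h)]
  congr 1
  ext t
  constructor
  · rintro ⟨h1, h2⟩
    obtain ⟨x, rfl⟩ := tp_surj h1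
    exact ⟨x, (tp_fixed_iff x).1 h2, rfl⟩
  · rintro ⟨x, hx, rfl⟩
    exact ⟨tp_mem x, tp_mem_Cs hx⟩

end Cfsg.Agent.H836.EightMain

private theorem dce_0c4ffd6c39c7 : _root_.True := by
  try have : _root_.True := by simp only [_root_.Cfsg.Agent.H836.EightMain.g17.eq_1]
  try have : _root_.True := by simp only [_root_.Cfsg.Agent.H836.EightChk.M2.eq_1]
  try have : _root_.True := by simp only [_root_.Cfsg.Agent.H836.EightMain.Bk.eq_1]
  try have : _root_.True := by simp only [_root_.Cfsg.Agent.H836.EightChk.M3.eq_1]
  try have : _root_.True := by simp only [_root_.Cfsg.Agent.H836.EightMain.g104.eq_1]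
  exact _root_.True.intro
end

-- part: H833/SixEnd
section
prune_inst 0x180000000000000000000000000000000000000000000000000000000000100000084020000000000000000000000000000000000000000000000000000000000000000000000000000000000000000000000000000000000000000
set_option linter.all false
open scoped Cfsg.Agent.FastGrp

-- part: H833/SixData
section
/-!
# Data for the 72 transpositions of `Fi22` fixed by the flip times `d i` (helper833)

`M` the mask of the points, `Ls` the six masks of the labels (nonsingular vectors of the elliptic space `𝔽₂⁶`), `O2` the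
orbit of `c` under the group generated by the 72.
-/

set_option autoImplicit false
set_option maxRecDepth 100000

namespace Cfsg.Agent.H833.SixData

open Cfsg.Agent.Lib.PermNet

/-- The 72 points. -/
noncomputable def M : ℕ := (asm [0x20000100800000008100040180001c80808020200000000000000000000008000000000000010000800000000000000000980000000a00000000000000000000000000000000000000000000000000008004010000000000000000000000000000000000000000000804000000000000400000000000000000000010000000000400040000000000000000000008000000000000000001000000000000000000080000800000000000160000000000000000002080000000000000000000000000000000000000000000010000100800000000000000000000000000000000000000000000000000000000000000000000000000000000000000000000400000000000000000000000000000000000000000000000000000000000000000000000000000000000000009000000000000000000000000000000000000000000200240000000000000000000004001000001200000000000000000000000000005000000000800000001000000000000002500000000000000000000000000000000000000000080000000800000000000000000000000000000000000000000000000000000081021000000000000000004b0000])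

/-- The masks of the labels. -/
noncomputable def Ls : List ℕ := [
  (asm [0x100800000000000000100000c0080002020000000000000000000000000000000000000000000000000000000000080000000000000000000000000000000000000000000000000000000000000800401000000000000000000000000000000000000000000080400000000000000000000000000000000000000000000040004000000000000000000000000000000000000000000000000000000000000000000000000000002000000000000000000208000000000000000000000000000000000000000000001000000000000000000000000000000000000000000000000000000000000000000000000000000000000000000000000000000000000000000000000000000000000000000000000000000000000000000000000000000000000000000000000000000000000000000000000000000000000000000024000000000000000000000000000000120000000000000000000000000000000000000000000000100000000000000050000000000000000000000000000000000000000000000000080000000000000000000000000000000000000000000000000000008000100000000000000000030000]),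
  (asm [0x2000010080000000000000008000048000002020000000000000000000000800000000000001000080000000000000000090000000000000000000000000000000000000000000000000000000000000800000000000000000000000000000000000000000000000000000000000000000000000000000000000000000000000000000000000000000000000000000000000000000000000000000000000000000000080000000000012000000000000000000208000000000000000000000000000000000000000000001000010080000000000000000000000000000000000000000000000000000000000000000000000000000000000000000000000000000000000000000000000000000000000000000000000000000000000000000000000000000000000000000000000000000000000000000000000000000000000000000000000000000000000400000000000000000000000000000000000000500000000000000000100000000000000050000000000000000000000000000000000000000000000000000000000000000000000000000000000000000000000000000000008100000000000000000000420000]),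
  (asm [0x8100000080000c80000000000000000000000000000008000000000000010000000000000000000000800000000a0000000000000000000000000000000000000000000000000000800000000000000000000000000000000000000000000000000000000000000040000000000000000000001000000000000000000000000000000000000000000000000000000100000000000000000008000000000000000002000000000000000000000000000000000000000000000000000000000000000001000010080000000000000000000000000000000000000000000000000000000000000000000000000000000000000000000000000000000000000000000000000000000000000000000000000000000000000000000000000000000000000900000000000000000000000000000000000000000000000000000000000000000000000100000000000000000000000000000000000500000000080000000100000000000000000000000000000000000000000000000000000000000000000080000000000000000000000000000000000000000000000000000008000100000000000000000030000]),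
  (asm [0x40000000c0000800000000000000000000000000000000000000000000000000000000000000090000000000000000000000000000000000000000000000000000000000000800000000000000000000000000000000000000000000000080400000000000040000000000000000000001000000000040004000000000000000000000800000000000000000100000000000000000008000000000000000000000000000000000000000000000000000000000000000000000000000000000001000000000000000000000000000000000000000000000000000000000000000000000000000000000000000000000000000040000000000000000000000000000000000000000000000000000000000000000000000000000000000000000000000000000000000000000000000000000000000020000000000000000000000000000100000120000000000000000000000000000500000000080000000100000000000000050000000000000000000000000000000000000000008000000080000000000000000000000000000000000000000000000000000008100000000000000000000000000]),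
  (asm [0x20000100800000000000000080001480008000000000000000000000000000000000000000000000000000000000000000000000000a0000000000000000000000000000000000000000000000000000800401000000000000000000000000000000000000000000080400000000000040000000000000000000001000000000040004000000000000000000000800000000000000000100000000000000000008000000000000000014000000000000000000208000000000000000000000000000000000000000000001000010080000000000000000000000000000000000000000000000000000000000000000000000000000000000000000000040000000000000000000000000000000000000000000000000000000000000000000000000000000000000000900000000000000000000000000000000000000000020024000000000000000000000400000000000000000000000000000000000000000000000000000000100000000000000200000000000000000000000000000000000000000000000000000000000000000000000000000000000000000000000000000000000000000000000000000000480000]),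
  (asm [0x20000100800000008100040180001480800020200000000000000000000008000000000000010000800000000000000000880000000a0000000000000000000000000000000000000000000000000000000401000000000000000000000000000000000000000000000000000000000000000000000000000000000000000000040004000000000000000000000800000000000000000100000000000000000008000080000000000000000000000000000000000000000000000000000000000000000000000000000000000000000000000000000000000000000000000000000000000000000000000000000000000000000000000000000000000040000000000000000000000000000000000000000000000000000000000000000000000000000000000000000000000000000000000000000000000000000000000000000000000000000000000000400100000120000000000000000000000000000000000000080000000100000000000000200000000000000000000000000000000000000000008000000000000000000000000000000000000000000000000000000000000008002000000000000000000000000])]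

/-- The orbit of `c`. -/
noncomputable def O2 : ℕ := (asm [0x1e30ffcdb3f20b266e7fffa0e37fb987dc9637f17669a9fff7fd1d6fbffffb170e7e7cf7d77ff63fe7adde37ffffbdf419f9bbfff67dae6bd91f6fc7f5ff7be7dff0ff9fb977a33ff7efecbd806f7b3b7d99fea48517e5c7ed7c32effb67b77e776e6f8b53dcc5ff97df17ee19bf0fde30ddc01a8a834ec0ff557107dfce68baff6e3c7c387f919fdbc97bee9b3ffcc77c7401ddc3033f86bbe8e3b39fca63768d7f27b731fb227ef567ccbdfe9dfffc618ddce00507b8d6f3f5fd1eb79fbdc8ddf737fa8b9b5ddeabbde74fde014bd6d80463cddff7fbfef6c77ffbdfdfaedafeb77bedd7edbb781aeebcfc3f70bffb3e5f5fbbf7576fbedfff5b75fef8aeb9f8f77e4c21d53f3abedf59dbaf575dfdff3fff7a1f6facbbfccfb6a7fcc4443bd79ce777282ff7de8bf7fd37f206dfb7fcef9def9f604750fbcb2007f5ad65bfbf7580ff00aaf7f61ff7d7b8d87f848a5f4aaeffc57faf49b4bd5bd97fd7bb7283b8908f0fafbef82d77eaffc3f74fbfe53036108df2ffc5457ff5f7f2efc7e380429bfd7e03cffee3f5d8eec2775ff8befec5f3af75e7fecff7befdaefff1fffdebbfd9ffebe3deff76ddeeded7bbdf3247f647b4d6f8])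

/-- Points and codes of the labels. -/
def tab : List (ℕ × ℕ) := [(16, 5), (17, 7), (19, 16), (22, 18), (92, 5), (97, 32), (104, 10), (111, 47), (331, 13), (363, 40), (532, 11), (534, 11), (537, 48), (596, 63), (631, 44), (668, 14), (670, 14), (785, 41), (788, 41), (812, 44), (826, 50), (914, 17), (917, 17), (929, 24), (1100, 20), (1103, 20), (1458, 56), (1831, 22), (1840, 22), (1860, 31), (2043, 19), (2049, 19), (2125, 7), (2126, 16), (2128, 18), (2179, 34), (2199, 60), (2276, 60), (2351, 56), (2438, 57), (2454, 57), (2496, 28), (2586, 28), (2638, 25), (2647, 25), (2820, 49), (2830, 49), (2843, 31), (3053, 52), (3055, 52), (3087, 32), (3088, 10), (3091, 47), (3163, 34), (3180, 38), (3239, 38), (3329, 35), (3337, 35), (3347, 24), (3355, 33), (3363, 54), (3366, 63), (3367, 13), (3368, 48), (3387, 54), (3388, 33), (3398, 40), (3412, 36), (3419, 36), (3451, 51), (3460, 51), (3481, 50)]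

end Cfsg.Agent.H833.SixData
end

-- part: H833/SixChk
section
/-!
# Kernel computations for the 72 transpositions fixed by the flip times `d i` (helper833)
-/

set_option autoImplicit false
set_option maxRecDepth 100000

namespace Cfsg.Agent.H833.SixChk

open Cfsg.Spor Cfsg.Spor.Fi22 Cfsg.Agent.Lib.PermNet Cfsg.Agent.Lib.PermNetOrbit
open Cfsg.Agent.Fischer.Fi22PtsRep Cfsg.Agent.Fischer.Fi22Order
open Cfsg.Agent.H833.SixData
open Cfsg.Agent.H836.EightData (sN)
open Cfsg.Agent.H836.EightChk (mv mvAll sel testBit_sel GD GD.w U ptn)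

/-! ### Codes -/

/-- bit to scalar -/
def cc (b : Bool) : ZMod 2 := if b then 1 else 0

/-- the quadratic form on codes -/
def qn (n : ℕ) : Bool :=
  (n.testBit 0 && n.testBit 2) ^^ (n.testBit 1 && n.testBit 3) ^^
    (n.testBit 4 ^^ (n.testBit 4 && n.testBit 5) ^^ n.testBit 5)

/-- the bilinear form on codes -/
def Bn (m n : ℕ) : Bool :=
  ((m.testBit 0 && n.testBit 2) ^^ (m.testBit 2 && n.testBit 0)) ^^
    ((m.testBit 1 && n.testBit 3) ^^ (m.testBit 3 && n.testBit 1)) ^^
    ((m.testBit 4 && n.testBit 5) ^^ (m.testBit 5 && n.testBit 4))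

/-! ### The fixed points -/

theorem mv_t : Nat.beq (mv (sN :: nw [.d, .i])) (Nat.xor U M) = true := by decide +kernel

/-! ### The generators -/

/-- the seven generators -/
def gs : List GD := [⟨[], .d, 16, 5⟩, ⟨[], .i, 92, 5⟩, ⟨[.e, .d], .c, 17, 7⟩, ⟨[.f, .e, .d, .c], .b, 19, 16⟩,
  ⟨[.h, .i, .d, .h, .e, .d], .c, 97, 32⟩, ⟨[.h, .i, .d, .h, .f, .e, .d, .c], .b, 104, 10⟩,
  ⟨[.g, .f, .e, .c, .d, .h, .i, .d, .e, .c, .d, .h, .f, .e, .d, .c, .b], .a, 631, 44⟩]

/-- masks of the labels -/
noncomputable def L (j : ℕ) : ℕ := List.getD Ls j 0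

/-- the mask of the points whose label is not orthogonal to `v` -/
noncomputable def pol (v : ℕ) : ℕ :=
  Nat.xor (Nat.xor (Nat.xor (sel (tb v 0) (L 2)) (sel (tb v 2) (L 0)))
    (Nat.xor (sel (tb v 1) (L 3)) (sel (tb v 3) (L 1))))
    (Nat.xor (sel (tb v 4) (L 5)) (sel (tb v 5) (L 4)))

/-- the label masks transform by the transvection -/
noncomputable def labB (g : GD) : Bool :=
  [0, 1, 2, 3, 4, 5].all fun j =>
    Nat.beq (appWord (nw g.w) (L j)) (Nat.xor (L j) (sel (tb g.v j) (pol g.v)))

/-- everything about a generator -/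
noncomputable def gdB (g : GD) : Bool :=
  and (and (labB g) (Nat.beq (appWord (nw g.w) M) M))
    (and (Nat.beq (ptWord (nw g.u) (ptn g.x)) g.p)
      (and (tb M g.p) ([0, 1, 2, 3, 4, 5].all fun j => Nat.beq (tb (L j) g.p).toNat (tb g.v j).toNat)))

theorem gd_all : gs.all gdB = true := by decide +kernel

/-- the words of the generators -/
def gw : List (List Gen) := gs.map GD.w

theorem sat_M : Nat.beq (sat (nws gw) 5 (Nat.pow 2 16)) M = true := by decide +kernel

theorem sat_O2 : Nat.beq (sat (nws gw) 6 (Nat.pow 2 6)) O2 = true := by decide +kernel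

/-- the points with the label of `d` -/
theorem fibre : Nat.beq (Nat.land (Nat.land (Nat.land (L 0) (Nat.xor M (L 1))) (Nat.land (L 2) (Nat.xor M (L 3))))
    (Nat.land (Nat.xor M (L 4)) (Nat.xor M (L 5)))) (Nat.lor (Nat.pow 2 16) (Nat.pow 2 92)) = true := by
  decide +kernel

/-! ### Centralising the 72 -/

/-- five of the 72 with their points: `u, x, p` -/
def five : List (List Gen × Gen × ℕ) := [([], .i, 92), ([.f, .e, .d, .c], .b, 19),
  ([.g, .f, .e, .d, .c, .b], .a, 22), ([.h, .i, .d, .h, .e, .d], .c, 97),
  ([.e, .b, .c, .d, .h, .i, .d, .e, .c, .d, .h, .f, .e, .d, .c], .b, 532)]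

/-- the five are in the set -/
noncomputable def fiveB (g : List Gen × Gen × ℕ) : Bool :=
  and (Nat.beq (ptWord (nw g.1) (ptn g.2.1)) g.2.2) (tb M g.2.2)

theorem five_all : five.all fiveB = true := by decide +kernel

theorem five_sep : Nat.beq (Nat.lor (mvAll five) (Nat.lor M (Nat.lor (Nat.pow 2 6) (Nat.pow 2 26)))) U = true := by
  decide +kernel

theorem five_zero : tb (mvAll five) 6 = false := by decide +kernel

theorem six_M : tb M 6 = false := by decide +kernel

/-- generators and words with `w • s` in the orbit of `c` -/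
def rest : List (List Gen × Gen) := [([], .c), ([], .e), ([.c, .d], .h), ([.c], .b), ([.e], .f), ([.c, .b], .a),
  ([.e, .f], .g)]

theorem rest_all : rest.all (fun g => tb O2 (ptWord (nw g.1) (ptn g.2))) = true := by decide +kernel

theorem t_six : Nat.beq (sN.pt (ptWord (nw [.d, .i]) 6)) 26 = true := by decide +kernel

/-! ### Labels -/

theorem tab_ok : tab.all (fun x => and (tb M x.1) (and (Nat.ble x.1 3509)
    ([0, 1, 2, 3, 4, 5].all fun j => Nat.beq (tb (L j) x.1).toNat (tb x.2 j).toNat))) = true := by
  decide +kernel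

/-- the mask of a list of points -/
noncomputable def mk (l : List (ℕ × ℕ)) : ℕ :=
  List.rec (motive := fun _ => ℕ) 0 (fun x _ ih => Nat.lor (Nat.pow 2 x.1) ih) l

theorem mk_tab : Nat.beq (mk tab) M = true := by decide +kernel

/-- all codes of nonsingular vectors occur -/
theorem tab_surj : ∀ n : Fin 64, qn n.1 = true → (tab.map Prod.snd).elem n.1 = true := by
  decide +kernel

theorem tab_q : tab.all (fun x => and (Nat.blt x.2 64) (qn x.2)) = true := by
  decide +kernel

/-- every vector is the sum of two nonsingular vectors -/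
theorem split_codes : ∀ n : Fin 64, ∃ m : Fin 64, qn m.1 = true ∧ qn (n.1 ^^^ m.1) = true := by
  decide +kernel

end Cfsg.Agent.H833.SixChk
end

-- part: H833/LabOrth
section
/-!
# 3-transpositions labelled by the nonsingular vectors of a quadratic space over `𝔽₂` (helper833)

`Lab q H tp F lam`: `H` acts on the points, `F` is the set of points with `tp x ∈ H`; the point `x ∈ F` has the label
`lam x`, a nonsingular vector; every label belongs to exactly two points; `tp x` acts on the labels by the reflection.

* `rigid`;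
* `Lab.exists_rho` : `ρ : H →* orth q`, `lam (g • x) = ρ g (lam x)`;
* `Lab.surjective`;
* `Lab.sq_ker`, `Lab.card_ker`.
-/

set_option autoImplicit false

namespace Cfsg.Agent.H833.LabOrth

open QuadraticMap Cfsg.Agent.LieClassical.ReflGen

variable {V : Type*} [AddCommGroup V] [Module (ZMod 2) V]

theorem z2 (a : ZMod 2) : a = 0 ∨ a = 1 := by
  revert a; decide

/-- a space over `𝔽₂` with nondegenerate polar form, spanned by its nonsingular vectors -/
structure Sp (q : QuadraticForm (ZMod 2) V) : Prop where
  nondeg : ∀ a : V, (∀ b, polar q a b = 0) → a = 0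
  span : Submodule.span (ZMod 2) {v : V | q v = 1} = ⊤

variable {q : QuadraticForm (ZMod 2) V}

theorem q_add (u v : V) : q (u + v) = q u + q v + polar q u v := by
  simp only [polar]
  ring

theorem add_self (v : V) : v + v = 0 := by
  have : (2 : ZMod 2) • v = 0 := by
    rw [show (2 : ZMod 2) = 0 from rfl, zero_smul]
  rwa [two_smul] at this

theorem q_zero' : q (0 : V) = 0 := QuadraticMap.map_zero q

theorem eq_of_polar (hq : Sp q) {u v : V} (h : ∀ w, q w = 1 → polar q u w = polar q v w) : u = v := by
  have h1 : u - v = 0 := by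
    apply hq.nondeg
    intro b
    have hb : b ∈ Submodule.span (ZMod 2) {v : V | q v = 1} := by rw [hq.span]; trivial
    induction hb using Submodule.span_induction with
    | mem w hw => rw [polar_sub_left, h w hw, sub_self]
    | zero => exact polar_zero_right (Q := q) _
    | add x y _ _ hx hy => rw [polar_add_right, hx, hy, add_zero]
    | smul a x _ hx => rw [polar_smul_right, hx, smul_zero]
  exact sub_eq_zero.1 h1

theorem orth_polar (A : orth (q : V → ZMod 2)) (u v : V) :
    polar q ((A : V ≃ₗ[ZMod 2] V) u) ((A : V ≃ₗ[ZMod 2] V) v) = polar q u v := by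
  have h := A.2
  simp only [polar]
  rw [← map_add]
  have h1 := h (u + v)
  have h2 := h u
  have h3 := h v
  rw [h1, h2, h3]

theorem eq_of_ns (hq : Sp q) {A A' : orth (q : V → ZMod 2)}
    (h : ∀ v, q v = 1 → (A : V ≃ₗ[ZMod 2] V) v = (A' : V ≃ₗ[ZMod 2] V) v) : A = A' := by
  apply Subtype.ext
  apply LinearEquiv.ext
  intro x
  have hx : x ∈ Submodule.span (ZMod 2) {v : V | q v = 1} := by rw [hq.span]; trivial
  induction hx using Submodule.span_induction with
  | mem w hw => exact h w hw
  | zero => rw [map_zero, map_zero]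
  | add x y _ _ hx hy => rw [map_add, map_add, hx, hy]
  | smul a x _ hx => rw [map_smul, map_smul, hx]

/-- **Rigidity**: a map of the nonsingular vectors preserving the polar form is induced by an isometry. -/
theorem rigid [Finite V] (hq : Sp q) (π : V → V) (h1 : ∀ v, q v = 1 → q (π v) = 1)
    (hB : ∀ u v, q u = 1 → q v = 1 → polar q (π u) (π v) = polar q u v) :
    ∃ A : orth (q : V → ZMod 2), ∀ v, q v = 1 → π v = (A : V ≃ₗ[ZMod 2] V) v := by
  classical
  let b := Module.Basis.ofSpan (K := ZMod 2) (V := V) (s := {v : V | q v = 1}) hq.span.ge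
  have hb : ∀ i, q (b i) = 1 := fun i =>
    Module.Basis.ofSpan_subset (K := ZMod 2) (V := V) (s := {v : V | q v = 1}) hq.span.ge ⟨i, rfl⟩
  let A₀ : V →ₗ[ZMod 2] V := b.constr (ZMod 2) (fun i => π (b i))
  have hA : ∀ i, A₀ (b i) = π (b i) := fun i => b.constr_basis (ZMod 2) _ i
  have hsp : ∀ x : V, x ∈ Submodule.span (ZMod 2) (Set.range b) := fun x => by
    rw [b.span_eq]; trivial
  have hB1 : ∀ i y, polar q (A₀ (b i)) (A₀ y) = polar q (b i) y := by
    intro i y
    refine Submodule.span_induction ?_ ?_ ?_ ?_ (hsp y)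
    · rintro _ ⟨j, rfl⟩
      rw [hA, hA, hB _ _ (hb i) (hb j)]
    · rw [map_zero, polar_zero_right, polar_zero_right]
    · intro x y _ _ hx hy
      rw [map_add, polar_add_right, polar_add_right, hx, hy]
    · intro a x _ hx
      rw [map_smul, polar_smul_right, polar_smul_right, hx]
  have hB2 : ∀ x y, polar q (A₀ x) (A₀ y) = polar q x y := by
    intro x y
    refine Submodule.span_induction ?_ ?_ ?_ ?_ (hsp x)
    · rintro _ ⟨j, rfl⟩
      exact hB1 j y
    · rw [map_zero, polar_zero_left, polar_zero_left]
    · intro u v _ _ hu hv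
      rw [map_add, polar_add_left, polar_add_left, hu, hv]
    · intro a u _ hu
      rw [map_smul, polar_smul_left, polar_smul_left, hu]
  have hqq : ∀ x, q (A₀ x) = q x := by
    intro x
    refine Submodule.span_induction ?_ ?_ ?_ ?_ (hsp x)
    · rintro _ ⟨j, rfl⟩
      rw [hA, h1 _ (hb j), hb j]
    · rw [map_zero]
    · intro u v _ _ hu hv
      rw [map_add, q_add, q_add, hu, hv, hB2]
    · intro a u _ hu
      rw [map_smul, QuadraticMap.map_smul, QuadraticMap.map_smul, hu]
  have hinj : Function.Injective A₀ := by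
    rw [← LinearMap.ker_eq_bot, Submodule.eq_bot_iff]
    intro x hx
    apply hq.nondeg
    intro y
    rw [← hB2, LinearMap.mem_ker.1 hx, polar_zero_left]
  have hfd : FiniteDimensional (ZMod 2) V := Module.Finite.of_finite
  let A : V ≃ₗ[ZMod 2] V := LinearEquiv.ofInjectiveEndo A₀ hinj
  have hAA : ∀ x, A x = A₀ x := fun x => rfl
  refine ⟨⟨A, fun x => by rw [hAA]; exact hqq x⟩, ?_⟩
  intro v hv
  show π v = A v
  rw [hAA]
  apply sub_eq_zero.1
  apply hq.nondeg
  intro w
  obtain ⟨y, rfl⟩ := A.surjective w
  rw [hAA, polar_sub_left, hB2, sub_eq_zero]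
  refine Submodule.span_induction ?_ ?_ ?_ ?_ (hsp y)
  · rintro _ ⟨j, rfl⟩
    rw [hA, hB _ _ hv (hb j)]
  · rw [map_zero, polar_zero_right, polar_zero_right]
  · intro x y _ _ hx hy
    rw [map_add, polar_add_right, polar_add_right, hx, hy]
  · intro a x _ hx
    rw [map_smul, polar_smul_right, polar_smul_right, hx]

/-! ### Labelled classes of 3-transpositions -/

variable {K : Type*} [Group K] {X : Type*} [MulAction K X]

/-- the situation -/
structure Lab (q : QuadraticForm (ZMod 2) V) (H : Subgroup K) (tp : X → K) (F : Set X) (lam : X → V) : Prop where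
  sp : Sp q
  smul_tp : ∀ (g : K) (x : X), tp (g • x) = g * tp x * g⁻¹
  sq : ∀ x, tp x * tp x = 1
  inj : ∀ x y, tp x = tp y → x = y
  three : ∀ x y, tp x * tp y = tp y * tp x ∨ tp x * tp y * tp x = tp y * tp x * tp y
  smulF : ∀ g ∈ H, ∀ x ∈ F, g • x ∈ F
  tpH : ∀ x ∈ F, tp x ∈ H
  q1 : ∀ x ∈ F, q (lam x) = 1
  surj : ∀ v, q v = 1 → ∃ x ∈ F, lam x = v
  two : ∀ x ∈ F, ∃ y ∈ F, y ≠ x ∧ lam y = lam x ∧ ∀ z ∈ F, lam z = lam x → z = x ∨ z = y
  comm : ∀ x ∈ F, ∀ y ∈ F, (tp x * tp y = tp y * tp x ↔ polar q (lam x) (lam y) = 0)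
  refl : ∀ x ∈ F, ∀ y ∈ F, lam (tp x • y) = lam y + polar q (lam x) (lam y) • lam x
  cent : ∀ g ∈ H, (∀ x ∈ F, g • x = x) → g = 1

namespace Lab

variable {H : Subgroup K} {tp : X → K} {F : Set X} {lam : X → V} (L : Lab q H tp F lam)
include L

/-- equal labels stay equal -/
theorem lam_congr {g : K} (hg : g ∈ H) {x y : X} (hx : x ∈ F) (hy : y ∈ F) (h : lam x = lam y) :
    lam (g • x) = lam (g • y) := by
  apply eq_of_polar L.sp
  intro w hw
  obtain ⟨z, hz, rfl⟩ := L.surj w hw
  have hz' := L.smulF _ (inv_mem hg) z hz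
  have key : ∀ u ∈ F, (polar q (lam (g • u)) (lam z) = 0 ↔ polar q (lam u) (lam (g⁻¹ • z)) = 0) := by
    intro u hu
    rw [← L.comm _ (L.smulF g hg u hu) z hz, ← L.comm u hu _ hz', L.smul_tp, L.smul_tp]
    constructor
    · intro h1
      calc tp u * (g⁻¹ * tp z * g⁻¹⁻¹) = g⁻¹ * (g * tp u * g⁻¹ * tp z) * g := by group
        _ = g⁻¹ * (tp z * (g * tp u * g⁻¹)) * g := by rw [h1]
        _ = g⁻¹ * tp z * g⁻¹⁻¹ * tp u := by group
    · intro h1
      calc g * tp u * g⁻¹ * tp z = g * (tp u * (g⁻¹ * tp z * g⁻¹⁻¹)) * g⁻¹ := by group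
        _ = g * (g⁻¹ * tp z * g⁻¹⁻¹ * tp u) * g⁻¹ := by rw [h1]
        _ = tp z * (g * tp u * g⁻¹) := by group
  have h1 : polar q (lam (g • x)) (lam z) = 0 ↔ polar q (lam (g • y)) (lam z) = 0 := by
    rw [key x hx, key y hy, h]
  rcases z2 (polar q (lam (g • x)) (lam z)) with h2 | h2 <;>
    rcases z2 (polar q (lam (g • y)) (lam z)) with h3 | h3
  · rw [h2, h3]
  · exact absurd (h1.1 h2) (by rw [h3]; exact one_ne_zero)
  · exact absurd (h1.2 h3) (by rw [h2]; exact one_ne_zero)
  · rw [h2, h3]

theorem exists_iso [Finite V] (g : H) :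
    ∃ A : orth (q : V → ZMod 2), ∀ x ∈ F, lam ((g : K) • x) = (A : V ≃ₗ[ZMod 2] V) (lam x) := by
  classical
  let π : V → V := fun v => if h : q v = 1 then lam ((g : K) • (L.surj v h).choose) else v
  have hπ : ∀ x ∈ F, π (lam x) = lam ((g : K) • x) := by
    intro x hx
    have h := L.q1 x hx
    show (if h : q (lam x) = 1 then lam ((g : K) • (L.surj _ h).choose) else lam x) = _
    rw [dif_pos h]
    exact L.lam_congr g.2 (L.surj _ h).choose_spec.1 hx (L.surj _ h).choose_spec.2
  obtain ⟨A, hA⟩ := rigid L.sp π (by
      intro v hv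
      obtain ⟨x, hx, rfl⟩ := L.surj v hv
      rw [hπ x hx]
      exact L.q1 _ (L.smulF _ g.2 x hx)) (by
      intro u v hu hv
      obtain ⟨x, hx, rfl⟩ := L.surj u hu
      obtain ⟨y, hy, rfl⟩ := L.surj v hv
      rw [hπ x hx, hπ y hy]
      have h1 : polar q (lam ((g : K) • x)) (lam ((g : K) • y)) = 0 ↔ polar q (lam x) (lam y) = 0 := by
        rw [← L.comm _ (L.smulF _ g.2 x hx) _ (L.smulF _ g.2 y hy), ← L.comm x hx y hy, L.smul_tp, L.smul_tp]
        constructor
        · intro h1
          calc tp x * tp y = (g : K)⁻¹ * (g * tp x * (g : K)⁻¹ * (g * tp y * (g : K)⁻¹)) * g := by group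
            _ = (g : K)⁻¹ * (g * tp y * (g : K)⁻¹ * (g * tp x * (g : K)⁻¹)) * g := by rw [h1]
            _ = tp y * tp x := by group
        · intro h1
          calc g * tp x * (g : K)⁻¹ * (g * tp y * (g : K)⁻¹) = g * (tp x * tp y) * (g : K)⁻¹ := by group
            _ = g * (tp y * tp x) * (g : K)⁻¹ := by rw [h1]
            _ = g * tp y * (g : K)⁻¹ * (g * tp x * (g : K)⁻¹) := by group
      rcases z2 (polar q (lam ((g : K) • x)) (lam ((g : K) • y))) with h2 | h2 <;>
        rcases z2 (polar q (lam x) (lam y)) with h3 | h3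
      · rw [h2, h3]
      · exact absurd (h1.1 h2) (by rw [h3]; exact one_ne_zero)
      · exact absurd (h1.2 h3) (by rw [h2]; exact one_ne_zero)
      · rw [h2, h3])
  exact ⟨A, fun x hx => by rw [← hA _ (L.q1 x hx), hπ x hx]⟩

/-- **The homomorphism.** -/
theorem exists_rho [Finite V] : ∃ ρ : H →* orth (q : V → ZMod 2), ∀ (g : H), ∀ x ∈ F,
    lam ((g : K) • x) = (ρ g : V ≃ₗ[ZMod 2] V) (lam x) := by
  classical
  choose f hf using L.exists_iso
  have huniq : ∀ (A B : orth (q : V → ZMod 2)), (∀ x ∈ F, (A : V ≃ₗ[ZMod 2] V) (lam x) = (B : V ≃ₗ[ZMod 2] V) (lam x)) →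
      A = B := by
    intro A B h
    apply eq_of_ns L.sp
    intro v hv
    obtain ⟨x, hx, rfl⟩ := L.surj v hv
    exact h x hx
  refine ⟨{ toFun := f, map_one' := ?_, map_mul' := ?_ }, hf⟩
  · apply huniq
    intro x hx
    rw [← hf 1 x hx]
    show lam ((1 : K) • x) = lam x
    rw [one_smul]
  · intro g h
    apply huniq
    intro x hx
    rw [← hf (g * h) x hx]
    show lam (((g : K) * h) • x) = (f g : V ≃ₗ[ZMod 2] V) ((f h : V ≃ₗ[ZMod 2] V) (lam x))
    rw [← hf h x hx, ← hf g _ (L.smulF _ h.2 x hx), mul_smul]

theorem surjective (hr : reflGroup q = ⊤) (ρ : H →* orth (q : V → ZMod 2))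
    (hρ : ∀ (g : H), ∀ x ∈ F, lam ((g : K) • x) = (ρ g : V ≃ₗ[ZMod 2] V) (lam x)) : Function.Surjective ρ := by
  rw [← MonoidHom.range_eq_top, eq_top_iff, ← hr, reflGroup, Subgroup.closure_le]
  rintro _ ⟨a, ha, rfl⟩
  have ha1 : q a = 1 := (z2 _).resolve_left ha
  obtain ⟨x, hx, rfl⟩ := L.surj a ha1
  refine ⟨⟨tp x, L.tpH x hx⟩, ?_⟩
  apply eq_of_ns L.sp
  intro v hv
  obtain ⟨y, hy, rfl⟩ := L.surj v hv
  rw [← hρ _ y hy, refl_apply, L.refl x hx y hy, ha1, inv_one, one_mul]
  have : ∀ (c : ZMod 2) (u v : V), v + c • u = v - c • u := by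
    intro c u v
    rw [sub_eq_add_neg]
    congr 1
    have := add_self (c • u)
    exact (neg_eq_of_add_eq_zero_right this).symm
  rw [this]

/-- the two points of a label: noncommuting transpositions -/
theorem smul_ne {x x' y : X} (hne : x ≠ x') (h1 : tp x * tp y ≠ tp y * tp x) (h2 : tp x' * tp y ≠ tp y * tp x') :
    tp x • y ≠ tp x' • y := by
  intro h
  have h3 := congrArg tp h
  rw [L.smul_tp, L.smul_tp] at h3
  have e1 := (L.three x y).resolve_left h1
  have e2 := (L.three x' y).resolve_left h2
  have i1 : (tp x)⁻¹ = tp x := inv_eq_of_mul_eq_one_right (L.sq x)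
  have i2 : (tp x')⁻¹ = tp x' := inv_eq_of_mul_eq_one_right (L.sq x')
  rw [i1, i2, e1, e2] at h3
  exact hne (L.inj _ _ (mul_left_cancel (mul_right_cancel h3)))

theorem ker_iff (ρ : H →* orth (q : V → ZMod 2))
    (hρ : ∀ (g : H), ∀ x ∈ F, lam ((g : K) • x) = (ρ g : V ≃ₗ[ZMod 2] V) (lam x)) (g : H) :
    ρ g = 1 ↔ ∀ x ∈ F, lam ((g : K) • x) = lam x := by
  constructor
  · intro h x hx
    rw [hρ g x hx, h]
    rfl
  · intro h
    apply eq_of_ns L.sp
    intro v hv
    obtain ⟨x, hx, rfl⟩ := L.surj v hv
    rw [← hρ g x hx, h x hx]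
    rfl

/-- two elements of the kernel moving the same points are inverse -/
theorem mul_eq_one {g h : K} (hg : g ∈ H) (hh : h ∈ H) (kg : ∀ x ∈ F, lam (g • x) = lam x)
    (kh : ∀ x ∈ F, lam (h • x) = lam x) (e : ∀ x ∈ F, (g • x = x ↔ h • x = x)) : g * h = 1 := by
  apply L.cent _ (mul_mem hg hh)
  intro x hx
  by_cases h1 : h • x = x
  · rw [mul_smul, h1, (e x hx).2 h1]
  · obtain ⟨y, hy, hyx, hl, hz⟩ := L.two x hx
    have h2 : h • x = y := (hz _ (L.smulF h hh x hx) (kh x hx)).resolve_left h1
    have h3 : g • x = y := (hz _ (L.smulF g hg x hx) (kg x hx)).resolve_left (fun e1 => h1 ((e x hx).1 e1))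
    have h4 : g • y = x := by
      rcases hz _ (L.smulF g hg y hy) ((kg y hy).trans hl) with h5 | h5
      · exact h5
      · exfalso
        apply hyx
        have h6 : g • y = g • x := by rw [h5, h3]
        exact smul_left_cancel g h6
    rw [mul_smul, h2, h4]

theorem sq_ker {g : K} (hg : g ∈ H) (kg : ∀ x ∈ F, lam (g • x) = lam x) : g * g = 1 :=
  L.mul_eq_one hg hg kg kg fun _ _ => Iff.rfl

/-- the element of the kernel attached to a vector -/
theorem exists_ker (v : V) : ∃ g ∈ H, (∀ x ∈ F, lam (g • x) = lam x) ∧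
    ∀ x ∈ F, (g • x = x ↔ polar q v (lam x) = 0) := by
  have hv : v ∈ Submodule.span (ZMod 2) {v : V | q v = 1} := by rw [L.sp.span]; trivial
  induction hv using Submodule.span_induction with
  | mem v hv =>
    obtain ⟨x, hx, rfl⟩ := L.surj v hv
    obtain ⟨x', hx', hne, hl, hz⟩ := L.two x hx
    refine ⟨tp x * tp x', mul_mem (L.tpH x hx) (L.tpH x' hx'), ?_, ?_⟩
    · intro y hy
      rw [mul_smul, L.refl x hx _ (L.smulF _ (L.tpH x' hx') y hy), L.refl x' hx' y hy, hl, polar_add_right,
        polar_smul_right]
      have h1 : polar q (lam x) (lam x) = 0 := by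
        have h2 := q_add (q := q) (lam x) (lam x)
        rw [add_self, q_zero', L.q1 x hx] at h2
        have h3 : (1 : ZMod 2) + 1 = 0 := rfl
        rw [h3, zero_add] at h2
        exact h2.symm
      rw [h1, smul_zero, add_zero, add_assoc, add_self, add_zero]
    · intro y hy
      rw [← L.comm x hx y hy]
      have h0 : ∀ z ∈ F, (tp z • y = y ↔ tp z * tp y = tp y * tp z) := by
        intro z _
        constructor
        · intro h1
          have h2 := congrArg tp h1
          rw [L.smul_tp] at h2
          exact mul_inv_eq_iff_eq_mul.1 h2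
        · intro h1
          apply L.inj
          rw [L.smul_tp, h1, mul_inv_cancel_right]
      have hcc : tp x' * tp y = tp y * tp x' ↔ tp x * tp y = tp y * tp x := by
        rw [L.comm x hx y hy, L.comm x' hx' y hy, hl]
      constructor
      · intro h1
        by_contra hcon
        have h2 : tp x' * tp y ≠ tp y * tp x' := fun e => hcon (hcc.1 e)
        apply L.smul_ne hne.symm hcon h2
        rw [mul_smul] at h1
        have h3 : tp x • (tp x • (tp x' • y)) = tp x • y := by rw [h1]
        rw [smul_smul, L.sq, one_smul] at h3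
        exact h3.symm
      · intro h1
        rw [mul_smul, (h0 x' hx').2 (hcc.2 h1), (h0 x hx).2 h1]
  | zero =>
    refine ⟨1, one_mem _, fun x _ => by rw [one_smul], fun x _ => ?_⟩
    rw [one_smul, polar_zero_left]
    simp
  | add u w _ _ hu hw =>
    obtain ⟨g, hg, kg, pg⟩ := hu
    obtain ⟨h, hh, kh, ph⟩ := hw
    refine ⟨g * h, mul_mem hg hh, fun x hx => ?_, fun x hx => ?_⟩
    · rw [mul_smul, kg _ (L.smulF h hh x hx), kh x hx]
    · rw [polar_add_left, mul_smul]
      obtain ⟨y, hy, hyx, hl, hz⟩ := L.two x hx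
      have gy : g • y = y ↔ g • x = x := by
        rw [pg y hy, pg x hx, hl]
      by_cases h1 : h • x = x
      · rw [h1, pg x hx, (ph x hx).1 h1, add_zero]
      · have h2 : h • x = y := (hz _ (L.smulF h hh x hx) (kh x hx)).resolve_left h1
        have h3 : polar q w (lam x) = 1 := (z2 _).resolve_left (fun e => h1 ((ph x hx).2 e))
        rw [h2, h3]
        by_cases h4 : g • x = x
        · rw [gy.2 h4, (pg x hx).1 h4, zero_add]
          exact ⟨fun e => absurd e hyx, fun e => absurd e one_ne_zero⟩
        · have h5 : polar q u (lam x) = 1 := (z2 _).resolve_left (fun e => h4 ((pg x hx).2 e))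
          have h6 : g • y ≠ y := fun e => h4 (gy.1 e)
          have h7 : g • y = x := by
            rcases hz _ (L.smulF g hg y hy) ((kg y hy).trans hl) with h8 | h8
            · exact h8
            · exact absurd h8 h6
          rw [h7, h5]
          exact ⟨fun _ => rfl, fun _ => rfl⟩
  | smul a u _ hu =>
    rcases z2 a with rfl | rfl
    · refine ⟨1, one_mem _, fun x _ => by rw [one_smul], fun x _ => ?_⟩
      rw [one_smul, zero_smul, polar_zero_left]
      simp
    · rw [one_smul]
      exact hu

/-- **The order of the kernel**: `xs` six (or so) points whose transpositions, with the one of the other point `x0`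
of the label of `xs i0`, generate a group transitive on `F` -/
theorem card_ker [Finite V] {ι : Type*} [Fintype ι] (hι : Nat.card V = 2 ^ Fintype.card ι) (ρ : H →* orth (q : V → ZMod 2))
    (hρ : ∀ (g : H), ∀ x ∈ F, lam ((g : K) • x) = (ρ g : V ≃ₗ[ZMod 2] V) (lam x))
    (xs : ι → X) (hxs : ∀ i, xs i ∈ F) (i0 : ι) (x0 : X) (hx0 : x0 ∈ F) (hl0 : lam x0 = lam (xs i0))
    (hgen : ∀ Y : Set X, (∀ i, xs i ∈ Y) → x0 ∈ Y → (∀ i, ∀ y ∈ Y, tp (xs i) • y ∈ Y) →
      (∀ y ∈ Y, tp x0 • y ∈ Y) → F ⊆ Y) : Nat.card ρ.ker = Nat.card V := by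
  classical
  have hk := L.ker_iff ρ hρ
  -- an element of the kernel fixing the `xs i` is trivial
  have key : ∀ g ∈ H, (∀ x ∈ F, lam (g • x) = lam x) → (∀ i, g • xs i = xs i) → g = 1 := by
    intro g hg kg hfix
    have h0 : g • x0 = x0 := by
      by_cases h1 : x0 = xs i0
      · rw [h1]; exact hfix i0
      · obtain ⟨y, hy, hyx, hl, hz⟩ := L.two (xs i0) (hxs i0)
        have h2 : x0 = y := (hz x0 hx0 hl0).resolve_left h1
        rcases hz _ (L.smulF g hg x0 hx0) ((kg x0 hx0).trans hl0) with h3 | h3
        · exfalso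
          apply h1
          have h4 : g • x0 = g • xs i0 := by rw [h3, hfix]
          exact smul_left_cancel g h4
        · rw [h3, h2]
    have hcomm : ∀ x : X, g • x = x → ∀ y : X, g • y = y → g • (tp x • y) = tp x • y := by
      intro x hx y hy
      have h1 : g * tp x = tp x * g := by
        have := L.smul_tp g x
        rw [hx] at this
        exact (mul_inv_eq_iff_eq_mul.1 this.symm)
      rw [smul_smul, h1, mul_smul, hy]
    have hY := hgen {y | g • y = y} hfix h0 (fun i y hy => hcomm _ (hfix i) y hy) (fun y hy => hcomm _ h0 y hy)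
    exact L.cent g hg fun x hx => hY hx
  have hinj : Function.Injective (fun (g : ρ.ker) (i : ι) => decide (((g : H) : K) • xs i = xs i)) := by
    intro g h e
    have kg := (hk (g : H)).1 (MonoidHom.mem_ker.1 g.2)
    have kh := (hk (h : H)).1 (MonoidHom.mem_ker.1 h.2)
    have e1 : ∀ i, (((g : H) : K) • xs i = xs i ↔ ((h : H) : K) • xs i = xs i) := by
      intro i
      have := congrFun e i
      simpa using this
    have hgh : (((g : H) : K) * ((h : H) : K)) = 1 := by
      apply key _ (mul_mem (g : H).2 (h : H).2)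
      · intro x hx
        rw [mul_smul, kg _ (L.smulF _ (h : H).2 x hx), kh x hx]
      · intro i
        by_cases h1 : ((h : H) : K) • xs i = xs i
        · rw [mul_smul, h1, (e1 i).2 h1]
        · obtain ⟨y, hy, hyx, hl, hz⟩ := L.two (xs i) (hxs i)
          have h2 := (hz _ (L.smulF _ (h : H).2 _ (hxs i)) (kh _ (hxs i))).resolve_left h1
          have h3 := (hz _ (L.smulF _ (g : H).2 _ (hxs i)) (kg _ (hxs i))).resolve_left (fun e2 => h1 ((e1 i).1 e2))
          have h4 : ((g : H) : K) • y = xs i := by
            rcases hz _ (L.smulF _ (g : H).2 y hy) ((kg y hy).trans hl) with h5 | h5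
            · exact h5
            · exfalso
              apply hyx
              have h6 : ((g : H) : K) • y = ((g : H) : K) • xs i := by rw [h5, h3]
              exact smul_left_cancel _ h6
          rw [mul_smul, h2, h4]
    have hhh := L.sq_ker (h : H).2 kh
    apply Subtype.ext
    apply Subtype.ext
    calc ((g : H) : K) = (((g : H) : K) * ((h : H) : K)) * ((h : H) : K)⁻¹ := by group
      _ = ((h : H) : K)⁻¹ := by rw [hgh, one_mul]
      _ = ((h : H) : K) := inv_eq_of_mul_eq_one_right hhh
  have hfinK : Finite ρ.ker := Finite.of_injective _ hinj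
  apply le_antisymm
  · have h1 := Nat.card_le_card_of_injective _ hinj
    have h2 : Nat.card (ι → Bool) = 2 ^ Fintype.card ι := by simp
    rw [h2, ← hι] at h1
    exact h1
  · choose n hn kn pn using L.exists_ker
    have hm : ∀ v : V, (⟨n v, hn v⟩ : H) ∈ ρ.ker := fun v => MonoidHom.mem_ker.2 ((hk ⟨n v, hn v⟩).2 (kn v))
    apply Nat.card_le_card_of_injective (fun v : V => (⟨⟨n v, hn v⟩, hm v⟩ : ρ.ker))
    intro u v e
    have e1 : n u = n v := congrArg (fun g : ρ.ker => ((g : H) : K)) e
    apply eq_of_polar L.sp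
    intro w hw
    obtain ⟨x, hx, rfl⟩ := L.surj w hw
    have h1 : polar q u (lam x) = 0 ↔ polar q v (lam x) = 0 := by
      rw [← pn u x hx, ← pn v x hx, e1]
    rcases z2 (polar q u (lam x)) with h2 | h2 <;> rcases z2 (polar q v (lam x)) with h3 | h3
    · rw [h2, h3]
    · exact absurd (h1.1 h2) (by rw [h3]; exact one_ne_zero)
    · exact absurd (h1.2 h3) (by rw [h2]; exact one_ne_zero)
    · rw [h2, h3]

end Lab

end Cfsg.Agent.H833.LabOrth
end

-- part: H833/SixPts
section
/-!
# The 72 transpositions of `Fi22` fixed by the flip times `d i` (helper833)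

`tt = flipA * conj (d i)`, `Ct` its group of fixed points; `labelled : Lab q6 Ct tp {x | In M x} lab`.
-/

set_option autoImplicit false
set_option maxRecDepth 100000

namespace Cfsg.Agent.H833.SixPts

open Cfsg Cfsg.Spor Cfsg.Spor.Fi22 Cfsg.Agent.Lib.PermNet Cfsg.Agent.Lib.PermNetOrbit
open Cfsg.Agent.Fischer.Fi22PtsRep Cfsg.Agent.Fischer.Fi22Order
open Cfsg.Agent.H833.SixData Cfsg.Agent.H833.SixChk Cfsg.Agent.H833.LabOrth
open Cfsg.Agent.H833.Flip
open Cfsg.Agent.H836.EightData (sN)
open Cfsg.Agent.H836.EightChk (mv mvAll mvAll_cons testBit_mv sel testBit_sel GD GD.w U testBit_U ptn sN_ok sN_wok)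
open Cfsg.Agent.H836.EightPts
open Cfsg.Agent.H836.EightBlk (tr_word toNat_inj wd_reverse)
open Cfsg.Agent.H836.EightCent (sw mvAll_false mv_false lt12)
open Cfsg.Agent.LieClassical.OrthForms (minusForm nondeg_minusForm)
open Cfsg.Agent.LieClassical.KleinMinusGen (Q_apply polar_apply reflGroup_minus)
open Cfsg.Agent.LieClassical.ReflGen (orth refl reflGroup)
open QuadraticMap

/-! ### The space -/

/-- the space -/
abbrev V6 := (Fin 2 ⊕ Fin 2) ⊕ Fin 2 → ZMod 2

/-- the elliptic form -/
abbrev q6 : QuadraticForm (ZMod 2) V6 := minusForm 2 (ZMod 2) 1 1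

theorem cc_xor (a b : Bool) : cc (a ^^ b) = cc a + cc b := by cases a <;> cases b <;> decide
theorem cc_and (a b : Bool) : cc (a && b) = cc a * cc b := by cases a <;> cases b <;> decide
theorem cc_inj {a b : Bool} (h : cc a = cc b) : a = b := by
  cases a <;> cases b <;> simp_all [cc]

/-- Bit positions. -/
def ix : (Fin 2 ⊕ Fin 2) ⊕ Fin 2 → ℕ := Sum.elim (Sum.elim (fun i => i.1) (fun i => i.1 + 2)) (fun i => i.1 + 4)

/-- Decoding. -/
def dec (n : ℕ) : V6 := fun i => cc (n.testBit (ix i))

theorem dec_xor (a b : ℕ) : dec (a ^^^ b) = dec a + dec b := by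
  funext i
  show cc ((a ^^^ b).testBit (ix i)) = cc _ + cc _
  rw [Nat.testBit_xor, cc_xor]

theorem dec_eq_zero : ∀ a : Fin 64, dec a.1 = 0 → a = 0 := by decide +kernel

theorem dec_inj {a b : ℕ} (ha : a < 64) (hb : b < 64) (h : dec a = dec b) : a = b := by
  have h1 : dec (a ^^^ b) = 0 := by rw [dec_xor, h, LabOrth.add_self]
  have h2 := dec_eq_zero ⟨a ^^^ b, Nat.xor_lt_two_pow (n := 6) ha hb⟩ h1
  have h3 : a ^^^ b = 0 := congrArg Fin.val h2
  have h4 : (a ^^^ b) ^^^ b = a := by rw [Nat.xor_assoc, Nat.xor_self, Nat.xor_zero]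
  rw [h3, Nat.zero_xor] at h4
  exact h4.symm

theorem dec_surj (v : V6) : ∃ a < 64, dec a = v := by
  have hinj : Function.Injective (fun a : Fin 64 => dec a.1) := fun a b hab =>
    Fin.ext (dec_inj a.2 b.2 hab)
  have hbij : Function.Bijective (fun a : Fin 64 => dec a.1) := by
    rw [Fintype.bijective_iff_injective_and_card]
    refine ⟨hinj, ?_⟩
    rw [Fintype.card_fun]
    simp [ZMod.card]
  obtain ⟨a, ha⟩ := hbij.2 v
  exact ⟨a.1, a.2, ha⟩

theorem q_dec (n : ℕ) : q6 (dec n) = cc (qn n) := by
  rw [Q_apply]
  have e : ∀ x : ZMod 2, x ^ 2 = x := by decide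
  have e1 : ∀ i, dec n i = cc (n.testBit (ix i)) := fun _ => rfl
  rw [e, e, one_mul, one_mul, e1, e1, e1, e1, e1, e1]
  simp only [qn, cc_xor, cc_and]
  rfl

theorem B_dec (m n : ℕ) : polar q6 (dec m) (dec n) = cc (Bn m n) := by
  have h := q_add (q := q6) (dec m) (dec n)
  rw [← dec_xor, q_dec, q_dec, q_dec] at h
  have h1 : cc (qn (m ^^^ n)) = cc (qn m) + cc (qn n) + cc (Bn m n) := by
    simp only [qn, Bn, cc_xor, cc_and, Nat.testBit_xor]
    ring
  rw [h1] at h
  exact (add_left_cancel h).symm

theorem anis : ∀ z₁ z₂ : ZMod 2, z₁ ^ 2 + 1 * z₁ * z₂ + 1 * z₂ ^ 2 = 0 → z₁ = 0 ∧ z₂ = 0 := by decide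

theorem sp : Sp q6 where
  nondeg := nondeg_minusForm 2 (ZMod 2) 1 1 anis
  span := by
    rw [eq_top_iff]
    intro x _
    obtain ⟨n, hn, rfl⟩ := dec_surj x
    obtain ⟨m, h1, h2⟩ := split_codes ⟨n, hn⟩
    have e : dec n = dec m.1 + dec (n ^^^ m.1) := by
      rw [← dec_xor]
      congr 1
      rw [Nat.xor_comm, Nat.xor_assoc, Nat.xor_self, Nat.xor_zero]
    rw [e]
    refine Submodule.add_mem _ (Submodule.subset_span ?_) (Submodule.subset_span ?_)
    · show q6 _ = 1
      rw [q_dec, h1]; rfl
    · show q6 _ = 1
      rw [q_dec, h2]; rfl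

theorem refl_top : reflGroup q6 = ⊤ := reflGroup_minus 1 1 anis

/-! ### The automorphism -/

/-- the flip times `d i` -/
noncomputable def tt : MulAut Spor.Fi22 := flipA * MulAut.conj (gen .d * gen .i)

/-- `tt` on the points -/
noncomputable def tau (x : X) : X := fl ((gen .d * gen .i) • x)

theorem tt_tp (x : X) : tt (tp x) = tp (tau x) := by
  show flipA (MulAut.conj (gen .d * gen .i) (tp x)) = _
  rw [MulAut.conj_apply, ← tp_smul, flipA_tp]
  rfl

theorem tau_smul (g : Spor.Fi22) (x : X) : tau (g • x) = tt g • tau x := by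
  show fl ((gen .d * gen .i) • (g • x)) = tt g • fl ((gen .d * gen .i) • x)
  have e : (gen .d * gen .i) • (g • x) =
      ((gen .d * gen .i) * g * (gen .d * gen .i)⁻¹) • ((gen .d * gen .i) • x) := by
    rw [smul_smul, smul_smul]
    congr 1
    group
  rw [e, fl_smul]
  rfl

theorem wok_t : WOk (2 ^ 12) (sN :: nw [.d, .i]) := WOk.cons sN_ok (nw_ok _)

theorem val_tau (x : X) : (tau x).1 = wperm (sN :: nw [.d, .i]) x.1 := by
  rw [wperm_cons, Equiv.Perm.mul_apply, wperm_eq, wd_cons, wd_cons, wd_nil, mul_one]
  rfl

theorem tau_eq_iff (x : X) : tau x = x ↔ In M x := by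
  have h1 := testBit_mv wok_t (lt12 x)
  have h2 := Nat.eq_of_beq_eq_true mv_t
  have h3 : U.testBit x.1 = true := testBit_U.2 x.2
  rw [h2, nxor, h3, ← val_tau] at h1
  rw [Subtype.ext_iff]
  show _ ↔ M.testBit x.1 = true
  cases h : M.testBit x.1
  · rw [h] at h1
    simp at h1
    simp [h1]
  · rw [h] at h1
    simp at h1
    simp [h1]

/-- The group of fixed points. -/
noncomputable def Ct : Subgroup Spor.Fi22 where
  carrier := {g | tt g = g}
  mul_mem' := by
    intro a b ha hb
    show tt (a * b) = a * b
    rw [map_mul, ha, hb]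
  one_mem' := map_one _
  inv_mem' := by
    intro a ha
    show tt a⁻¹ = a⁻¹
    rw [map_inv, ha]

theorem mem_Ct {g : Spor.Fi22} : g ∈ Ct ↔ tt g = g := Iff.rfl

theorem in_M_smul {g : Spor.Fi22} (hg : g ∈ Ct) {x : X} (hx : In M x) : In M (g • x) := by
  rw [← tau_eq_iff, tau_smul, mem_Ct.1 hg, (tau_eq_iff x).2 hx]

theorem tp_mem_Ct {x : X} (h : In M x) : tp x ∈ Ct := by
  rw [mem_Ct, tt_tp, (tau_eq_iff x).2 h]

/-! ### Labels -/

/-- The label of a point. -/
noncomputable def lab (x : X) : V6 := fun i => cc ((L (ix i)).testBit x.1)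

theorem ix_mem : ∀ i : (Fin 2 ⊕ Fin 2) ⊕ Fin 2, ix i ∈ [0, 1, 2, 3, 4, 5] := by decide

theorem ix_surj : ∀ j ∈ [0, 1, 2, 3, 4, 5], ∃ i : (Fin 2 ⊕ Fin 2) ⊕ Fin 2, ix i = j := by decide

theorem exists_code (x : X) : ∃ n < 64, lab x = dec n ∧
    ∀ j ∈ [0, 1, 2, 3, 4, 5], (L j).testBit x.1 = n.testBit j := by
  obtain ⟨n, hn, h⟩ := dec_surj (lab x)
  refine ⟨n, hn, h.symm, fun j hj => ?_⟩
  obtain ⟨i, rfl⟩ := ix_surj j hj
  exact (cc_inj (congrFun h i)).symm

theorem lab_of_bits {x : X} {n : ℕ} (h : ∀ j ∈ [0, 1, 2, 3, 4, 5], (L j).testBit x.1 = n.testBit j) :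
    lab x = dec n := by
  funext i
  show cc _ = cc _
  rw [h _ (ix_mem i)]

theorem pol_spec (v : ℕ) (x : X) : cc ((pol v).testBit x.1) = polar q6 (dec v) (lab x) := by
  obtain ⟨n, hn, h, hb⟩ := exists_code x
  rw [h, B_dec]
  congr 1
  have e : (pol v).testBit x.1 = ((((v.testBit 0 && (L 2).testBit x.1) ^^ (v.testBit 2 && (L 0).testBit x.1)) ^^
      ((v.testBit 1 && (L 3).testBit x.1) ^^ (v.testBit 3 && (L 1).testBit x.1))) ^^
      ((v.testBit 4 && (L 5).testBit x.1) ^^ (v.testBit 5 && (L 4).testBit x.1))) := by
    rw [pol]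
    simp only [nxor, testBit_sel, tb_eq]
  rw [e, hb 0 (by decide), hb 1 (by decide), hb 2 (by decide), hb 3 (by decide), hb 4 (by decide),
    hb 5 (by decide)]
  simp only [Bn]

/-! ### The generators -/

theorem gd_spec {g : GD} (hg : g ∈ gs) :
    (∀ j ∈ [0, 1, 2, 3, 4, 5], ∀ p, (L j).testBit (wperm (nw g.w) p) =
      ((L j).testBit p ^^ (g.v.testBit j && (pol g.v).testBit p))) ∧
    (∀ p, M.testBit (wperm (nw g.w) p) = M.testBit p) ∧
    ptWord (nw g.u) (ptn g.x) = g.p ∧ M.testBit g.p = true ∧
    (∀ j ∈ [0, 1, 2, 3, 4, 5], (L j).testBit g.p = g.v.testBit j) := by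
  have h : gdB g = true := List.all_eq_true.1 gd_all g hg
  rw [gdB, Bool.and_eq_true, Bool.and_eq_true, Bool.and_eq_true, Bool.and_eq_true] at h
  obtain ⟨⟨h1, h2⟩, h3, h5, h6⟩ := h
  refine ⟨fun j hj p => ?_, fun p => ?_, Nat.eq_of_beq_eq_true h3, ?_, fun j hj => ?_⟩
  · have h7 := List.all_eq_true.1 h1 j hj
    have h8 := Nat.eq_of_beq_eq_true h7
    rw [← testBit_appWord (nw_ok _), h8, nxor, testBit_sel, tb_eq]
  · rw [← testBit_appWord (nw_ok _), Nat.eq_of_beq_eq_true h2]
  · rw [← tb_eq]; exact h5
  · have h7 := toNat_inj (List.all_eq_true.1 h6 j hj)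
    rw [tb_eq, tb_eq] at h7
    exact h7

/-- the transposition of a generator -/
noncomputable abbrev tr (g : GD) : Spor.Fi22 := wd g.w

theorem gp_lt {g : GD} (hg : g ∈ gs) : g.p < 3510 := by
  have h := (gd_spec hg).2.2.1
  have h2 := (wd g.u • pg g.x).2
  rw [val_wd_smul] at h2
  change ptWord (nw g.u) (ptn g.x) < 3510 at h2
  rwa [h] at h2

theorem tr_eq {g : GD} (hg : g ∈ gs) : tr g = tp ⟨g.p, gp_lt hg⟩ := by
  rw [tr, GD.w, tr_word]
  congr 1
  apply Subtype.ext
  rw [val_wd_smul]
  exact (gd_spec hg).2.2.1

theorem val_smul_tr (g : GD) (x : X) : (tr g • x).1 = wperm (nw g.w) x.1 := (wperm_eq g.w x).symm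

theorem in_M_gp {g : GD} (hg : g ∈ gs) : In M ⟨g.p, gp_lt hg⟩ := (gd_spec hg).2.2.2.1

theorem tr_mem {g : GD} (hg : g ∈ gs) : tr g ∈ Ct := by
  rw [tr_eq hg]
  exact tp_mem_Ct (in_M_gp hg)

theorem lab_tr {g : GD} (hg : g ∈ gs) (x : X) :
    lab (tr g • x) = lab x + polar q6 (dec g.v) (lab x) • dec g.v := by
  funext i
  show cc ((L (ix i)).testBit (tr g • x).1) = cc _ + polar q6 (dec g.v) (lab x) * cc (g.v.testBit (ix i))
  rw [val_smul_tr, (gd_spec hg).1 _ (ix_mem i), cc_xor, cc_and, pol_spec, mul_comm (cc (g.v.testBit (ix i)))]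

theorem lab_gp {g : GD} (hg : g ∈ gs) : lab ⟨g.p, gp_lt hg⟩ = dec g.v :=
  lab_of_bits fun j hj => (gd_spec hg).2.2.2.2 j hj

/-! ### The table -/

theorem mem_of_mk {l : List (ℕ × ℕ)} {p : ℕ} (h : (mk l).testBit p = true) : ∃ n, (p, n) ∈ l := by
  induction l with
  | nil =>
    change (0 : ℕ).testBit p = true at h
    rw [Nat.zero_testBit] at h
    exact absurd h (by simp)
  | cons y l ih =>
    change (Nat.lor (Nat.pow 2 y.1) (mk l)).testBit p = true at h
    rw [nor, Bool.or_eq_true] at h
    rcases h with h | h
    · have h1 : (2 ^ y.1).testBit p = true := h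
      rw [Nat.testBit_two_pow] at h1
      have h2 : y.1 = p := by simpa using h1
      exact ⟨y.2, by rw [← h2]; exact List.mem_cons_self⟩
    · obtain ⟨n, hn⟩ := ih h
      exact ⟨n, List.mem_cons_of_mem _ hn⟩

theorem mem_tab {x : X} (h : In M x) : ∃ n, (x.1, n) ∈ tab := by
  apply mem_of_mk
  rw [Nat.eq_of_beq_eq_true mk_tab]
  exact h

theorem tab_spec {p n : ℕ} (h : (p, n) ∈ tab) :
    n < 64 ∧ qn n = true ∧ ∃ hp : p < 3510, In M ⟨p, hp⟩ ∧ lab ⟨p, hp⟩ = dec n := by
  have h1 := List.all_eq_true.1 tab_q _ h
  have h2 := List.all_eq_true.1 tab_ok _ h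
  rw [Bool.and_eq_true] at h1
  rw [Bool.and_eq_true, Bool.and_eq_true] at h2
  have h3 : n < 64 := by
    have := Nat.le_of_ble_eq_true h1.1
    omega
  have h4 : p < 3510 := by
    have := Nat.le_of_ble_eq_true h2.2.1
    change p ≤ 3509 at this
    omega
  refine ⟨h3, h1.2, h4, ?_, ?_⟩
  · show M.testBit p = true
    rw [← tb_eq]
    exact h2.1
  · apply lab_of_bits
    intro j hj
    have h7 := toNat_inj (List.all_eq_true.1 h2.2.2 j hj)
    rw [tb_eq, tb_eq] at h7
    exact h7

theorem lab_q {x : X} (h : In M x) : q6 (lab x) = 1 := by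
  obtain ⟨n, hn⟩ := mem_tab h
  obtain ⟨_, h2, hp, _, h4⟩ := tab_spec hn
  have : lab x = dec n := h4
  rw [this, q_dec, h2]
  rfl

theorem lab_surj {v : V6} (hv : q6 v = 1) : ∃ x, In M x ∧ lab x = v := by
  obtain ⟨n, hn, rfl⟩ := dec_surj v
  have hq : qn n = true := by
    rw [q_dec] at hv
    cases h : qn n
    · rw [h] at hv
      exact absurd hv (by decide)
    · rfl
  have h1 := tab_surj ⟨n, hn⟩ hq
  rw [List.elem_iff, List.mem_map] at h1
  obtain ⟨⟨p, m⟩, hm, e⟩ := h1
  change m = n at e
  subst e
  obtain ⟨_, _, hp, h3, h4⟩ := tab_spec hm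
  exact ⟨_, h3, h4⟩

/-! ### Transitivity -/

/-- The group generated by the seven transpositions. -/
noncomputable def H1 : Subgroup Spor.Fi22 := Subgroup.closure {k | ∃ g ∈ gs, tr g = k}

theorem nws_mem {w : List Net} (hw : w ∈ nws gw) : ∃ g ∈ gs, w = nw g.w := by
  obtain ⟨v, hv, rfl⟩ := List.mem_map.1 hw
  obtain ⟨g, hg, rfl⟩ := List.mem_map.1 hv
  exact ⟨g, hg, rfl⟩

theorem nws_K {w : List Net} (hw : w ∈ nws gw) : wperm w ∈ H1.map φ := by
  obtain ⟨g, hg, rfl⟩ := nws_mem hw
  exact ⟨tr g, Subgroup.subset_closure ⟨g, hg, rfl⟩, φ_wd _⟩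

/-- the point of `d` -/
noncomputable abbrev xd : X := pg .d
/-- the point of `i` -/
noncomputable abbrev xi : X := pg .i

theorem trans_M {x : X} (h : In M x) : ∃ k ∈ H1, k • xd = x := by
  have h1 := Nat.eq_of_beq_eq_true sat_M
  have h2 : M.testBit x.1 = true := h
  rw [← h1] at h2
  obtain ⟨_, ⟨k, hk, rfl⟩, hk2⟩ := sat_point_spec (K := H1.map φ) (nws_ok gw) (fun w hw => nws_K hw) 5
    (p₀ := 16) h2
  exact ⟨k, hk, Subtype.ext hk2⟩

theorem trans_O2 {x : X} (h : In O2 x) : ∃ k ∈ H1, k • pg .c = x := by
  have h1 := Nat.eq_of_beq_eq_true sat_O2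
  have h2 : O2.testBit x.1 = true := h
  rw [← h1] at h2
  obtain ⟨_, ⟨k, hk, rfl⟩, hk2⟩ := sat_point_spec (K := H1.map φ) (nws_ok gw) (fun w hw => nws_K hw) 6
    (p₀ := 6) h2
  exact ⟨k, hk, Subtype.ext hk2⟩

theorem H1_le : H1 ≤ Ct := by
  rw [H1, Subgroup.closure_le]
  rintro _ ⟨g, hg, rfl⟩
  exact tr_mem hg

/-! ### Elements acting on the labels as isometries -/

/-- `g` acts on the labels as the isometry `A`. -/
structure Rel (g : Spor.Fi22) (A : orth (q6 : V6 → ZMod 2)) : Prop where
  mem : g ∈ Ct
  lab : ∀ x, In M x → lab (g • x) = (A : V6 ≃ₗ[ZMod 2] V6) (lab x)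

theorem Rel.one : Rel 1 1 where
  mem := one_mem _
  lab x _ := by rw [one_smul]; rfl

theorem Rel.mul {g h : Spor.Fi22} {A C : orth (q6 : V6 → ZMod 2)} (h1 : Rel g A) (h2 : Rel h C) :
    Rel (g * h) (A * C) where
  mem := mul_mem h1.mem h2.mem
  lab x hx := by
    rw [mul_smul, h1.lab _ (in_M_smul h2.mem hx), h2.lab x hx]
    rfl

theorem Rel.inv {g : Spor.Fi22} {A : orth (q6 : V6 → ZMod 2)} (h1 : Rel g A) : Rel g⁻¹ A⁻¹ where
  mem := inv_mem h1.mem
  lab x hx := by
    have h3 := h1.lab _ (in_M_smul (inv_mem h1.mem) hx)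
    rw [smul_inv_smul] at h3
    rw [h3]
    exact ((A : V6 ≃ₗ[ZMod 2] V6).symm_apply_apply _).symm

theorem q_ne {v : V6} (h : q6 v = 1) : q6 v ≠ 0 := by rw [h]; exact one_ne_zero

theorem refl_app {v : V6} (h : q6 v = 1) (x : V6) :
    (refl q6 v (q_ne h) : V6 ≃ₗ[ZMod 2] V6) x = x + polar q6 v x • v := by
  rw [Cfsg.Agent.LieClassical.ReflGen.refl_apply, h, inv_one, one_mul, sub_eq_add_neg]
  congr 1
  exact neg_eq_of_add_eq_zero_right (LabOrth.add_self _)

theorem qv {g : GD} (hg : g ∈ gs) : q6 (dec g.v) = 1 := by
  rw [← lab_gp hg]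
  exact lab_q (in_M_gp hg)

theorem rel_tr {g : GD} (hg : g ∈ gs) : Rel (tr g) (refl q6 (dec g.v) (q_ne (qv hg))) where
  mem := tr_mem hg
  lab x _ := by rw [lab_tr hg, refl_app (qv hg)]

theorem rel_H1 {k : Spor.Fi22} (hk : k ∈ H1) : ∃ A, Rel k A := by
  induction hk using Subgroup.closure_induction with
  | mem x hx =>
    obtain ⟨g, hg, rfl⟩ := hx
    exact ⟨_, rel_tr hg⟩
  | one => exact ⟨1, Rel.one⟩
  | mul x y _ _ hx hy =>
    obtain ⟨A, hA⟩ := hx
    obtain ⟨C, hC⟩ := hy
    exact ⟨_, hA.mul hC⟩
  | inv x _ hx =>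
    obtain ⟨A, hA⟩ := hx
    exact ⟨_, hA.inv⟩

/-- the generators -/
def gd : GD := ⟨[], .d, 16, 5⟩
def gi : GD := ⟨[], .i, 92, 5⟩

theorem gd_mem : gd ∈ gs := List.mem_cons_self
theorem gi_mem : gi ∈ gs := List.mem_cons_of_mem _ List.mem_cons_self

theorem in_M_d : In M xd := in_M_gp gd_mem
theorem in_M_i : In M xi := in_M_gp gi_mem

theorem lab_d : lab xd = dec 5 := lab_gp gd_mem
theorem lab_i : lab xi = dec 5 := lab_gp gi_mem

theorem tr_gd : tr gd = tp xd := tr_eq gd_mem

theorem conj_refl (A : orth (q6 : V6 → ZMod 2)) {v : V6} (hv : q6 v = 1) (x : V6) :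
    (A : V6 ≃ₗ[ZMod 2] V6) ((refl q6 v (q_ne hv) : V6 ≃ₗ[ZMod 2] V6)
      (((A⁻¹ : orth (q6 : V6 → ZMod 2)) : V6 ≃ₗ[ZMod 2] V6) x)) =
      x + polar q6 ((A : V6 ≃ₗ[ZMod 2] V6) v) x • (A : V6 ≃ₗ[ZMod 2] V6) v := by
  have h1 : (A : V6 ≃ₗ[ZMod 2] V6) (((A⁻¹ : orth (q6 : V6 → ZMod 2)) : V6 ≃ₗ[ZMod 2] V6) x) = x :=
    (A : V6 ≃ₗ[ZMod 2] V6).apply_symm_apply x
  rw [refl_app hv, map_add, map_smul, h1]
  congr 2
  rw [← orth_polar A, h1]

/-- The transposition of a point acts on the labels as the reflection of its label. -/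
theorem lab_tp {x : X} (hx : In M x) {y : X} (hy : In M y) :
    lab (tp x • y) = lab y + polar q6 (lab x) (lab y) • lab x := by
  obtain ⟨k, hk, rfl⟩ := trans_M hx
  obtain ⟨A, hA⟩ := rel_H1 hk
  have h1 := (hA.mul (rel_tr gd_mem)).mul hA.inv
  rw [tr_gd, ← tp_smul] at h1
  rw [h1.lab y hy, hA.lab _ in_M_d, lab_d]
  exact conj_refl A (qv gd_mem) (lab y)

/-! ### Points with the same label -/

theorem testBit_sub (j : ℕ) {x : X} (hx : In M x) :
    (Nat.xor M (L j)).testBit x.1 = !(L j).testBit x.1 := by
  rw [nxor, show M.testBit x.1 = true from hx]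
  cases (L j).testBit x.1 <;> rfl

theorem fibre_d {x : X} (hx : In M x) (h : lab x = lab xd) : x = xd ∨ x = xi := by
  rw [lab_d] at h
  have hb : ∀ j ∈ [0, 1, 2, 3, 4, 5], (L j).testBit x.1 = (5 : ℕ).testBit j := by
    intro j hj
    obtain ⟨i, rfl⟩ := ix_surj j hj
    exact cc_inj (congrFun h i)
  have h1 := congrArg (fun n => Nat.testBit n x.1) (Nat.eq_of_beq_eq_true fibre)
  simp only [nand, nor] at h1
  rw [testBit_sub 1 hx, testBit_sub 3 hx, testBit_sub 4 hx, testBit_sub 5 hx, hb 0 (by decide), hb 1 (by decide), hb 2 (by decide), hb 3 (by decide),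
    hb 4 (by decide), hb 5 (by decide)] at h1
  have h2 : ((2 ^ 16 : ℕ).testBit x.1 || (2 ^ 92 : ℕ).testBit x.1) = true := by
    rw [← show _ = ((2 ^ 16 : ℕ).testBit x.1 || (2 ^ 92 : ℕ).testBit x.1) from h1]
    decide
  rw [Bool.or_eq_true, Nat.testBit_two_pow, Nat.testBit_two_pow] at h2
  rcases h2 with h2 | h2
  · left
    have : 16 = x.1 := by simpa using h2
    exact Subtype.ext this.symm
  · right
    have : 92 = x.1 := by simpa using h2
    exact Subtype.ext this.symm

theorem xd_ne_xi : xi ≠ xd := by
  intro h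
  have : (92 : ℕ) = 16 := congrArg Subtype.val h
  exact absurd this (by decide)

theorem di_comm : tp xd * tp xi = tp xi * tp xd := by
  rw [tp_pg, tp_pg]
  have h := gen_cox .d .i
  have hl : coxLabel Spor.Fi22.edges .d .i = 2 := by decide
  rw [hl, pow_two] at h
  have h5 := eq_inv_of_mul_eq_one_left h
  rw [h5, mul_inv_rev, inv_eq_of_mul_eq_one_left (gen_sq .i), inv_eq_of_mul_eq_one_left (gen_sq .d)]

theorem two {x : X} (hx : In M x) : ∃ y, In M y ∧ y ≠ x ∧ lab y = lab x ∧ tp x * tp y = tp y * tp x ∧
    ∀ z, In M z → lab z = lab x → z = x ∨ z = y := by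
  obtain ⟨k, hk, rfl⟩ := trans_M hx
  obtain ⟨A, hA⟩ := rel_H1 hk
  refine ⟨k • xi, in_M_smul hA.mem in_M_i, fun h => xd_ne_xi (smul_left_cancel k h), ?_, ?_, ?_⟩
  · rw [hA.lab _ in_M_i, hA.lab _ in_M_d, lab_d, lab_i]
  · rw [tp_smul, tp_smul]
    calc k * tp xd * k⁻¹ * (k * tp xi * k⁻¹) = k * (tp xd * tp xi) * k⁻¹ := by group
      _ = k * (tp xi * tp xd) * k⁻¹ := by rw [di_comm]
      _ = k * tp xi * k⁻¹ * (k * tp xd * k⁻¹) := by group
  · intro z hz h
    have h1 : lab (k⁻¹ • z) = lab xd := by
      rw [hA.inv.lab z hz, h, hA.lab _ in_M_d]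
      exact (A : V6 ≃ₗ[ZMod 2] V6).symm_apply_apply _
    rcases fibre_d (in_M_smul (inv_mem hA.mem) hz) h1 with h2 | h2
    · left; rw [← h2, smul_inv_smul]
    · right; rw [← h2, smul_inv_smul]

theorem three (x y : X) : tp x * tp y = tp y * tp x ∨ tp x * tp y * tp x = tp y * tp x * tp y :=
  Cfsg.Agent.OddHalf.D8.Fi22.kTrans0.three _ (tp_mem x) _ (tp_mem y)

theorem comm_iff {x y : X} (hx : In M x) (hy : In M y) :
    tp x * tp y = tp y * tp x ↔ polar q6 (lab x) (lab y) = 0 := by
  have h := lab_tp hx hy
  constructor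
  · intro h1
    rw [(tp_comm x y).2 h1] at h
    rcases z2 (polar q6 (lab x) (lab y)) with h2 | h2
    · exact h2
    · rw [h2, one_smul] at h
      have h3 : lab x = 0 := left_eq_add.1 h
      have h4 := lab_q hx
      rw [h3, QuadraticMap.map_zero] at h4
      exact absurd h4 (by decide)
  · intro h1
    rw [h1, zero_smul, add_zero] at h
    obtain ⟨y', hy', hne, hl, hc, hz⟩ := two hy
    rcases hz _ (in_M_smul (tp_mem_Ct hx) hy) h with h2 | h2
    · exact (tp_comm x y).1 h2
    · rcases three x y with h3 | h3
      · exact h3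
      · exfalso
        have h4 := congrArg tp h2
        rw [tp_smul, tp_inv] at h4
        rw [← h4, h3] at hc
        -- `y (y x y) = (y x y) y`
        have e1 : tp y * (tp y * tp x * tp y) = tp x * tp y := by
          rw [← mul_assoc, ← mul_assoc, tp_mul_self, one_mul]
        have e2 : tp y * tp x * tp y * tp y = tp y * tp x := by
          rw [mul_assoc, tp_mul_self, mul_one]
        rw [e1, e2] at hc
        apply hne
        apply tp_inj
        rw [← h4, hc, mul_assoc, tp_mul_self, mul_one]

/-! ### Centralising the 72 -/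

theorem cent {g : Spor.Fi22} (h : ∀ x, In M x → g • x = x) : g = 1 := by
  have hc : ∀ x, In M x → g * tp x = tp x * g := fun x hx => (smul_eq_iff g x).1 (h x hx)
  have hH : ∀ k ∈ H1, g * k = k * g := by
    intro k hk
    induction hk using Subgroup.closure_induction with
    | mem x hx =>
      obtain ⟨g', hg', rfl⟩ := hx
      rw [tr_eq hg']
      exact hc _ (in_M_gp hg')
    | one => simp
    | mul x y _ _ hx hy => rw [← mul_assoc, hx, mul_assoc, hy, mul_assoc]
    | inv x _ hx =>
      calc g * x⁻¹ = x⁻¹ * (x * g) * x⁻¹ := by group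
        _ = x⁻¹ * (g * x) * x⁻¹ := by rw [hx]
        _ = x⁻¹ * g := by group
  -- the image of the point of `c`
  have hx0 : g • pg .c = pg .c ∨ g • pg .c = tau (pg .c) := by
    have h0 : ∀ b ∈ five, (mv (nw (sw b))).testBit (pg .c).1 = false := by
      rw [← mvAll_false]
      have := five_zero
      rw [tb_eq] at this
      exact this
    have h1 : (mvAll five).testBit (g • pg .c).1 = false := by
      rw [mvAll_false]
      intro b hb
      have h2 := (mv_false _ _).1 (h0 b hb)
      rw [mv_false]
      have h3 := List.all_eq_true.1 five_all b hb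
      rw [fiveB, Bool.and_eq_true] at h3
      have h4 : In M (wd b.1 • pg b.2.1) := by
        show M.testBit (wd b.1 • pg b.2.1).1 = true
        rw [val_wd_smul]
        have h5 : ptWord (nw b.1) (pg b.2.1).1 = b.2.2 := Nat.eq_of_beq_eq_true h3.1
        rw [h5, ← tb_eq]
        exact h3.2
      have h6 : wd (sw b) = tp (wd b.1 • pg b.2.1) := tr_word _ _
      rw [h6] at h2 ⊢
      rw [smul_smul, ← hc _ h4, mul_smul, h2]
    have hM : M.testBit (g • pg .c).1 = false := by
      cases h2 : M.testBit (g • pg .c).1
      · rfl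
      · exfalso
        have h3 : g⁻¹ • (g • pg .c) = g⁻¹ • (g • pg .c) := rfl
        have h4 : g • (g • pg .c) = g • pg .c := h _ h2
        have h5 : g • pg .c = pg .c := smul_left_cancel g h4
        rw [h5] at h2
        have h6 := six_M
        rw [tb_eq] at h6
        change M.testBit 6 = true at h2
        rw [h6] at h2
        exact absurd h2 (by simp)
    have h7 := Nat.eq_of_beq_eq_true five_sep
    have h8 := testBit_U.2 (g • pg .c).2
    rw [← h7, nor, nor, nor, h1, hM, Bool.false_or, Bool.false_or, Bool.or_eq_true] at h8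
    rcases h8 with h8 | h8
    · left
      have h9 : (2 ^ 6).testBit (g • pg .c).1 = true := h8
      rw [Nat.testBit_two_pow] at h9
      have h10 : 6 = (g • pg .c).1 := by simpa using h9
      exact Subtype.ext h10.symm
    · right
      have h9 : (2 ^ 26).testBit (g • pg .c).1 = true := h8
      rw [Nat.testBit_two_pow] at h9
      have h10 : 26 = (g • pg .c).1 := by simpa using h9
      apply Subtype.ext
      rw [← h10]
      have h11 : sN.perm (ptWord (nw [.d, .i]) 6) = 26 := by
        rw [← Net.pt_eq sN_ok]
        exact Nat.eq_of_beq_eq_true t_six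
      rw [← h11]
      show _ = sN.perm ((gen .d * gen .i) • pg .c).1
      have h12 : ((gen .d * gen .i) • pg .c : X) = wd [.d, .i] • pg .c := by
        rw [wd_cons, wd_cons, wd_nil, mul_one]
      rw [h12, val_wd_smul]
      rfl
  have key : ∀ (α : MulAut Spor.Fi22) (β : X → X), (∀ x, α (tp x) = tp (β x)) →
      (∀ x, In M x → β x = x) → (∀ x, In O2 x → g • x = β x) → MulAut.conj g = α := by
    intro α β hα hβ hr
    have h1 : ∀ x, (In M x ∨ In O2 x) → MulAut.conj g (tp x) = α (tp x) := by
      intro x hx
      rw [MulAut.conj_apply, ← tp_smul, hα]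
      rcases hx with hx | hx
      · rw [h x hx, hβ x hx]
      · rw [hr x hx]
    have hrest : ∀ s ∈ rest, MulAut.conj g (wd s.1) = α (wd s.1) → MulAut.conj g (gen s.2) = α (gen s.2) := by
      intro s hs hw
      have h2 : MulAut.conj g (tp (wd s.1 • pg s.2)) = α (tp (wd s.1 • pg s.2)) := by
        apply h1
        right
        show O2.testBit (wd s.1 • pg s.2).1 = true
        rw [val_wd_smul, ← tb_eq]
        exact List.all_eq_true.1 rest_all s hs
      rw [tp_smul, tp_pg, map_mul, map_mul, map_mul, map_mul, map_inv, map_inv, hw] at h2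
      exact mul_left_cancel (mul_right_cancel h2)
    have hd : MulAut.conj g (gen .d) = α (gen .d) := by
      rw [← tp_pg]
      exact h1 _ (Or.inl in_M_d)
    have hi : MulAut.conj g (gen .i) = α (gen .i) := by
      rw [← tp_pg]
      exact h1 _ (Or.inl in_M_i)
    have h11 : MulAut.conj g (wd []) = α (wd []) := by rw [wd_nil, map_one, map_one]
    have hcc : MulAut.conj g (gen .c) = α (gen .c) := hrest ([], .c) (by simp [rest]) h11
    have he : MulAut.conj g (gen .e) = α (gen .e) := hrest ([], .e) (by simp [rest]) h11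
    have hh : MulAut.conj g (gen .h) = α (gen .h) := hrest ([.c, .d], .h) (by simp [rest]) (by
      simp only [wd_cons, wd_nil, mul_one]
      rw [map_mul, map_mul, hcc, hd])
    have hb : MulAut.conj g (gen .b) = α (gen .b) := hrest ([.c], .b) (by simp [rest]) (by
      simp only [wd_cons, wd_nil, mul_one]
      rw [hcc])
    have hf : MulAut.conj g (gen .f) = α (gen .f) := hrest ([.e], .f) (by simp [rest]) (by
      simp only [wd_cons, wd_nil, mul_one]
      rw [he])
    have ha : MulAut.conj g (gen .a) = α (gen .a) := hrest ([.c, .b], .a) (by simp [rest]) (by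
      simp only [wd_cons, wd_nil, mul_one]
      rw [map_mul, map_mul, hcc, hb])
    have hg : MulAut.conj g (gen .g) = α (gen .g) := hrest ([.e, .f], .g) (by simp [rest]) (by
      simp only [wd_cons, wd_nil, mul_one]
      rw [map_mul, map_mul, he, hf])
    have hall : ∀ s, MulAut.conj g (gen s) = α (gen s) := by
      intro s
      cases s
      exacts [ha, hb, hcc, hd, he, hf, hg, hh, hi]
    ext k : 1
    have hk : k ∈ Subgroup.closure (Set.range gen) := by rw [closure_gen]; trivial
    induction hk using Subgroup.closure_induction with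
    | mem x hx =>
      obtain ⟨s, rfl⟩ := hx
      exact hall s
    | one => rw [map_one, map_one]
    | mul x y _ _ hx hy => rw [map_mul, map_mul, hx, hy]
    | inv x _ hx => rw [map_inv, map_inv, hx]
  rcases hx0 with h0 | h0
  · have h1 : MulAut.conj g = 1 := by
      apply key 1 id (fun x => rfl) (fun x _ => rfl)
      intro x hx
      obtain ⟨k, hk, rfl⟩ := trans_O2 hx
      rw [smul_smul, hH k hk, mul_smul, h0]
      rfl
    apply eq_one_of_fix
    intro p hp
    have h2 : g • (⟨p, hp⟩ : X) = ⟨p, hp⟩ := by
      apply tp_inj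
      rw [tp_smul, ← MulAut.conj_apply, h1]
      rfl
    exact congrArg Subtype.val h2
  · exfalso
    have h1 : MulAut.conj g = tt := by
      apply key tt tau tt_tp
      · intro x hx
        exact (tau_eq_iff x).2 hx
      · intro x hx
        obtain ⟨k, hk, rfl⟩ := trans_O2 hx
        rw [smul_smul, hH k hk, mul_smul, h0, tau_smul, mem_Ct.1 (H1_le hk)]
    apply flipA_ne_conj (g * (gen .d * gen .i)⁻¹)
    rw [map_mul, h1, map_inv, tt, mul_inv_cancel_right]

/-- **The 72 transpositions and their labels.** -/
theorem labelled : Lab q6 Ct tp {x | In M x} lab where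
  sp := sp
  smul_tp := tp_smul
  sq := tp_mul_self
  inj _ _ := tp_inj
  three := three
  smulF _ hg _ hx := in_M_smul hg hx
  tpH _ hx := tp_mem_Ct hx
  q1 _ hx := lab_q hx
  surj _ hv := lab_surj hv
  two x hx := by
    obtain ⟨y, hy, hne, hl, -, hz⟩ := two hx
    exact ⟨y, hy, hne, hl, fun z hz' => hz z hz'⟩
  comm _ hx _ hy := comm_iff hx hy
  refl _ hx _ hy := lab_tp hx hy
  cent _ _ h := cent h

end Cfsg.Agent.H833.SixPts
end

-- part: H833/SixEnd
section
/-!
# The group of fixed points of the flip times `d i` is `2⁶ : O₆⁻(2)` (helper833)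
-/

set_option autoImplicit false

namespace Cfsg.Agent.H833.SixEnd

open Cfsg Subgroup
open Cfsg.Agent.Fischer.Fi22PtsRep (gen)
open Cfsg.Agent.H836.EightPts (In tp pg)
open Cfsg.Agent.H833.SixData Cfsg.Agent.H833.SixChk Cfsg.Agent.H833.LabOrth Cfsg.Agent.H833.SixPts
open Cfsg.Agent.LieClassical.ReflGen (orth)

/-- the identification of the isometry groups -/
theorem iso_orth : Nonempty (isometryGroup (ZMod 2) (quadFormMinus 2 (ZMod 2) 1 1) ≃* orth (q6 : V6 → ZMod 2)) := by
  have e := Cfsg.Agent.LieClassical.SixModel.isometryEquiv (quadFormMinus 2 (ZMod 2) 1 1)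
  rw [← Cfsg.Agent.LieClassical.OrthForms.coe_minusForm] at e ⊢
  exact ⟨e⟩

/-- no normal 2-subgroups in `O₆⁻(2)` -/
theorem normal_two {N : Subgroup (orth (q6 : V6 → ZMod 2))} (hN : N.Normal) (h2 : IsPGroup 2 N) : N = ⊥ := by
  obtain ⟨e⟩ := iso_orth
  obtain ⟨e'⟩ := Cfsg.Agent.H845.AutUFour.nonempty_equiv Cfsg.Agent.Fischer.Unit22.hF
  let f : orth (q6 : V6 → ZMod 2) ≃* MulAut (PSU 4 Cfsg.Agent.SporRec.GF4.F4 2) := e.symm.trans e'.symm
  have : Fact (Nat.Prime 2) := ⟨Nat.prime_two⟩
  have hfin : Finite (MulAut (PSU 4 Cfsg.Agent.SporRec.GF4.F4 2)) :=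
    Nat.finite_of_card_ne_zero (by rw [Cfsg.Agent.H833.CentQuot.card_mulAut]; norm_num)
  have hfU : Finite (PSU 4 Cfsg.Agent.SporRec.GF4.F4 2) := by
    have hinj : Function.Injective (MulAut.conj : PSU 4 Cfsg.Agent.SporRec.GF4.F4 2 →* _) := by
      rw [← MonoidHom.ker_eq_bot_iff, eq_bot_iff, ← Cfsg.Agent.H833.CentQuot.center_U]
      intro x hx
      rw [Subgroup.mem_center_iff]
      intro g
      have h1 := congrArg (fun α : MulAut (PSU 4 Cfsg.Agent.SporRec.GF4.F4 2) => α g) (MonoidHom.mem_ker.1 hx)
      simp only [MulAut.conj_apply, MulAut.one_apply] at h1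
      exact (mul_inv_eq_iff_eq_mul.1 h1).symm
    exact Finite.of_injective _ hinj
  have h1 : N.map f.toMonoidHom = ⊥ :=
    Cfsg.Agent.H833.Induced.normal_p_of_aut Cfsg.Agent.H833.CentQuot.simple_U
      Cfsg.Agent.H833.CentQuot.center_U (hN.map _ f.surjective) (h2.map _)
  exact (Subgroup.map_eq_bot_iff_of_injective N f.injective).1 h1

/-- the points of the generators other than `i` -/
def xs (k : Fin 6) : Cfsg.Agent.Fischer.Fi22Order.X :=
  ⟨![16, 17, 19, 97, 104, 631] k, by fin_cases k <;> decide⟩

theorem exists_rho : ∃ ρ : Ct →* orth (q6 : V6 → ZMod 2), Function.Surjective ρ ∧ Nat.card ρ.ker = 64 ∧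
    ∀ g ∈ ρ.ker, g * g = 1 := by
  obtain ⟨ρ, hρ⟩ := labelled.exists_rho
  refine ⟨ρ, labelled.surjective refl_top ρ hρ, ?_, ?_⟩
  · have hV : Nat.card V6 = 64 := by
      rw [Nat.card_eq_fintype_card, Fintype.card_fun]
      simp [ZMod.card]
    rw [← hV]
    have hm : ∀ k, ∃ g ∈ gs, g.p = (xs k).1 := by
      intro k
      fin_cases k
      · exact ⟨_, List.mem_cons_self, rfl⟩
      · exact ⟨_, List.mem_cons_of_mem _ (List.mem_cons_of_mem _ List.mem_cons_self), rfl⟩
      · exact ⟨_, List.mem_cons_of_mem _ (List.mem_cons_of_mem _ (List.mem_cons_of_mem _ List.mem_cons_self)), rfl⟩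
      · exact ⟨_, List.mem_cons_of_mem _ (List.mem_cons_of_mem _ (List.mem_cons_of_mem _ (List.mem_cons_of_mem _
          List.mem_cons_self))), rfl⟩
      · exact ⟨_, List.mem_cons_of_mem _ (List.mem_cons_of_mem _ (List.mem_cons_of_mem _ (List.mem_cons_of_mem _
          (List.mem_cons_of_mem _ List.mem_cons_self)))), rfl⟩
      · exact ⟨_, List.mem_cons_of_mem _ (List.mem_cons_of_mem _ (List.mem_cons_of_mem _ (List.mem_cons_of_mem _
          (List.mem_cons_of_mem _ (List.mem_cons_of_mem _ List.mem_cons_self))))), rfl⟩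
    have hm' : ∀ g (hg : g ∈ gs), (∃ k, xs k = ⟨g.p, gp_lt hg⟩) ∨ (⟨g.p, gp_lt hg⟩ : Cfsg.Agent.Fischer.Fi22Order.X) = xi := by
      intro g hg
      simp only [gs, List.mem_cons, List.not_mem_nil, or_false] at hg
      rcases hg with rfl | rfl | rfl | rfl | rfl | rfl | rfl
      · exact Or.inl ⟨0, rfl⟩
      · exact Or.inr rfl
      · exact Or.inl ⟨1, rfl⟩
      · exact Or.inl ⟨2, rfl⟩
      · exact Or.inl ⟨3, rfl⟩
      · exact Or.inl ⟨4, rfl⟩
      · exact Or.inl ⟨5, rfl⟩
    refine labelled.card_ker (ι := Fin 6) (by rw [hV]; rfl) ρ hρ xs ?_ 0 xi in_M_i ?_ ?_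
    · intro k
      obtain ⟨g, hg, e⟩ := hm k
      have h1 := in_M_gp hg
      have h2 : (⟨g.p, gp_lt hg⟩ : Cfsg.Agent.Fischer.Fi22Order.X) = xs k := Subtype.ext e
      rw [h2] at h1
      exact h1
    · exact lab_i.trans lab_d.symm
    · intro Y hY hi h1 h2 x hx
      obtain ⟨k, hk, rfl⟩ := trans_M hx
      have h0 : xd ∈ Y := hY 0
      -- `Y` is stable under the group
      have key : ∀ k ∈ H1, ∀ y ∈ Y, k • y ∈ Y := by
        intro k hk
        have hs : ∀ g (hg : g ∈ gs), ∀ y ∈ Y, tr g • y ∈ Y := by
          intro g hg y hy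
          rw [tr_eq hg]
          rcases hm' g hg with ⟨j, hj⟩ | hj
          · rw [← hj]; exact h1 j y hy
          · rw [hj]; exact h2 y hy
        have hkk : (∀ y ∈ Y, k • y ∈ Y) ∧ ∀ y ∈ Y, k⁻¹ • y ∈ Y := by
          induction hk using Subgroup.closure_induction with
          | mem x hx =>
            obtain ⟨g, hg, rfl⟩ := hx
            refine ⟨hs g hg, fun y hy => ?_⟩
            have : (tr g)⁻¹ = tr g := by
              rw [tr_eq hg]
              exact inv_eq_of_mul_eq_one_right (labelled.sq _)
            rw [this]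
            exact hs g hg y hy
          | one => exact ⟨fun y hy => by rw [one_smul]; exact hy, fun y hy => by rw [inv_one, one_smul]; exact hy⟩
          | mul x y _ _ hx hy =>
            refine ⟨fun z hz => ?_, fun z hz => ?_⟩
            · rw [mul_smul]; exact hx.1 _ (hy.1 z hz)
            · rw [mul_inv_rev, mul_smul]; exact hy.2 _ (hx.2 z hz)
          | inv x _ hx => exact ⟨hx.2, fun y hy => by rw [inv_inv]; exact hx.1 y hy⟩
        exact hkk.1
      exact key k hk _ h0
  · intro g hg
    have h1 := (labelled.ker_iff ρ hρ g).1 (MonoidHom.mem_ker.1 hg)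
    exact Subtype.ext (labelled.sq_ker g.2 h1)

/-- the same for a group with a homomorphism onto the isometry group -/
theorem pCore_eq' {C : Type*} [Group C] (ρ : C →* orth (q6 : V6 → ZMod 2)) (hs : Function.Surjective ρ)
    (hc : Nat.card ρ.ker = 64) : pCore 2 C = ρ.ker := by
  apply le_antisymm
  · apply sSup_le
    rintro N ⟨hN, h2⟩
    have h1 := normal_two (hN.map ρ hs) (h2.map ρ)
    intro x hx
    rw [MonoidHom.mem_ker]
    have h3 : ρ x ∈ N.map ρ := ⟨x, hx, rfl⟩
    rwa [h1, Subgroup.mem_bot] at h3
  · apply le_sSup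
    exact ⟨inferInstance, IsPGroup.of_card (n := 6) (by rw [hc]; norm_num)⟩

theorem main_of {G : Type*} [Group G] (C : Subgroup G) (ρ : C →* orth (q6 : V6 → ZMod 2))
    (hs : Function.Surjective ρ) (hc : Nat.card ρ.ker = 64) (h2 : ∀ g ∈ ρ.ker, g * g = 1) :
    ∃ O : Subgroup G, O = (Cfsg.pCore 2 ↥C).map C.subtype ∧ Cfsg.IsElementaryAbelian 2 O ∧ Nat.card O = 64 ∧
    ∃ _ : (O.subgroupOf C).Normal,
      Nonempty (↥C ⧸ O.subgroupOf C ≃* Cfsg.isometryGroup (ZMod 2) (Cfsg.quadFormMinus 2 (ZMod 2) 1 1)) := by
  have hp := pCore_eq' ρ hs hc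
  refine ⟨(Cfsg.pCore 2 ↥C).map C.subtype, rfl, ?_, ?_, ?_⟩
  · rw [hp]
    have hsq : ∀ a ∈ ρ.ker.map C.subtype, a ^ 2 = 1 := by
      rintro _ ⟨g, hg, rfl⟩
      rw [pow_two]
      exact congrArg Subtype.val (h2 g hg)
    refine ⟨⟨⟨?_⟩⟩, hsq⟩
    intro a b
    apply Subtype.ext
    have e1 : (a : G) * a = 1 := by rw [← pow_two]; exact hsq a a.2
    have e2 : (b : G) * b = 1 := by rw [← pow_two]; exact hsq b b.2
    have e3 : ((a : G) * b) * (a * b) = 1 := by
      rw [← pow_two]; exact hsq _ (mul_mem a.2 b.2)
    show (a : G) * b = b * a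
    calc (a : G) * b = a * (a * b * (a * b)) * b := by rw [e3, mul_one]
      _ = (a * a) * (b * a) * (b * b) := by group
      _ = b * a := by rw [e1, e2, one_mul, mul_one]
  · rw [hp, card_map_of_injective (subtype_injective _), hc]
  · rw [hp]
    have hkeq : (ρ.ker.map C.subtype).subgroupOf C = ρ.ker :=
      comap_map_eq_self_of_injective (subtype_injective _) _
    have hn : ((ρ.ker.map C.subtype).subgroupOf C).Normal := by
      rw [hkeq]; infer_instance
    obtain ⟨e⟩ := iso_orth
    exact ⟨hn, ⟨((QuotientGroup.quotientMulEquivOfEq hkeq).trans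
      (QuotientGroup.quotientKerEquivOfSurjective ρ hs)).trans e.symm⟩⟩

theorem card_orth : Nat.card (orth (q6 : V6 → ZMod 2)) = 51840 := by
  obtain ⟨e⟩ := iso_orth
  rw [← Nat.card_congr e.toEquiv]
  exact Cfsg.Agent.H845.AutUFour.card_isometry

theorem card_Ct : Nat.card Ct = 3317760 := by
  obtain ⟨ρ, hs, hc, -⟩ := exists_rho
  rw [ρ.ker.card_eq_card_quotient_mul_card_subgroup,
    Nat.card_congr (QuotientGroup.quotientKerEquivOfSurjective ρ hs).toEquiv, card_orth, hc]

end Cfsg.Agent.H833.SixEnd
end

private theorem dce_97735fae508c : _root_.True := by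
  try have : _root_.True := by simp only [_root_.Cfsg.Agent.H833.SixPts.tt.eq_1]
  try have : _root_.True := by simp only [_root_.Cfsg.Agent.H833.SixChk.pol.eq_1]
  try have : _root_.True := by simp only [_root_.Cfsg.Agent.H833.SixChk.gdB.eq_1]
  try have : _root_.True := by simp only [_root_.Cfsg.Agent.H833.SixPts.H1.eq_1]
  try have : _root_.True := by simp only [_root_.Cfsg.Agent.H833.SixChk.cc.eq_1]
  try have : _root_.True := by simp only [_root_.Cfsg.Agent.H833.SixPts.tr.eq_1]
  try have : _root_.True := by simp only [_root_.Cfsg.Agent.H833.SixChk.Bn.eq_1]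
  try have : _root_.True := by simp only [_root_.Cfsg.Agent.H833.SixChk.rest.eq_1]
  try have : _root_.True := by simp only [_root_.Cfsg.Agent.H833.SixChk.fiveB.eq_1]
  try have : _root_.True := by simp only [_root_.Cfsg.Agent.H833.SixChk.gs.eq_1]
  try have : _root_.True := by simp only [_root_.Cfsg.Agent.H833.SixChk.qn.eq_1]
  exact _root_.True.intro
end
end
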